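import Cfsg.Agent.Lib.Recog.EightThree.Model

/-!
Owner: helper10. Computations in `S₃ × S₅` and in small symmetric groups for the 3-local characterisation
of `S₈`.
-/

set_option autoImplicit false
set_option linter.all false
set_option synthInstance.maxSize 1000
set_option maxRecDepth 8000

namespace CfsgLib.Recog.EightThreeSym

open Equiv CfsgLib.Recog.EightThree

abbrev S6 := Perm (Fin 6)

/-- The transposition `(0 1)` of the second factor. -/
def psig : Pair := (1, swap 0 1)
/-- The transposition `(2 3)` of the second factor. -/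
def ps : Pair := (1, swap 2 3)
/-- The transposition of the first factor. -/
def pxx : Pair := (s3, 1)
/-- A permutation carrying the four group fixing `4` to the one fixing `0`. -/
def hmap : S5 := swap 0 2 * swap 2 1 * (swap 1 3 * swap 3 4)
def ph : Pair := (1, hmap)
/-- An involution commuting with `pf`. -/
def pk : Pair := (1, swap 0 2 * swap 1 3)

/-- The centraliser of `⟨pz, pw⟩`. -/
def eighteen : Finset Pair := nine ∪ nine.image (· * psig)

theorem centralize_nine18 : ∀ p : Pair, p * pz = pz * p → p * pw = pw * p → p ∈ eighteen := by decide +kernel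

theorem eighteen_facts : eighteen.card = 18 ∧
    (∀ p ∈ eighteen, (∀ q ∈ nine, p * q = q * p) ∧
      (p * p = 1 → p = 1 ∨ p = psig) ∧ (p * p * p = 1 → p ∈ nine)) := by decide +kernel

/-- `p` normalises `⟨pz, pw⟩`. -/
def Norm9 (p : Pair) : Prop := p * pz * p⁻¹ ∈ nine ∧ p * pw * p⁻¹ ∈ nine

instance : DecidablePred Norm9 := fun p => inferInstanceAs (Decidable (_ ∧ _))

theorem count_norm9 : (Finset.univ.filter Norm9).card = 72 := by decide +kernel

theorem count_commute_pz : (Finset.univ.filter fun p : Pair => p * pz = pz * p).card = 360 := by decide +kernel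

theorem norm_pz : ∀ p : Pair, p * pz * p⁻¹ = pz ∨ p * pz * p⁻¹ = pz * pz := by decide +kernel

theorem norm9_basic : Norm9 pf ∧ Norm9 pxx ∧ Norm9 psig ∧ Norm9 ps ∧ Norm9 pb := by decide +kernel

theorem nine_commute_pz : ∀ p ∈ nine, p * pz = pz * p := by decide +kernel

theorem conj_three_cycle : ∀ b : S5, b * b * b = 1 → b ≠ 1 → ∃ π : S5, π * b * π⁻¹ = W := by decide +kernel

theorem zline_fst : ∀ p ∈ zline, p.2 = 1 ∧ p.1 ≠ 1 := by decide +kernel

theorem second_ne_one : ∀ p : Pair, p * pz = pz * p → p * p * p = 1 → p.2 = 1 → p ∈ nine ∧ (p = 1 ∨ p = pz ∨ p = pz * pz) := by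
  decide +kernel

theorem mixed_or_wline : ∀ p ∈ nine, p.2 = W → p ∈ wline ∨ p ∈ mixed := by decide +kernel

theorem dihedral_unique_square : ∀ a b : DihedralGroup 4 × Multiplicative (ZMod 2),
    a * a ≠ 1 → b * b ≠ 1 → a * a = b * b := by decide +kernel

theorem fst_sign : (∀ a : S3, a * c3 = c3 * a → Perm.sign a = 1) ∧ Perm.sign s3 = -1 ∧
    (∀ p ∈ eighteen, Perm.sign p.1 = 1) ∧ ∀ p ∈ nine, Perm.sign p.1 = 1 := by decide +kernel

theorem inverts_cases : ∀ b : S5, b * b = 1 → b * W * b⁻¹ = W⁻¹ →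
    ∃ k ∈ ({1, W, W * W} : Finset S5), k * b * k⁻¹ = swap 2 3 ∨ k * b * k⁻¹ = swap 0 1 * swap 2 3 := by
  decide +kernel

theorem basic_pairs :
    psig * pz = pz * psig ∧ psig * pw = pw * psig ∧ psig * psig = 1 ∧ psig ≠ 1 ∧
    pxx * pxx = 1 ∧ pxx * pw = pw * pxx ∧ pxx * pz * pxx⁻¹ = pz⁻¹ ∧ pxx * psig = psig * pxx ∧
    ps * ps = 1 ∧ ps * pz = pz * ps ∧ pf * pf = 1 ∧ pf = psig * ps := by decide +kernel

theorem mixed_ne : ∀ q ∈ mixed, q ∈ nine ∧ q ∉ zline ∧ q ∉ wline ∧ q ≠ 1 := by decide +kernel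

/-! ### The centraliser of the four group -/

theorem centralize_four' : ∀ p : Pair, p * pu = pu * p → p * pv = pv * p → p * pz = pz * p →
    (p.1 = 1 ∨ p.1 = c3 ∨ p.1 = c3 * c3) ∧ p.2 ∈ ({1, pu.2, pv.2, pu.2 * pv.2} : Finset S5) := by decide +kernel

theorem psig_four : psig * pu ≠ pu * psig := by decide +kernel

theorem four_three : ∀ p : Pair, p * pu = pu * p → p.2 * p.2 * p.2 = 1 → p.2 = 1 := by decide +kernel

theorem two_orbits_aux : ∀ y : S5, Perm.sign y = 1 ∧ y * y * y = 1 ∧ y ≠ 1 →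
    (∃ r : S5, Perm.sign r = 1 ∧ r * r * r = 1 ∧ (y * r) * (y * r) * (y * r) * (y * r) * (y * r) = 1 ∧ y * r ≠ 1) := by
  decide +kernel

/-- Membership in the distinguished set of `y`. -/
def RSet (y r : S5) : Prop :=
  r * r * r = 1 ∧ (y * r) * (y * r) * (y * r) * (y * r) * (y * r) = 1 ∧ y * r ≠ 1

instance (y : S5) : DecidablePred (RSet y) := fun r => inferInstanceAs (Decidable (_ ∧ _))

/-- `a` is a conjugate of `r` under `⟨y⟩`. -/
def Orb (y r a : S5) : Prop := a = r ∨ a = y * r * y⁻¹ ∨ a = y * y * r * (y * y)⁻¹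

instance (y r : S5) : DecidablePred (Orb y r) := fun a => inferInstanceAs (Decidable (_ ∨ _))

theorem two_orbits : ∀ y : S5, Perm.sign y = 1 ∧ y * y * y = 1 ∧ y ≠ 1 →
    ∀ r : S5, RSet y r → ∀ a : S5, RSet y a → Orb y r a ∨ ∀ b : S5, RSet y b → Orb y r b ∨ Orb y a b := by
  decide +kernel

end CfsgLib.Recog.EightThreeSym
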