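import Cfsg.Agent.Lib.Recog.EightThree.ModelEight
import Cfsg.Agent.Lib.Recog.EightThreeSym.Model

/-!
Owner: helper10. Computations in the symmetric group of degree six for the 3-local characterisation of `S₈`.
-/

set_option autoImplicit false
set_option linter.all false
set_option synthInstance.maxSize 1000
set_option maxRecDepth 8000

namespace CfsgLib.Recog.EightThreeSym

open Equiv CfsgLib.Recog.EightThree


def list6 : List S6 := permsOfList (List.finRange 6)
def inv6 : List S6 := list6.filter fun a => decide (a * a = 1 ∧ a ≠ 1)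
def three6 : List S6 := list6.filter fun a => decide (a * a * a = 1 ∧ a ≠ 1)

theorem mem_inv6 {a : S6} (h : a * a = 1) (h1 : a ≠ 1) : a ∈ inv6 :=
  List.mem_filter.2 ⟨mem_permsOfList_of_mem fun x _ => List.mem_finRange x, decide_eq_true ⟨h, h1⟩⟩

theorem mem_three6 {a : S6} (h : a * a * a = 1) (h1 : a ≠ 1) : a ∈ three6 :=
  List.mem_filter.2 ⟨mem_permsOfList_of_mem fun x _ => List.mem_finRange x, decide_eq_true ⟨h, h1⟩⟩

/-- The extra involution. -/
def Extra (w u r : S6) : Prop :=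
  r * w = w * r ∧ r * u = u * r ∧ r * (w * u * w⁻¹) = (w * u * w⁻¹) * r ∧
    r ≠ u ∧ r ≠ w * u * w⁻¹ ∧ r ≠ u * (w * u * w⁻¹)

instance (w u : S6) : DecidablePred (Extra w u) := fun r => inferInstanceAs (Decidable (_ ∧ _))

theorem six_extra_aux : ∀ w ∈ three6,
    (inv6.all fun u => decide (u * (w * u * w⁻¹) = w * w * u * (w * w)⁻¹ → w * u * w⁻¹ ≠ u →
      (inv6.any fun r => decide (Extra w u r)) = true)) = true :=
  of_all _ (fun w => (inv6.all fun u => decide (u * (w * u * w⁻¹) = w * w * u * (w * w)⁻¹ → w * u * w⁻¹ ≠ u →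
      (inv6.any fun r => decide (Extra w u r)) = true)) = true) (by decide +kernel)

theorem six_extra {w u : S6} (hw : w * w * w = 1) (hw1 : w ≠ 1) (hu : u * u = 1) (hu1 : u ≠ 1)
    (h : u * (w * u * w⁻¹) = w * w * u * (w * w)⁻¹) (hne : w * u * w⁻¹ ≠ u) :
    ∃ r : S6, r * r = 1 ∧ r ≠ 1 ∧ Extra w u r := by
  have h0 := of_decide_eq_true (List.all_eq_true.1 (six_extra_aux w (mem_three6 hw hw1)) u (mem_inv6 hu hu1))
  obtain ⟨r, hr, he⟩ := List.any_eq_true.1 (h0 h hne)
  exact ⟨r, (of_decide_eq_true (List.mem_filter.1 hr).2).1, (of_decide_eq_true (List.mem_filter.1 hr).2).2,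
    of_decide_eq_true he⟩

/-- The distinguished set inside the centraliser of an involution commuting with `w`. -/
def YSet (w x y : S6) : Prop :=
  y * x = x * y ∧ y * (w * y * w⁻¹) * (w * w * y * (w * w)⁻¹) = 1

instance (w x : S6) : DecidablePred (YSet w x) := fun r => inferInstanceAs (Decidable (_ ∧ _))

/-- The property of the distinguished set. -/
def YProp (w x : S6) : Prop :=
  (inv6.any fun y => decide (YSet w x y)) = true ∧ Perm.sign x = -1 ∧
    (inv6.all fun y => decide (YSet w x y → w * y * w⁻¹ ≠ y ∧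
      (inv6.all fun y' => decide (YSet w x y' → y' = y ∨ y' = w * y * w⁻¹ ∨ y' = w * w * y * (w * w)⁻¹)) = true)) = true

instance (w : S6) : DecidablePred (YProp w) := fun r => inferInstanceAs (Decidable (_ ∧ _))

theorem six_three_aux : ∀ w ∈ three6, (inv6.all fun x => decide (x * w = w * x → YProp w x)) = true :=
  of_all _ (fun w => (inv6.all fun x => decide (x * w = w * x → YProp w x)) = true) (by decide +kernel)

theorem six_three {w x : S6} (hw : w * w * w = 1) (hw1 : w ≠ 1) (hx : x * x = 1) (hx1 : x ≠ 1)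
    (hxw : x * w = w * x) :
    (∀ c : S6, c * c ≠ x) ∧ (∃ y : S6, y * y = 1 ∧ y ≠ 1 ∧ YSet w x y) ∧
    ∀ y : S6, y * y = 1 → y ≠ 1 → YSet w x y → w * y * w⁻¹ ≠ y ∧
      ∀ y' : S6, y' * y' = 1 → y' ≠ 1 → YSet w x y' → y' = y ∨ y' = w * y * w⁻¹ ∨ y' = w * w * y * (w * w)⁻¹ := by
  obtain ⟨h1, hs, h3⟩ := of_decide_eq_true
    (List.all_eq_true.1 (six_three_aux w (mem_three6 hw hw1)) x (mem_inv6 hx hx1)) hxw
  refine ⟨fun c e => ?_, ?_, fun y hy hy1 hY => ?_⟩
  · rw [← e, map_mul] at hs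
    rcases Int.units_eq_one_or (Perm.sign c) with r | r <;> rw [r] at hs <;> exact absurd hs (by decide)
  · obtain ⟨y, hy, hY⟩ := List.any_eq_true.1 h1
    exact ⟨y, (of_decide_eq_true (List.mem_filter.1 hy).2).1, (of_decide_eq_true (List.mem_filter.1 hy).2).2,
      of_decide_eq_true hY⟩
  · obtain ⟨a, b⟩ := of_decide_eq_true (List.all_eq_true.1 h3 y (mem_inv6 hy hy1)) hY
    exact ⟨a, fun y' hy' hy1' hY' => of_decide_eq_true (List.all_eq_true.1 b y' (mem_inv6 hy' hy1')) hY'⟩

end CfsgLib.Recog.EightThreeSym
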