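import Cfsg.Agent.Lib.Recog.EightThreeSym.Sigma
import Cfsg.Agent.Lib.Recog.EightThreeSym.ModelSix
import Cfsg.Agent.Lib.Recog.EightThree.Gen

/-!
Owner: helper10. The embedded `S₈` when the transpositions of the two factors are exchanged.
-/

set_option autoImplicit false
set_option linter.all false
set_option synthInstance.maxSize 1000
set_option maxRecDepth 8000
set_option maxHeartbeats 1600000

namespace CfsgLib.Recog.EightThreeSym

open Subgroup Equiv CfsgLib.Recog.AltPresentation CfsgLib.Recog.EightThree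
open scoped Pointwise

universe u

theorem extra_cases : ∀ p : Pair, p * pz = pz * p → p * ps = ps * p → (p * p = 1 ∨ p * p = ps) →
    p = 1 ∨ p = ps ∨ p = psig ∨ p = pf ∨ p = (1, swap 0 4) ∨ p = (1, swap 1 4) ∨
      p = (1, swap 0 4) * ps ∨ p = (1, swap 1 4) * ps := by decide +kernel

theorem rr_relations : ∀ b ∈ ({swap 0 4, swap 1 4} : Finset S5),
    ((1, b) : Pair) * ps * ((1, b) * ps) = 1 ∧ ((1, b) : Pair) * pxx = pxx * (1, b) ∧
    pw * ((1, b) * ps) * (pw * ((1, b) * ps)) * (pw * ((1, b) * ps)) = 1 ∧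
    (1, b) * ps * pf * ((1, b) * ps * pf) * ((1, b) * ps * pf) = 1 := by decide +kernel

theorem px_shape : px 0 = psig * pxx ∧ px 1 = pxx * (pv * (pw * ps * pw⁻¹)) ∧ px 2 = pxx * ps ∧
    px 3 = pxx * (pw * ps * pw⁻¹) ∧ ((1, swap 0 2 * swap 1 3) : Pair) * psig * (1, swap 0 2 * swap 1 3)⁻¹ = ps ∧
    pw * pu * pw⁻¹ ≠ pu ∧ pu * (pw * pu * pw⁻¹) = pw * pw * pu * (pw * pw)⁻¹ ∧
    (pv = pw * pu * pw⁻¹ ∨ pv = pu * (pw * pu * pw⁻¹)) ∧
    pu * (pw * pu * pw⁻¹) ≠ pxx ∧ pu * (pw * pu * pw⁻¹) ≠ 1 ∧ pu ≠ 1 ∧ pu ≠ pxx := by decide +kernel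

theorem iota_pxx : iota pxx = swap 0 1 ∧ ∀ i : Fin 4, ((1, swap i.castSucc i.succ) : Pair) = pxx * px i := by
  decide +kernel

theorem S3_cases : ∀ a : S3, a = 1 ∨ a = c3 ∨ a = c3 * c3 ∨ a = s3 ∨ a = s3 * c3 ∨ a = s3 * (c3 * c3) := by decide +kernel

variable {G : Type u} [Group G] [Finite G]

namespace Base

variable (B : Base G)

include B

theorem sig_sq : B.sig * B.sig = 1 := by rw [← map_mul, basic_pairs.2.2.1, map_one]
theorem xx_sq : B.xx * B.xx = 1 := by rw [← map_mul, basic_pairs.2.2.2.2.1, map_one]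

/-- In this case the centraliser of the transposition is not inside the normaliser of the Sylow subgroup. -/
theorem not_small_sigma (hA : B.cg B.xx = B.φ ps) (ρ : normalizer (B.D9 : Set G) →* DihedralGroup 4)
    (hρk : ∀ x : normalizer (B.D9 : Set G), ρ x = 1 ↔ (x : G) ∈ centralizer (B.D9 : Set G))
    (hsmall : ∀ c : G, Commute c B.sig → c ∈ normalizer (B.D9 : Set G)) : False := by
  set j := B.cg (B.φ (1, swap 0 2 * swap 1 3)) with hj
  have hjx : j * B.sig * j⁻¹ = B.xx := by
    conv_lhs => rw [← B.cg_sig]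
    rw [hj, ← map_inv B.cg, ← map_mul, ← map_mul, ← map_inv, ← map_mul, ← map_mul,
      px_shape.2.2.2.2.1, ← hA, B.cg_cg]
  set f := j⁻¹ * B.φ (1, finRotate 5) * j with hf
  have hfo : orderOf f = 5 := by
    haveI : Fact (Nat.Prime 5) := ⟨by norm_num⟩
    rw [hf, show j⁻¹ * B.φ (1, finRotate 5) * j = j⁻¹ * B.φ (1, finRotate 5) * j⁻¹⁻¹ by rw [inv_inv], orderOf_conj',
      orderOf_injective B.φ B.inj]
    exact orderOf_eq_prime (by decide +kernel) (by decide +kernel)
  have hfc : Commute f B.sig := commute_conj_iff.1 (by rw [hjx]; exact B.φ_commute (by decide +kernel))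
  set n : normalizer (B.D9 : Set G) := ⟨f, hsmall f hfc⟩
  have h1 : orderOf (ρ n) ∣ 5 := by
    have := orderOf_map_dvd ρ n
    rwa [show orderOf n = 5 by rw [← Subgroup.orderOf_coe]; exact hfo] at this
  have h2 : orderOf (ρ n) ∣ 8 := by
    have := orderOf_dvd_natCard (ρ n)
    rwa [DihedralGroup.nat_card] at this
  have h3 := (hρk n).1 (orderOf_eq_one_iff.1 (Nat.eq_one_of_dvd_coprimes (by norm_num) h1 h2))
  obtain ⟨p, hp, he⟩ := B.exists_of_commute_zw (mem_centralizer_iff.1 h3 _ B.z_mem_D9).symm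
    (mem_centralizer_iff.1 h3 _ B.w_mem_D9).symm
  have key : ∀ p ∈ eighteen, p ^ 6 = 1 := by decide +kernel
  have h6 : orderOf f ∣ 6 := orderOf_dvd_of_pow_eq_one (by
    rw [show f = B.φ p from he.symm, ← map_pow, key p hp, map_one])
  rw [hfo] at h6
  norm_num at h6

/-- The missing transposition of the second copy. -/
theorem exists_b (hA : B.cg B.xx = B.φ ps) (ρ : normalizer (B.D9 : Set G) →* DihedralGroup 4)
    (hρs : Function.Surjective ρ)
    (hρk : ∀ x : normalizer (B.D9 : Set G), ρ x = 1 ↔ (x : G) ∈ centralizer (B.D9 : Set G)) :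
    ∃ b ∈ ({swap 0 4, swap 1 4} : Finset S5), Commute (B.cg (B.φ (1, b))) (B.φ pu) ∧
      Commute (B.cg (B.φ (1, b))) (B.φ pv) ∧ Commute (B.cg (B.φ (1, b))) B.w := by
  classical
  rcases B.sigma_cases ρ hρs hρk with h | ⟨π, hπs, hπk⟩
  · exact (B.not_small_sigma hA ρ hρk h).elim
  obtain ⟨-, -, -, -, hkq, hne, hprod, hpv, hne2, hne3, hu1, hux⟩ := px_shape
  set j := B.cg (B.φ (1, swap 0 2 * swap 1 3)) with hj
  have hjx : j * B.sig * j⁻¹ = B.xx := by
    conv_lhs => rw [← B.cg_sig]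
    rw [hj, ← map_inv B.cg, ← map_mul, ← map_mul, ← map_inv, ← map_mul, ← map_mul,
      hkq, ← hA, B.cg_cg]
  have pull : ∀ p : Pair, p * pxx = pxx * p → j⁻¹ * B.φ p * j ∈ centralizer ({B.sig} : Set G) := fun p hp =>
    mem_centralizer_singleton_iff.2 (commute_conj_iff.1 (by rw [hjx]; exact B.φ_commute hp)).eq
  set U1 : Pair := pw * pu * pw⁻¹ with hU1
  set wC : centralizer ({B.sig} : Set G) := ⟨_, pull pw (by decide +kernel)⟩ with hwC
  set uC : centralizer ({B.sig} : Set G) := ⟨_, pull pu (by decide +kernel)⟩ with huC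
  have hval1 : ((wC * uC * wC⁻¹ : centralizer ({B.sig} : Set G)) : G) = j⁻¹ * B.φ U1 * j := by
    show (j⁻¹ * B.φ pw * j) * (j⁻¹ * B.φ pu * j) * (j⁻¹ * B.φ pw * j)⁻¹ = _
    rw [hU1, map_mul, map_mul, map_inv]; group
  have ker_of : ∀ (c : centralizer ({B.sig} : Set G)) (p : Pair), (c : G) = j⁻¹ * B.φ p * j → π c = 1 →
      p = 1 ∨ p = pxx := by
    intro c p hc h
    rcases (hπk c).1 h with e | e <;> rw [hc] at e
    · refine Or.inl (B.inj ?_)
      rw [map_one]
      calc B.φ p = j * (j⁻¹ * B.φ p * j) * j⁻¹ := by group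
        _ = 1 := by rw [e]; group
    · refine Or.inr (B.inj ?_)
      calc B.φ p = j * (j⁻¹ * B.φ p * j) * j⁻¹ := by group
        _ = B.φ pxx := by rw [e]; exact hjx
  have hw3 : π wC * π wC * π wC = 1 := by
    rw [← map_mul, ← map_mul, show wC * wC * wC = 1 from Subtype.ext (by
      show (j⁻¹ * B.φ pw * j) * (j⁻¹ * B.φ pw * j) * (j⁻¹ * B.φ pw * j) = 1
      rw [show (j⁻¹ * B.φ pw * j) * (j⁻¹ * B.φ pw * j) * (j⁻¹ * B.φ pw * j) = j⁻¹ * (B.φ pw * B.φ pw * B.φ pw) * j by group,
        ← map_mul, ← map_mul, show pw * pw * pw = 1 by decide +kernel, map_one]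
      group), map_one]
  have hw1 : π wC ≠ 1 := fun e => by
    rcases ker_of wC pw rfl e with r | r <;> exact absurd r (by decide +kernel)
  have hu2 : π uC * π uC = 1 := by
    rw [← map_mul, show uC * uC = 1 from Subtype.ext (by
      show (j⁻¹ * B.φ pu * j) * (j⁻¹ * B.φ pu * j) = 1
      rw [show (j⁻¹ * B.φ pu * j) * (j⁻¹ * B.φ pu * j) = j⁻¹ * (B.φ pu * B.φ pu) * j by group,
        ← map_mul, (four_orders pu (by decide +kernel)).1, map_one]
      group), map_one]
  have hu1' : π uC ≠ 1 := fun e => by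
    rcases ker_of uC pu rfl e with r | r
    exacts [hu1 r, hux r]
  have hA4 : π uC * (π wC * π uC * (π wC)⁻¹) = π wC * π wC * π uC * (π wC * π wC)⁻¹ := by
    simp only [← map_inv, ← map_mul]
    refine congrArg π (Subtype.ext ?_)
    show (j⁻¹ * B.φ pu * j) * ((j⁻¹ * B.φ pw * j) * (j⁻¹ * B.φ pu * j) * (j⁻¹ * B.φ pw * j)⁻¹) =
      (j⁻¹ * B.φ pw * j) * (j⁻¹ * B.φ pw * j) * (j⁻¹ * B.φ pu * j) * ((j⁻¹ * B.φ pw * j) * (j⁻¹ * B.φ pw * j))⁻¹
    calc _ = j⁻¹ * B.φ (pu * (pw * pu * pw⁻¹)) * j := by simp only [map_mul, map_inv]; group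
      _ = _ := by rw [hprod]; simp only [map_mul, map_inv]; group
  have hne' : π wC * π uC * (π wC)⁻¹ ≠ π uC := by
    intro e
    have h : π (uC * (wC * uC * wC⁻¹)) = 1 := by rw [map_mul, map_mul, map_mul, map_inv, e, hu2]
    rcases ker_of _ (pu * U1) (by
      rw [Subgroup.coe_mul, hval1, show B.φ (pu * U1) = B.φ pu * B.φ U1 from map_mul _ _ _]
      show j⁻¹ * B.φ pu * j * (j⁻¹ * B.φ U1 * j) = _
      group) h with r | r
    exacts [hne3 r, hne2 r]
  obtain ⟨r6, r2, r1, hrw, hru, hru1, rne1, rne2, rne3⟩ := six_extra hw3 hw1 hu2 hu1' hA4 hne'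
  obtain ⟨c, hc⟩ := hπs r6
  set R := j * (c : G) * j⁻¹ with hR
  have hRx : Commute R B.xx := by
    rw [← hjx]; exact commute_conj (mem_centralizer_singleton_iff.1 c.2 :)
  have hxi : ∀ (a : centralizer ({B.sig} : Set G)), π c * π a = π a * π c → ∀ p : Pair,
      (a : G) = j⁻¹ * B.φ p * j → R * B.φ p * R⁻¹ = B.φ p ∨ R * B.φ p * R⁻¹ = B.xx * B.φ p := by
    intro a ha p hap
    have h : π (c * a * c⁻¹ * a⁻¹) = 1 := by
      rw [map_mul, map_mul, map_mul, map_inv, map_inv, ha, mul_inv_cancel_right, mul_inv_cancel]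
    have hv : R * B.φ p * R⁻¹ * (B.φ p)⁻¹ = j * ((c * a * c⁻¹ * a⁻¹ : centralizer ({B.sig} : Set G)) : G) * j⁻¹ := by
      simp only [Subgroup.coe_mul, Subgroup.coe_inv, hap, hR]; group
    rcases (hπk _).1 h with e | e <;> rw [e] at hv
    · rw [mul_one, mul_inv_cancel] at hv; exact Or.inl (mul_inv_eq_one.1 hv)
    · rw [hjx] at hv; exact Or.inr (mul_inv_eq_iff_eq_mul.1 hv)
  have hRw : Commute R B.w := by
    rcases hxi wC (hc.symm ▸ hrw) pw rfl with e | e
    · exact EightThree.conj_eq_iff.1 e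
    · exfalso
      have h3 : (R * B.φ pw * R⁻¹) ^ 3 = 1 := by
        rw [conj_pow, ← map_pow, show pw ^ 3 = 1 by decide +kernel, map_one]; group
      rw [e, (B.φ_commute (show pxx * pw = pw * pxx from basic_pairs.2.2.2.2.2.1) : Commute B.xx (B.φ pw)).mul_pow,
        ← map_pow B.φ pw, show pw ^ 3 = 1 by decide +kernel, map_one, mul_one, pow_succ, pow_two, B.xx_sq, one_mul] at h3
      exact absurd (B.inj (h3.trans (map_one B.φ).symm)) (by decide +kernel)
  have hRu : Commute R (B.φ pu) := by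
    rcases hxi uC (hc.symm ▸ hru) pu rfl with e | e
    · exact EightThree.conj_eq_iff.1 e
    exfalso
    have step : ∀ p : Pair, R * B.φ p * R⁻¹ = B.xx * B.φ p →
        R * B.φ (pw * p * pw⁻¹) * R⁻¹ = B.xx * B.φ (pw * p * pw⁻¹) := by
      intro p hp
      simp only [map_mul, map_inv]
      calc R * (B.φ pw * B.φ p * (B.φ pw)⁻¹) * R⁻¹
          = (R * B.φ pw * R⁻¹) * (R * B.φ p * R⁻¹) * (R * B.φ pw * R⁻¹)⁻¹ := by group
        _ = B.φ pw * (B.xx * B.φ p) * (B.φ pw)⁻¹ := by rw [hRw.eq, mul_inv_cancel_right, hp]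
        _ = B.φ (pw * pxx) * B.φ p * (B.φ pw)⁻¹ := by rw [map_mul, ← mul_assoc]
        _ = B.xx * (B.φ pw * B.φ p * (B.φ pw)⁻¹) := by
          rw [← basic_pairs.2.2.2.2.2.1, map_mul]; group
    have e1 := step pu e
    have e2 : R * B.φ (pw * pw * pu * (pw * pw)⁻¹) * R⁻¹ = B.xx * B.φ (pw * pw * pu * (pw * pw)⁻¹) := by
      have := step _ e1
      rwa [show pw * (pw * pu * pw⁻¹) * pw⁻¹ = pw * pw * pu * (pw * pw)⁻¹ by group] at this
    rw [← hprod, map_mul] at e2
    have hcx : Commute B.xx (B.φ pu) := B.φ_commute (by decide +kernel)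
    have h1 : R * (B.φ pu * B.φ U1) * R⁻¹ = B.φ pu * B.φ U1 := by
      calc R * (B.φ pu * B.φ U1) * R⁻¹ = (R * B.φ pu * R⁻¹) * (R * B.φ U1 * R⁻¹) := by group
        _ = (B.xx * B.φ pu) * (B.xx * B.φ U1) := by rw [e, e1]
        _ = (B.xx * B.xx) * (B.φ pu * B.φ U1) := hcx.symm.mul_mul_mul_comm _ _
        _ = B.φ pu * B.φ U1 := by rw [B.xx_sq, one_mul]
    rw [h1] at e2
    exact absurd (B.inj ((mul_eq_right.1 e2.symm).trans (map_one B.φ).symm)) (show pxx ≠ 1 by decide +kernel)
  have hRv : Commute R (B.φ pv) := by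
    have h1 : Commute R (B.φ (pw * pu * pw⁻¹)) := by
      rw [map_mul, map_mul, map_inv]; exact (hRw.mul_right hRu).mul_right hRw.inv_right
    rcases hpv with e | e <;> rw [e]
    · exact h1
    · rw [map_mul B.φ pu]; exact hRu.mul_right h1
  obtain ⟨p, hpz, hpe⟩ := B.exists_of_commute_w hRw
  have hps : p * ps = ps * p := by
    refine B.of_φ_commute ?_
    rw [← hA, ← B.cg_commute_iff, hpe]
    exact hRx
  have hsq : p * p = 1 ∨ p * p = ps := by
    have h : π (c * c) = 1 := by rw [map_mul, hc, r2]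
    have hv : B.cg (B.φ (p * p)) = j * ((c * c : centralizer ({B.sig} : Set G)) : G) * j⁻¹ := by
      rw [map_mul, map_mul, hpe, hR, Subgroup.coe_mul]; group
    rcases (hπk _).1 h with e | e <;> rw [e] at hv
    · rw [mul_one, mul_inv_cancel] at hv
      refine Or.inl (B.inj ?_)
      rw [← B.cg_cg (B.φ (p * p)), hv, map_one, map_one]
    · rw [hjx] at hv
      refine Or.inr (B.inj ?_)
      rw [← B.cg_cg (B.φ (p * p)), hv, hA]
  have hRne : R ≠ 1 ∧ R ≠ B.xx := by
    refine ⟨fun e => r1 ?_, fun e => r1 ?_⟩ <;> rw [← hc, hπk]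
    · exact Or.inl (conj_eq_one_iff.1 e)
    · refine Or.inr ?_
      calc (c : G) = j⁻¹ * R * j := by rw [hR]; group
        _ = j⁻¹ * (j * B.sig * j⁻¹) * j := by rw [e, hjx]
        _ = B.sig := by group
  have hxs : B.cg (B.φ ps) = B.xx := by rw [← hA, B.cg_cg]
  have hxu : Commute B.xx (B.φ pu) := B.φ_commute (by decide +kernel)
  have strip : ∀ b : S5, B.cg (B.φ ((1, b) * ps)) = R → Commute (B.cg (B.φ (1, b))) (B.φ pu) ∧
      Commute (B.cg (B.φ (1, b))) (B.φ pv) ∧ Commute (B.cg (B.φ (1, b))) B.w := by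
    intro b hb
    rw [map_mul, map_mul, hxs] at hb
    have e : B.cg (B.φ (1, b)) = R * B.xx := by rw [← hb, mul_assoc, B.xx_sq, mul_one]
    rw [e]
    exact ⟨hRu.mul_left hxu, hRv.mul_left (B.φ_commute (by decide +kernel)),
      hRw.mul_left (B.φ_commute basic_pairs.2.2.2.2.2.1)⟩
  rcases extra_cases p hpz hps hsq with e | e | e | e | e | e | e | e <;> rw [e] at hpe
  · exact absurd (by rw [← hpe, map_one, map_one]) hRne.1
  · exact absurd (by rw [← hpe, hxs]) hRne.2
  · exfalso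
    rw [B.cg_sig] at hpe
    rw [← hpe] at hRu
    exact psig_four (B.of_φ_commute hRu)
  · exfalso
    rw [show pf = psig * ps from basic_pairs.2.2.2.2.2.2.2.2.2.2.2, map_mul, map_mul, B.cg_sig, hxs] at hpe
    refine psig_four (B.of_φ_commute ?_)
    have : Commute (R * B.xx) (B.φ pu) := hRu.mul_left hxu
    rwa [← hpe, mul_assoc, B.xx_sq, mul_one] at this
  · exact ⟨_, Finset.mem_insert_self _ _, by rw [hpe]; exact ⟨hRu, hRv, hRw⟩⟩
  · exact ⟨_, Finset.mem_insert_of_mem (Finset.mem_singleton_self _), by rw [hpe]; exact ⟨hRu, hRv, hRw⟩⟩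
  · exact ⟨_, Finset.mem_insert_self _ _, strip _ hpe⟩
  · exact ⟨_, Finset.mem_insert_of_mem (Finset.mem_singleton_self _), strip _ hpe⟩

end Base

/-- An embedding of `S₈` extending the given one of `S₃ × S₅`. -/
structure Emb8 (B : Base G) where
  F : S8 →* G
  inj : Function.Injective F
  agree : ∀ p, F (iota p) = B.φ p

theorem nonempty_emb8 (B : Base G) (hA : B.cg B.xx = B.φ ps) (ρ : normalizer (B.D9 : Set G) →* DihedralGroup 4)
    (hρs : Function.Surjective ρ)
    (hρk : ∀ x : normalizer (B.D9 : Set G), ρ x = 1 ↔ (x : G) ∈ centralizer (B.D9 : Set G)) :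
    Nonempty (Emb8 B) := by
  classical
  obtain ⟨b, hb, hru, hrv, hrw⟩ := B.exists_b hA ρ hρs hρk
  obtain ⟨b2, bx, bz, b0⟩ := rr_relations b hb
  obtain ⟨x0e, x1e, x2e, x3e, -⟩ := px_shape
  have hxs : B.cg (B.φ ps) = B.xx := by rw [← hA, B.cg_cg]
  set r := B.cg (B.φ (1, b)) with hr
  set rr := B.cg (B.φ ((1, b) * ps)) with hrr
  have hrre : rr = r * B.xx := by rw [hrr, map_mul, map_mul, hxs]
  have hrrsq : rr * rr = 1 := by rw [hrr, ← map_mul, ← map_mul, b2, map_one, map_one]
  have hrs : Commute r (B.φ ps) := by rw [← hA]; exact B.cg_commute (B.φ_commute bx)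
  have hr34 : Commute r (B.φ (pw * ps * pw⁻¹)) := by
    rw [map_mul, map_mul, map_inv]; exact (hrw.mul_right hrs).mul_right hrw.inv_right
  have hrx : Commute r B.xx := by rw [← hxs]; exact B.cg_commute (B.φ_commute (by
    have : ∀ b ∈ ({swap 0 4, swap 1 4} : Finset S5), ((1, b) : Pair) * ps = ps * (1, b) := by decide +kernel
    exact this b hb))
  have hrrc : ∀ {y : G}, Commute r y → Commute B.xx y → Commute rr (B.xx * y) := fun {y} h1 h2 => by
    rw [hrre]
    exact (hrx.mul_right h1).mul_left ((Commute.refl _).mul_right h2)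
  have r3 : Commute rr (B.φ (px 1)) := by
    rw [x1e, map_mul]; refine hrrc ?_ (B.φ_commute (by decide +kernel))
    rw [map_mul]; exact hrv.mul_right hr34
  have r4 : Commute rr (B.φ (px 2)) := by
    rw [x2e, map_mul]; exact hrrc hrs (B.φ_commute (by decide +kernel))
  have r5 : Commute rr (B.φ (px 3)) := by
    rw [x3e, map_mul]; exact hrrc hr34 (B.φ_commute (by decide +kernel))
  have rz : B.z * rr * (B.z * rr) * (B.z * rr) = 1 := by
    have : B.z * rr = B.cg (B.φ (pw * ((1, b) * ps))) := by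
      rw [map_mul B.φ pw, map_mul B.cg, B.cg_w]
    rw [this, ← map_mul, ← map_mul, ← map_mul, ← map_mul, bz, map_one, map_one]
  have r2 : rr * B.φ (px 0) * (rr * B.φ (px 0)) * (rr * B.φ (px 0)) = 1 := by
    have : rr * B.φ (px 0) = B.cg (B.φ ((1, b) * ps * pf)) := by
      rw [map_mul B.φ _ pf, map_mul B.cg, show pf = psig * ps from basic_pairs.2.2.2.2.2.2.2.2.2.2.2,
        map_mul B.φ psig ps, map_mul B.cg (B.φ psig), B.cg_sig, hxs, ← map_mul B.φ psig pxx, ← x0e]
    rw [this, ← map_mul, ← map_mul, ← map_mul, ← map_mul, b0, map_one, map_one]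
  set gG : Fin 6 → G := ![B.z, rr, B.φ (px 0), B.φ (px 1), B.φ (px 2), B.φ (px 3)] with hgG
  obtain ⟨p1, p3, p2, -, -⟩ := px_relations
  have esq : ∀ i, B.φ (px i) * B.φ (px i) = 1 := fun i => by rw [← map_mul, (p1 i).1, map_one]
  have einv : ∀ i, B.z * B.φ (px i) * (B.z * B.φ (px i)) = 1 := by
    intro i
    rw [← map_mul, ← map_mul]
    have : ∀ i : Fin 4, pz * px i * (pz * px i) = 1 := by decide +kernel
    rw [this i, map_one]
  have ecomm : ∀ i j : Fin 4, i.val + 1 < j.val → B.φ (px i) * B.φ (px j) * (B.φ (px i) * B.φ (px j)) = 1 := by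
    intro i j hij
    rw [(B.φ_commute (p2 i j hij)).symm.mul_mul_mul_comm, esq, esq, one_mul]
  have ebraid : ∀ i j : Fin 4, j.val = i.val + 1 →
      B.φ (px i) * B.φ (px j) * (B.φ (px i) * B.φ (px j)) * (B.φ (px i) * B.φ (px j)) = 1 := by
    intro i j hij
    rw [← map_mul, ← map_mul, ← map_mul, p3 i j hij, map_one]
  have rfar : ∀ {y : G}, Commute rr y → y * y = 1 → rr * y * (rr * y) = 1 := fun hc hy => by
    rw [hc.symm.mul_mul_mul_comm, hrrsq, hy, one_mul]
  set X : ℕ → G × alternatingGroup (Fin 8) := fun i =>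
    if hi : i < 6 then (gG ⟨i, hi⟩, ⟨gA ⟨i, hi⟩, gA_sign _⟩) else 1 with hX
  have hXi : ∀ i (hi : i < 6), X i = (gG ⟨i, hi⟩, ⟨gA ⟨i, hi⟩, gA_sign _⟩) := fun i hi => dif_pos hi
  obtain ⟨a0, a1, a2, a3⟩ := gA_rels
  have hR : Rels X 6 := by
    refine ⟨fun _ => ?_, fun i h1 h2 => ?_, fun i hi => ?_, fun i j hij hj => ?_⟩
    · rw [hXi 0 (by norm_num)]
      exact Prod.ext B.z_cube (Subtype.ext a0)
    · rw [hXi i h2]
      refine Prod.ext ?_ (Subtype.ext (a1 _ h1))
      interval_cases i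
      exacts [hrrsq, esq 0, esq 1, esq 2, esq 3]
    · rw [hXi i (by omega), hXi (i + 1) (by omega)]
      refine Prod.ext ?_ (Subtype.ext (a2 _ _ rfl))
      have hi5 : i < 5 := by omega
      interval_cases i
      exacts [rz, r2, ebraid 0 1 rfl, ebraid 1 2 rfl, ebraid 2 3 rfl]
    · rw [hXi i (by omega), hXi j hj]
      refine Prod.ext ?_ (Subtype.ext (a3 _ _ hij))
      have key : ∀ a b : Fin 6, a.val + 1 < b.val → gG a * gG b * (gG a * gG b) = 1 := by
        intro a b hab
        fin_cases a <;> fin_cases b <;>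
          first
            | exact absurd hab (by decide)
            | exact einv 0
            | exact einv 1
            | exact einv 2
            | exact einv 3
            | exact rfar r3 (esq 1)
            | exact rfar r4 (esq 2)
            | exact rfar r5 (esq 3)
            | exact ecomm 0 2 (by decide)
            | exact ecomm 0 3 (by decide)
            | exact ecomm 1 3 (by decide)
      exact key ⟨i, by omega⟩ ⟨j, hj⟩ hij
  obtain ⟨hfin, hcard⟩ := card_gen hR 6 le_rfl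
  haveI := hfin
  set π : gen X 6 →* alternatingGroup (Fin 8) := (MonoidHom.snd G _).comp (gen X 6).subtype with hπ
  have hsurj : Function.Surjective π := by
    rw [← MonoidHom.range_eq_top, eq_top_iff]
    intro a _
    have hle : Subgroup.closure (Set.range gA) ≤ π.range.map (alternatingGroup (Fin 8)).subtype := by
      rw [closure_le]
      rintro _ ⟨i, rfl⟩
      refine ⟨⟨gA i, gA_sign i⟩, ⟨⟨X i.val, mem_gen i.isLt⟩, ?_⟩, rfl⟩
      show (X i.val).2 = _
      rw [hXi i.val i.isLt]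
    obtain ⟨a', ha', e⟩ := hle (alt_le_gen a.2)
    rwa [show a = a' from Subtype.ext e.symm]
  have hA8 : Nat.card (alternatingGroup (Fin 8)) = 20160 := by
    have := two_mul_nat_card_alternatingGroup (α := Fin 8)
    rw [Nat.card_perm, Nat.card_fin, show Nat.factorial 8 = 40320 by decide] at this
    omega
  have hbij : Function.Bijective π := by
    refine (Nat.bijective_iff_surjective_and_card _).2 ⟨hsurj, ?_⟩
    have := Nat.card_le_card_of_surjective π hsurj
    rw [show Nat.factorial (6 + 2) = 40320 by decide] at hcard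
    rw [hA8] at this ⊢
    omega
  set ψ : alternatingGroup (Fin 8) →* G :=
    (MonoidHom.fst G _).comp ((gen X 6).subtype.comp (MulEquiv.ofBijective π hbij).symm.toMonoidHom) with hψ
  have hψg : ∀ i : Fin 6, ψ ⟨gA i, gA_sign i⟩ = gG i := by
    intro i
    have e : (MulEquiv.ofBijective π hbij).symm ⟨gA i, gA_sign i⟩ = ⟨X i.val, mem_gen i.isLt⟩ := by
      rw [MulEquiv.symm_apply_eq]
      show _ = (X i.val).2
      rw [hXi i.val i.isLt]
    show (((MulEquiv.ofBijective π hbij).symm ⟨gA i, gA_sign i⟩).val).1 = _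
    rw [e]
    exact congrArg Prod.fst (hXi i.val i.isLt)
  -- extend to the symmetric group
  set s : S8 := swap 0 1 with hs
  have hss : s * s = 1 := by rw [hs, swap_mul_self]
  have hssign : Perm.sign s = -1 := by rw [hs]; exact Perm.sign_swap (by decide)
  have hconj : ∀ a : alternatingGroup (Fin 8), s * a * s ∈ alternatingGroup (Fin 8) := fun a => by
    rw [Perm.mem_alternatingGroup, map_mul, map_mul, a.2, hssign]; decide
  have hx2 := B.xx_sq
  set f1 : alternatingGroup (Fin 8) →* G :=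
    { toFun := fun a => B.xx * ψ a * B.xx
      map_one' := by rw [map_one, mul_one, hx2]
      map_mul' := fun a c => by
        rw [map_mul, show B.xx * ψ a * B.xx * (B.xx * ψ c * B.xx) = B.xx * ψ a * (B.xx * B.xx) * ψ c * B.xx by group,
          hx2]
        group } with hf1
  set f2 : alternatingGroup (Fin 8) →* G :=
    { toFun := fun a => ψ ⟨s * a * s, hconj a⟩
      map_one' := by
        rw [show (⟨s * (1 : alternatingGroup (Fin 8)) * s, hconj 1⟩ : alternatingGroup (Fin 8)) = 1 from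
          Subtype.ext (by show s * 1 * s = 1; rw [mul_one, hss]), map_one]
      map_mul' := fun a c => by
        rw [← map_mul]
        refine congrArg ψ (Subtype.ext ?_)
        show s * ((a : S8) * c) * s = s * a * s * (s * c * s)
        calc s * ((a : S8) * c) * s = s * a * 1 * c * s := by group
          _ = _ := by rw [← hss]; group } with hf2
  have hxz : B.xx * B.z * B.xx = B.z * B.z := by
    rw [← map_mul, ← map_mul, ← map_mul, show pxx * pz * pxx = pz * pz by decide +kernel]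
  have hxc : ∀ {y : G}, Commute B.xx y → B.xx * y * B.xx = y := fun h => by rw [h.eq, mul_assoc, hx2, mul_one]
  have hf12 : ∀ a, B.xx * ψ a * B.xx = ψ ⟨s * a * s, hconj a⟩ := by
    intro a
    have hle : Subgroup.closure (Set.range gA) ≤ (f1.eqLocus f2).map (alternatingGroup (Fin 8)).subtype := by
      rw [closure_le]
      rintro _ ⟨i, rfl⟩
      refine ⟨⟨gA i, gA_sign i⟩, ?_, rfl⟩
      show B.xx * ψ ⟨gA i, gA_sign i⟩ * B.xx = ψ ⟨s * gA i * s, _⟩
      have e : ψ ⟨s * gA i * s, hconj ⟨gA i, gA_sign i⟩⟩ = if i.val = 0 then gG 0 * gG 0 else gG i := by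
        by_cases h0 : i.val = 0
        · rw [if_pos h0, ← hψg 0, ← map_mul]
          exact congrArg ψ (Subtype.ext (by show s * gA i * s = _; rw [hs, conj_gA, if_pos h0]; rfl))
        · rw [if_neg h0, ← hψg i]
          exact congrArg ψ (Subtype.ext (by show s * gA i * s = _; rw [hs, conj_gA, if_neg h0]))
      rw [e, hψg]
      fin_cases i
      · exact hxz
      · refine hxc ?_
        show Commute B.xx rr
        rw [hrre]; exact (hrx.symm.mul_right (Commute.refl _))
      all_goals exact hxc (B.φ_commute (by decide +kernel))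
    obtain ⟨a', ha', e⟩ := hle (alt_le_gen a.2)
    rw [show a = a' from Subtype.ext e.symm]
    exact ha'
  have hodd : ∀ {y : S8}, Perm.sign y ≠ 1 → Perm.sign (y * s) = 1 := fun {y} h => by
    rw [map_mul, hssign, (Int.units_eq_one_or _).resolve_left h]; decide
  let F0 : S8 → G := fun y => if h : Perm.sign y = 1 then ψ ⟨y, h⟩ else ψ ⟨y * s, hodd h⟩ * B.xx
  have Fev : ∀ {y : S8} (h : Perm.sign y = 1), F0 y = ψ ⟨y, h⟩ := fun h => dif_pos h
  have Fod : ∀ {y : S8} (h : ¬ Perm.sign y = 1), F0 y = ψ ⟨y * s, hodd h⟩ * B.xx := fun h => dif_neg h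
  have hxψ : ∀ a, B.xx * ψ a = ψ ⟨s * a * s, hconj a⟩ * B.xx := fun a => by
    rw [← hf12, mul_assoc, hx2, mul_one]
  have key : ∀ (a c e : alternatingGroup (Fin 8)), (e : S8) = (a : S8) * c → ψ e = ψ a * ψ c := fun a c e h => by
    rw [show e = a * c from Subtype.ext h, map_mul]
  have Fmul : ∀ y t : S8, F0 (y * t) = F0 y * F0 t := by
    intro y t
    by_cases hy : Perm.sign y = 1 <;> by_cases ht : Perm.sign t = 1
    · exact (Fev (by rw [map_mul, hy, ht, one_mul])).trans ((key ⟨y, hy⟩ ⟨t, ht⟩ _ rfl).trans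
        (congrArg₂ (· * ·) (Fev hy).symm (Fev ht).symm))
    · rw [Fev hy, Fod ht, Fod (by rw [map_mul, hy, one_mul]; exact ht : ¬ Perm.sign (y * t) = 1)]
      rw [key ⟨y, hy⟩ ⟨t * s, hodd ht⟩ _ (mul_assoc y t s)]
      group
    · rw [Fod hy, Fev ht, Fod (by rw [map_mul, ht, mul_one]; exact hy : ¬ Perm.sign (y * t) = 1)]
      have h1 : y * t * s = y * s * (s * t * s) := by
        calc y * t * s = y * (s * s) * t * s := by rw [hss, mul_one]
          _ = _ := by group
      rw [key ⟨y * s, hodd hy⟩ ⟨s * t * s, hconj ⟨t, ht⟩⟩ _ h1]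
      calc _ = ψ ⟨y * s, hodd hy⟩ * (ψ ⟨s * t * s, hconj ⟨t, ht⟩⟩ * B.xx) := by group
        _ = ψ ⟨y * s, hodd hy⟩ * (B.xx * ψ ⟨t, ht⟩) := by rw [hxψ ⟨t, ht⟩]
        _ = _ := by group
    · have hyt : Perm.sign (y * t) = 1 := by
        rw [map_mul, (Int.units_eq_one_or _).resolve_left hy, (Int.units_eq_one_or _).resolve_left ht]; decide
      have h1 : y * t = y * s * (s * (t * s) * s) := by
        calc y * t = y * (s * s) * t * (s * s) := by rw [hss, mul_one, mul_one]
          _ = _ := by group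
      rw [Fod hy, Fod ht, Fev hyt, key ⟨y * s, hodd hy⟩ ⟨s * (t * s) * s, hconj ⟨t * s, hodd ht⟩⟩ _ h1]
      have h2 : ψ ⟨s * (t * s) * s, hconj ⟨t * s, hodd ht⟩⟩ = B.xx * ψ ⟨t * s, hodd ht⟩ * B.xx := (hf12 ⟨t * s, hodd ht⟩).symm
      rw [h2]; group
  let F : S8 →* G := MonoidHom.mk' F0 Fmul
  have Fapp : ∀ y : S8, F y = F0 y := fun y => rfl
  have hs1 : ¬ Perm.sign s = 1 := by rw [hssign]; decide
  have hone : ψ ⟨s * s, hodd hs1⟩ = 1 := by
    rw [← map_one ψ]; exact congrArg ψ (Subtype.ext hss)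
  have Fs : F s = B.xx := by
    rw [Fapp, Fod hs1, hone, one_mul]
  have Fg : ∀ i, F (gA i) = gG i := fun i => by rw [Fapp, Fev (gA_sign i), hψg]
  have hagree : ∀ p, F (iota p) = B.φ p := by
    have hzS : pz ∈ (F.comp iota).eqLocus B.φ := by
      show F (iota pz) = B.φ pz
      rw [gA_iota.1, Fg]; rfl
    have hxS : pxx ∈ (F.comp iota).eqLocus B.φ := by
      show F (iota pxx) = B.φ pxx
      rw [iota_pxx.1, ← hs, Fs]
    have hpS : ∀ i, px i ∈ (F.comp iota).eqLocus B.φ := fun i => by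
      show F (iota (px i)) = B.φ (px i)
      rw [gA_iota.2 i, Fg]
      fin_cases i <;> rfl
    have h2 : ∀ c : S5, ((1, c) : Pair) ∈ (F.comp iota).eqLocus B.φ := by
      intro c
      have hc : c ∈ Submonoid.closure (Set.range fun i : Fin 4 => (swap i.castSucc i.succ : S5)) := by
        rw [Perm.mclosure_swap_castSucc_succ]; trivial
      induction hc using Submonoid.closure_induction with
      | mem g hg => obtain ⟨i, rfl⟩ := hg; rw [iota_pxx.2 i]; exact mul_mem hxS (hpS i)
      | one => exact one_mem _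
      | mul p q _ _ hp hq =>
        rw [show ((1, p * q) : Pair) = (1, p) * (1, q) from Prod.ext (one_mul 1).symm rfl]; exact mul_mem hp hq
    intro p
    have h1 : ((p.1, 1) : Pair) ∈ (F.comp iota).eqLocus B.φ := by
      have e1 : ((c3, 1) : Pair) = pz := rfl
      have e2 : ((s3, 1) : Pair) = pxx := rfl
      rcases S3_cases p.1 with e | e | e | e | e | e <;> rw [e]
      · exact one_mem _
      · exact hzS
      · rw [show ((c3 * c3, 1) : Pair) = pz * pz from rfl]; exact mul_mem hzS hzS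
      · exact hxS
      · rw [show ((s3 * c3, 1) : Pair) = pxx * pz from rfl]; exact mul_mem hxS hzS
      · rw [show ((s3 * (c3 * c3), 1) : Pair) = pxx * (pz * pz) from rfl]; exact mul_mem hxS (mul_mem hzS hzS)
    have := mul_mem h1 (h2 p.2)
    rw [show ((p.1, 1) : Pair) * (1, p.2) = p from Prod.ext (mul_one _) (one_mul _)] at this
    exact this
  haveI : IsSimpleGroup (alternatingGroup (Fin 8)) :=
    alternatingGroup.isSimpleGroup (by rw [Nat.card_fin]; norm_num)
  have hinjψ : Function.Injective ψ := by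
    rw [← MonoidHom.ker_eq_bot_iff]
    refine (ψ.normal_ker.eq_bot_or_eq_top).resolve_right fun e => ?_
    have : ψ ⟨gA 0, gA_sign 0⟩ = 1 := by
      rw [← MonoidHom.mem_ker, e]; trivial
    rw [hψg] at this
    exact B.z_ne_one this
  have hinj : Function.Injective F := by
    rw [injective_iff_map_eq_one]
    intro k hk
    have heven : ∀ {a : S8}, Perm.sign a = 1 → F a = 1 → a = 1 := fun {a} ha h => by
      have : F a = ψ ⟨a, ha⟩ := by rw [Fapp, Fev ha]
      rw [this] at h
      exact congrArg Subtype.val (hinjψ (h.trans (map_one ψ).symm))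
    by_cases hks : Perm.sign k = 1
    · exact heven hks hk
    exfalso
    have hcomm : ∀ t : S8, t * k = k * t := by
      intro t
      have := heven (a := t * k * t⁻¹ * k⁻¹) (by
        rw [map_mul, map_mul, map_mul, map_inv, map_inv, mul_right_comm (Perm.sign t), mul_inv_cancel, one_mul,
          mul_inv_cancel])
        (by rw [map_mul, map_mul, map_mul, map_inv, map_inv, hk]; simp)
      exact mul_inv_eq_iff_eq_mul.1 (mul_inv_eq_one.1 this)
    refine hks ?_
    have hk1 : k = 1 := by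
      refine Equiv.ext fun i => ?_
      by_contra hne
      obtain ⟨j, hji, hjk⟩ : ∃ j : Fin 8, j ≠ i ∧ j ≠ k i := by
        by_contra hcon
        push Not at hcon
        have h1 : (Finset.univ : Finset (Fin 8)) ⊆ {i, k i} := fun j _ => by
          by_cases h : j = i
          · simp [h]
          · simp [hcon j h]
        have := Finset.card_le_card h1
        rw [Finset.card_univ, Fintype.card_fin] at this
        exact absurd (this.trans Finset.card_le_two) (by norm_num)
      have := congrArg (fun t : S8 => t i) (hcomm (swap (k i) j))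
      simp only [Perm.mul_apply, swap_apply_left] at this
      rw [swap_apply_of_ne_of_ne (fun h => hne (by simpa using h.symm)) hji.symm] at this
      exact hjk this
    rw [hk1, map_one]
  exact ⟨⟨F, hinj, hagree⟩⟩

end CfsgLib.Recog.EightThreeSym
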