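import Cfsg.Agent.Lib.Recog.EightThreeSym.Model
import Cfsg.Agent.Lib.Recog.EightThree.Setup

/-!
Owner: helper10. The normalised local data of the 3-local characterisation of `S₈` and its first consequences.
-/

set_option autoImplicit false
set_option linter.all false

namespace CfsgLib.Recog.EightThreeSym

open Subgroup Equiv CfsgLib.Recog.EightThree
open scoped Pointwise

universe u

/-- The data: `φ` identifies the normaliser of the subgroup of order three and `g` exchanges the two factors of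
the Sylow 3-subgroup. -/
structure Base (G : Type u) [Group G] [Finite G] where
  φ : Pair →* G
  inj : Function.Injective φ
  norm : normalizer (zpowers (φ pz) : Set G) = φ.range
  g : G
  g2 : g * g = 1
  gz : g * φ pz * g = φ pw
  not27 : ¬ 27 ∣ Nat.card G
  card_m : Nat.card (centralizer ({φ pm} : Set G)) = 36

variable {G : Type u} [Group G] [Finite G]

theorem orderOf_eq_three {x : G} (h3 : x * x * x = 1) (h1 : x ≠ 1) : orderOf x = 3 :=
  haveI := Fact.mk Nat.prime_three
  orderOf_eq_prime (by rw [pow_succ, pow_two]; exact h3) h1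

theorem conj_sq {k x : G} (h : x * x = 1) : k * x * k⁻¹ * (k * x * k⁻¹) = 1 := by
  rw [conj_mul, h, mul_one, mul_inv_cancel]

theorem commute_conj {k x y : G} (h : Commute x y) : Commute (k * x * k⁻¹) (k * y * k⁻¹) :=
  h.map (MulAut.conj k).toMonoidHom

theorem commute_conj_iff {k x y : G} : Commute x (k * y * k⁻¹) ↔ Commute (k⁻¹ * x * k) y := by
  refine ⟨fun h => ?_, fun h => ?_⟩
  · have := commute_conj (k := k⁻¹) h
    rwa [inv_inv, show k⁻¹ * (k * y * k⁻¹) * k = y by group] at this
  · have := commute_conj (k := k) h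
    rwa [show k * (k⁻¹ * x * k) * k⁻¹ = x by group] at this

namespace Base

variable (B : Base G)

include B

abbrev z : G := B.φ pz
abbrev w : G := B.φ pw
abbrev m : G := B.φ pm
abbrev sig : G := B.φ psig
abbrev xx : G := B.φ pxx

theorem φ_eq {p q : Pair} : B.φ p = B.φ q ↔ p = q := B.inj.eq_iff

theorem φ_commute {p q : Pair} (h : p * q = q * p) : Commute (B.φ p) (B.φ q) := by
  show _ = _
  rw [← map_mul, ← map_mul, h]

theorem of_φ_commute {p q : Pair} (h : Commute (B.φ p) (B.φ q)) : p * q = q * p :=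
  B.inj (by rw [map_mul, map_mul]; exact h.eq)

theorem g_inv : B.g⁻¹ = B.g := inv_eq_of_mul_eq_one_left B.g2

theorem gg (x : G) : B.g * (B.g * x) = x := by rw [← mul_assoc, B.g2, one_mul]

theorem gw : B.g * B.w * B.g = B.z := by
  rw [Base.w, ← B.gz, show B.g * (B.g * B.φ pz * B.g) * B.g = (B.g * B.g) * B.φ pz * (B.g * B.g) by group, B.g2,
    one_mul, mul_one]

/-- Conjugation by `g`, as a map. -/
def cg : G →* G where
  toFun x := B.g * x * B.g
  map_one' := by rw [mul_one, B.g2]
  map_mul' x y := by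
    rw [show B.g * x * B.g * (B.g * y * B.g) = B.g * x * (B.g * B.g) * y * B.g by group, B.g2, mul_one]
    group

theorem cg_apply (x : G) : B.cg x = B.g * x * B.g := rfl

theorem cg_cg (x : G) : B.cg (B.cg x) = x := by
  rw [cg_apply, cg_apply, show B.g * (B.g * x * B.g) * B.g = (B.g * B.g) * x * (B.g * B.g) by group, B.g2,
    one_mul, mul_one]

theorem cg_z : B.cg B.z = B.w := B.gz
theorem cg_w : B.cg B.w = B.z := B.gw

theorem cg_commute {x y : G} (h : Commute x y) : Commute (B.cg x) (B.cg y) := h.map B.cg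

theorem cg_commute_iff {x y : G} : Commute (B.cg x) y ↔ Commute x (B.cg y) := by
  refine ⟨fun h => ?_, fun h => ?_⟩ <;> have := B.cg_commute h <;> rwa [B.cg_cg] at this

theorem zwm : B.m = B.z * B.w := by
  rw [← map_mul, show pz * pw = pm by decide +kernel]

theorem cg_m : B.cg B.m = B.m := by
  rw [B.zwm, map_mul, B.cg_z, B.cg_w, ← B.zwm, Base.w, Base.z, ← map_mul,
    show pw * pz = pm by decide +kernel]

theorem z_ne_one : B.z ≠ 1 := fun e => absurd (B.inj (e.trans (map_one B.φ).symm)) (by decide +kernel)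

theorem z_cube : B.z * B.z * B.z = 1 := by
  rw [← map_mul, ← map_mul, show pz * pz * pz = 1 by decide +kernel, map_one]

theorem orderOf_z : orderOf B.z = 3 := orderOf_eq_three B.z_cube B.z_ne_one

/-- Elements centralising or inverting `z` lie in the image. -/
theorem exists_of_normalizes {x : G} (hx : x * B.z * x⁻¹ = B.z ∨ x * B.z * x⁻¹ = B.z⁻¹) :
    ∃ p, B.φ p = x := by
  rw [← MonoidHom.mem_range, ← B.norm, mem_normalizer_iff]
  have h1 : (zpowers B.z).map (MulAut.conj x).toMonoidHom = zpowers B.z := by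
    rw [MonoidHom.map_zpowers]
    show zpowers (x * B.z * x⁻¹) = _
    rcases hx with e | e <;> rw [e]
    rw [zpowers_inv]
  intro y
  constructor
  · intro hy
    rw [← h1]; exact ⟨y, hy, rfl⟩
  · intro hy
    rw [← h1] at hy
    obtain ⟨y', hy', he⟩ := hy
    simp only [MulEquiv.coe_toMonoidHom, MulAut.conj_apply, mul_left_inj, mul_right_inj] at he
    exact he ▸ hy'

theorem exists_of_commute_z {x : G} (hx : Commute x B.z) : ∃ p, p * pz = pz * p ∧ B.φ p = x := by
  obtain ⟨p, rfl⟩ := B.exists_of_normalizes (Or.inl (by rw [hx.eq, mul_inv_cancel_right]))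
  exact ⟨p, B.of_φ_commute hx, rfl⟩

theorem exists_of_commute_w {x : G} (hx : Commute x B.w) : ∃ p, p * pz = pz * p ∧ B.cg (B.φ p) = x := by
  have : Commute (B.cg x) B.z := by rw [B.cg_commute_iff, B.cg_z]; exact hx
  obtain ⟨p, hp, he⟩ := B.exists_of_commute_z this
  exact ⟨p, hp, by rw [he, B.cg_cg]⟩

theorem exists_of_commute_zw {x : G} (hz : Commute x B.z) (hw : Commute x B.w) :
    ∃ p ∈ eighteen, B.φ p = x := by
  obtain ⟨p, hp, rfl⟩ := B.exists_of_commute_z hz
  exact ⟨p, centralize_nine18 p hp (B.of_φ_commute hw), rfl⟩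

theorem cg_sig : B.cg B.sig = B.sig := by
  obtain ⟨sz, sw, s2, s1, -⟩ := basic_pairs
  have h1 : Commute (B.cg B.sig) B.z := by rw [B.cg_commute_iff, B.cg_z]; exact B.φ_commute sw
  have h2 : Commute (B.cg B.sig) B.w := by rw [B.cg_commute_iff, B.cg_w]; exact B.φ_commute sz
  obtain ⟨p, hp, he⟩ := B.exists_of_commute_zw h1 h2
  have hsq : B.sig * B.sig = 1 := by rw [← map_mul, s2, map_one]
  have hp2 : p * p = 1 := B.inj (by rw [map_mul, he, ← map_mul, hsq, map_one, map_one])
  rcases (eighteen_facts.2 p hp).2.1 hp2 with rfl | rfl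
  · exfalso
    have := congrArg B.cg he
    rw [B.cg_cg, map_one, map_one] at this
    exact s1 (B.inj (this.symm.trans (map_one B.φ).symm))
  · exact he.symm

/-- `⟨z, w⟩`. -/
def D9 : Subgroup G where
  carrier := {x | ∃ p ∈ nine, B.φ p = x}
  one_mem' := ⟨1, by decide +kernel, map_one _⟩
  mul_mem' := by
    rintro _ _ ⟨p, hp, rfl⟩ ⟨q, hq, rfl⟩
    exact ⟨p * q, (nine_mul p hp q hq).1, map_mul _ _ _⟩
  inv_mem' := by
    rintro _ ⟨p, hp, rfl⟩
    have : ∀ p ∈ nine, p⁻¹ ∈ nine := by decide +kernel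
    exact ⟨p⁻¹, this p hp, map_inv _ _⟩

theorem mem_D9 {x : G} : x ∈ B.D9 ↔ ∃ p ∈ nine, B.φ p = x := Iff.rfl
theorem z_mem_D9 : B.z ∈ B.D9 := ⟨pz, by decide +kernel, rfl⟩
theorem w_mem_D9 : B.w ∈ B.D9 := ⟨pw, by decide +kernel, rfl⟩

theorem card_D9 : Nat.card B.D9 = 9 := by
  classical
  have e : (B.D9 : Set G) = ↑(nine.image B.φ) := by ext x; simp [D9]
  rw [← SetLike.coe_sort_coe, e, Nat.card_coe_set_eq, Set.ncard_coe_finset,
    Finset.card_image_of_injective _ B.inj, nine_card]

theorem D9_isMulCommutative : IsMulCommutative B.D9 :=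
  ⟨⟨by
    rintro ⟨_, p, hp, rfl⟩ ⟨_, q, hq, rfl⟩
    exact Subtype.ext (B.φ_commute (nine_mul p hp q hq).2).eq⟩⟩

theorem D9_not_isCyclic : ¬ IsCyclic B.D9 := by
  intro hc
  obtain ⟨⟨_, p, hp, rfl⟩, hgen⟩ := hc.exists_ofOrder_eq_natCard
  rw [B.card_D9, ← Subgroup.orderOf_coe] at hgen
  have h3 : ∀ p ∈ nine, p ^ 3 = 1 := by decide +kernel
  have : orderOf (B.φ p) ∣ 3 := orderOf_dvd_of_pow_eq_one (by rw [← map_pow, h3 p hp, map_one])
  rw [hgen] at this
  norm_num at this

theorem factorization_three : (Nat.card G).factorization 3 = 2 := by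
  have h9 : 3 ^ 2 ∣ Nat.card G := by
    have := B.D9.card_subgroup_dvd_card
    rw [B.card_D9] at this
    exact this
  have hne : Nat.card G ≠ 0 := Nat.card_pos.ne'
  have h1 : 2 ≤ (Nat.card G).factorization 3 := (Nat.prime_three.pow_dvd_iff_le_factorization hne).1 h9
  by_contra h2
  exact B.not27 ((Nat.prime_three.pow_dvd_iff_le_factorization (k := 3) hne).2 (by omega))

/-- A subgroup of order nine is conjugate to `⟨z, w⟩`. -/
theorem exists_conj_nine {K : Subgroup G} (hK : Nat.card K = 9) : ∃ k : G, MulAut.conj k • B.D9 = K := by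
  haveI := Fact.mk Nat.prime_three
  obtain ⟨k, hk⟩ := MulAction.exists_smul_eq G
    (Sylow.ofCard B.D9 (by rw [B.card_D9, B.factorization_three]; rfl) : Sylow 3 G)
    (Sylow.ofCard K (by rw [hK, B.factorization_three]; rfl) : Sylow 3 G)
  exact ⟨k, congrArg Sylow.toSubgroup hk⟩

/-- The thirty-six elements of the centraliser of `m`. -/
theorem exists_of_commute_m {x : G} (hx : Commute x B.m) :
    ∃ p ∈ eighteen, x = B.φ p ∨ x = B.g * B.φ p := by
  classical
  set A := eighteen.image B.φ with hA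
  set A' := eighteen.image (fun p => B.g * B.φ p) with hA'
  have hdisj : Disjoint A A' := by
    rw [Finset.disjoint_left]
    intro a ha hb
    obtain ⟨p, hp, rfl⟩ := Finset.mem_image.1 ha
    obtain ⟨q, hq, he⟩ := Finset.mem_image.1 hb
    have hg : B.g = B.φ (p * q⁻¹) := by rw [map_mul, map_inv, ← he, mul_inv_cancel_right]
    have h1 := B.gz
    rw [hg] at h1
    rw [← map_mul, ← map_mul] at h1
    have h2 : (p * q⁻¹) * (p * q⁻¹) = 1 := B.inj (by rw [map_mul, ← hg, B.g2, map_one])
    rw [show p * q⁻¹ * pz * (p * q⁻¹) = p * q⁻¹ * pz * (p * q⁻¹)⁻¹ by rw [← eq_inv_of_mul_eq_one_left h2]] at h1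
    rcases norm_pz (p * q⁻¹) with e | e <;> rw [e] at h1 <;> exact absurd (B.inj h1) (by decide +kernel)
  have cA : A.card = 18 := by rw [hA, Finset.card_image_of_injective _ B.inj, eighteen_facts.1]
  have cA' : A'.card = 18 := by
    rw [hA', Finset.card_image_of_injective _ fun p q he => B.inj (mul_left_cancel he), eighteen_facts.1]
  have hsub : ((A ∪ A' : Finset G) : Set G) ⊆ (centralizer ({B.m} : Set G) : Set G) := by
    intro a ha
    rw [Finset.mem_coe, Finset.mem_union] at ha
    refine mem_centralizer_singleton_iff.2 ?_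
    have hcomm : ∀ p ∈ eighteen, Commute (B.φ p) B.m := fun p hp =>
      B.φ_commute ((eighteen_facts.2 p hp).1 pm (by decide +kernel))
    rcases ha with ha | ha <;> obtain ⟨p, hp, rfl⟩ := Finset.mem_image.1 ha
    · exact (hcomm p hp).eq
    · have hgm : Commute B.g B.m := by
        show _ = _
        calc B.g * B.m = B.g * B.cg B.m := by rw [B.cg_m]
          _ = B.m * B.g := by rw [cg_apply, ← mul_assoc, B.gg]
      exact (hgm.mul_left (hcomm p hp)).eq
  have heq : ((A ∪ A' : Finset G) : Set G) = (centralizer ({B.m} : Set G) : Set G) := by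
    refine Set.eq_of_subset_of_ncard_le hsub ?_ (Set.toFinite _)
    rw [Set.ncard_coe_finset, Finset.card_union_of_disjoint hdisj, cA, cA', ← Nat.card_coe_set_eq]
    exact B.card_m.le
  have hxm : x ∈ (centralizer ({B.m} : Set G) : Set G) := mem_centralizer_singleton_iff.2 hx.eq
  rw [← heq, Finset.mem_coe, Finset.mem_union] at hxm
  rcases hxm with ha | ha <;> obtain ⟨p, hp, rfl⟩ := Finset.mem_image.1 ha
  exacts [⟨p, hp, Or.inl rfl⟩, ⟨p, hp, Or.inr rfl⟩]

theorem g_commute_m : Commute B.g B.m := by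
  show _ = _
  calc B.g * B.m = B.g * B.cg B.m := by rw [B.cg_m]
    _ = B.m * B.g := by rw [cg_apply, ← mul_assoc, B.gg]

/-- Mixed elements are conjugate to `m` or its inverse. -/
theorem mixed_conj {q : Pair} (hq : q ∈ mixed) :
    ∃ k : Pair, Norm9 k ∧ (B.φ k * B.m * (B.φ k)⁻¹ = B.φ q ∨ B.φ k * B.m * (B.φ k)⁻¹ = (B.φ q)⁻¹) := by
  have h1 : Norm9 1 := by decide +kernel
  rcases mixed_link q hq with rfl | rfl | rfl | rfl
  · exact ⟨1, h1, Or.inl (by rw [map_one]; group)⟩
  · exact ⟨pf, norm9_basic.1, Or.inl (by rw [map_mul, map_mul, map_inv])⟩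
  · exact ⟨1, h1, Or.inr (by rw [map_one, map_inv]; group)⟩
  · exact ⟨pf, norm9_basic.1, Or.inr (by rw [map_inv, inv_inv, map_mul, map_mul, map_inv])⟩

theorem card_mixed {q : Pair} (hq : q ∈ mixed) : Nat.card (centralizer ({B.φ q} : Set G)) = 36 := by
  obtain ⟨k, -, e | e⟩ := B.mixed_conj hq
  · rw [← e, card_centralizer_conj, B.card_m]
  · rw [← card_centralizer_inv, ← e, card_centralizer_conj, B.card_m]

/-- A subgroup of order nine centralising `m` is `⟨z, w⟩`. -/
theorem nine_of_commute_m {K : Subgroup G} (hK : Nat.card K = 9) (hm : ∀ x ∈ K, Commute x B.m) : K = B.D9 := by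
  refine eq_of_le_of_card_ge (fun x hx => ?_) (by rw [B.card_D9, hK])
  obtain ⟨p, hp, e | e⟩ := B.exists_of_commute_m (hm x hx)
  all_goals
    have h3 : x ^ 3 = 1 := by
      obtain ⟨k, hk⟩ := B.exists_conj_nine hK
      rw [← hk] at hx
      obtain ⟨y, ⟨q, hq, rfl⟩, rfl⟩ := hx
      show (MulAut.conj k (B.φ q)) ^ 3 = 1
      have : ∀ q ∈ nine, q ^ 3 = 1 := by decide +kernel
      rw [← map_pow, ← map_pow, this q hq, map_one, map_one]
  · refine ⟨p, (eighteen_facts.2 p hp).2.2 (B.inj ?_), e.symm⟩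
    rw [map_mul, map_mul, ← e, map_one, ← pow_two, ← pow_succ, h3]
  · exfalso
    have h1 : B.cg B.z = B.z := by
      have hxz : Commute x B.z := by
        have hz0 : Commute B.z B.m := B.φ_commute (by decide +kernel)
        have hpz : Commute (B.φ p) B.z := B.φ_commute ((eighteen_facts.2 p hp).1 pz (by decide +kernel))
        have hsq : x * x = B.cg (B.φ p) * B.φ p := by rw [e, cg_apply]; group
        have hcz : Commute (B.cg (B.φ p)) B.z := by
          rw [B.cg_commute_iff, B.cg_z]
          exact B.φ_commute ((eighteen_facts.2 p hp).1 pw (by decide +kernel))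
        have hxx : x = (x * x) * (x * x) := by
          calc x = x * x ^ 3 := by rw [h3, mul_one]
            _ = (x * x) * (x * x) := by simp only [pow_succ, pow_zero, one_mul]; group
        rw [hxx, hsq]
        exact (hcz.mul_left hpz).mul_left (hcz.mul_left hpz)
      have hgz : Commute B.g B.z := by
        have : B.g = x * (B.φ p)⁻¹ := by rw [e, mul_inv_cancel_right]
        rw [this]
        exact hxz.mul_left (B.φ_commute ((eighteen_facts.2 p hp).1 pz (by decide +kernel))).inv_left
      rw [cg_apply, hgz.eq, mul_assoc, B.g2, mul_one]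
    rw [B.cg_z] at h1
    exact absurd (B.inj h1) (by decide +kernel)

/-- Being conjugate to `sig` is detected by the 3-part of the centraliser. -/
theorem conj_sig_of_nine {r : G} (hr : r * r = 1) (hr1 : r ≠ 1)
    (h9 : 9 ∣ Nat.card (centralizer ({r} : Set G))) : ∃ k : G, k * B.sig * k⁻¹ = r := by
  haveI := Fact.mk Nat.prime_three
  obtain ⟨K, hK⟩ := Sylow.exists_subgroup_card_pow_prime (G := centralizer ({r} : Set G)) 3 (n := 2) h9
  obtain ⟨k, hk⟩ := B.exists_conj_nine (K := K.map (centralizer ({r} : Set G)).subtype)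
    (by rw [card_map_of_injective (subtype_injective _), hK]; rfl)
  have hc : ∀ y ∈ B.D9, Commute (k⁻¹ * r * k) y := by
    intro y hy
    have hy' : MulAut.conj k • y ∈ K.map (centralizer ({r} : Set G)).subtype := hk ▸ smul_mem_pointwise_smul _ _ _ hy
    have hcr : Commute r (k * y * k⁻¹) := (mem_centralizer_singleton_iff.1 (map_subtype_le _ hy') :).symm
    exact commute_conj_iff.1 hcr
  obtain ⟨p, hp, he⟩ := B.exists_of_commute_zw (hc _ B.z_mem_D9) (hc _ B.w_mem_D9)
  have hp2 : p * p = 1 := B.inj (by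
    rw [map_mul, he, map_one, show k⁻¹ * r * k * (k⁻¹ * r * k) = k⁻¹ * (r * r) * k by group, hr]; group)
  rcases (eighteen_facts.2 p hp).2.1 hp2 with rfl | rfl
  · rw [map_one] at he
    exact absurd (show r = k * (k⁻¹ * r * k) * k⁻¹ by group) (by rw [← he]; simpa using hr1)
  · exact ⟨k, by rw [Base.sig, he]; group⟩

/-- `sig` is the only conjugate of itself centralising `m`. -/
theorem eq_sig_of_commute_m {r k : G} (hk : k * B.sig * k⁻¹ = r) (hm : Commute r B.m) : r = B.sig := by
  classical
  haveI := Fact.mk Nat.prime_three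
  set C := centralizer ({r} : Set G) with hC
  have hmC : B.m ∈ C := mem_centralizer_singleton_iff.2 hm.symm.eq
  have hle : B.D9.map (MulAut.conj k).toMonoidHom ≤ C := by
    rintro _ ⟨_, ⟨q, hq, rfl⟩, rfl⟩
    refine mem_centralizer_singleton_iff.2 ?_
    rw [← hk]
    refine (commute_conj ?_).eq
    exact B.φ_commute (by
      have : ∀ q ∈ nine, q * psig = psig * q := by decide +kernel
      exact this q hq)
  have h3 : orderOf (⟨B.m, hmC⟩ : C) = 3 := by
    rw [orderOf_mk]
    refine orderOf_eq_three (by rw [← map_mul, ← map_mul, show pm * pm * pm = 1 by decide +kernel, map_one]) ?_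
    exact fun e => absurd (B.inj (e.trans (map_one B.φ).symm)) (by decide +kernel)
  obtain ⟨S, hS⟩ := (IsPGroup.of_card (p := 3) (n := 1) (show Nat.card (zpowers (⟨B.m, hmC⟩ : C)) = 3 ^ 1 by
    rw [Nat.card_zpowers, h3, pow_one])).exists_le_sylow
  have h9 : 9 ∣ Nat.card C := by
    have := card_dvd_of_le hle
    rwa [card_map_of_injective (MulAut.conj k).injective, B.card_D9] at this
  obtain ⟨j, hj⟩ := S.isPGroup'.exists_card_eq
  have hj2 : j = 2 := by
    have h1 : 3 ^ j ∣ Nat.card G := hj ▸ (S : Subgroup C).card_subgroup_dvd_card.trans C.card_subgroup_dvd_card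
    have hjle : j ≤ 2 := B.factorization_three ▸ (Nat.prime_three.pow_dvd_iff_le_factorization Nat.card_pos.ne').1 h1
    have h2 : (Nat.card C).factorization 3 = j := by
      have := S.card_eq_multiplicity
      rw [hj] at this
      exact (Nat.pow_right_injective (by norm_num) this).symm
    have h4 : 2 ≤ (Nat.card C).factorization 3 :=
      (Nat.prime_three.pow_dvd_iff_le_factorization Nat.card_pos.ne').1 (show 3 ^ 2 ∣ Nat.card C from h9)
    omega
  have hKcard : Nat.card ((S : Subgroup C).map C.subtype) = 9 := by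
    rw [card_map_of_injective C.subtype_injective, hj, hj2]; rfl
  obtain ⟨k', hk'⟩ := B.exists_conj_nine hKcard
  have habel : ∀ a ∈ (S : Subgroup C).map C.subtype, ∀ b ∈ (S : Subgroup C).map C.subtype, Commute a b := by
    rw [← hk']
    rintro _ ⟨_, ⟨p, hp, rfl⟩, rfl⟩ _ ⟨_, ⟨q, hq, rfl⟩, rfl⟩
    exact (B.φ_commute (nine_mul p hp q hq).2).map (MulAut.conj k').toMonoidHom
  have hmS : B.m ∈ (S : Subgroup C).map C.subtype := ⟨⟨B.m, hmC⟩, hS (mem_zpowers _), rfl⟩
  have hK9 := B.nine_of_commute_m hKcard fun a ha => habel a ha _ hmS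
  have hcz : Commute r B.z := by
    have : B.z ∈ (S : Subgroup C).map C.subtype := hK9 ▸ B.z_mem_D9
    exact (mem_centralizer_singleton_iff.1 (map_subtype_le _ this) :).symm
  have hcw : Commute r B.w := by
    have : B.w ∈ (S : Subgroup C).map C.subtype := hK9 ▸ B.w_mem_D9
    exact (mem_centralizer_singleton_iff.1 (map_subtype_le _ this) :).symm
  obtain ⟨p, hp, he⟩ := B.exists_of_commute_zw hcz hcw
  have hr2 : r * r = 1 := by rw [← hk]; exact conj_sq (by rw [← map_mul, basic_pairs.2.2.1, map_one])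
  rcases (eighteen_facts.2 p hp).2.1 (B.inj (by rw [map_mul, he, hr2, map_one])) with rfl | rfl
  · rw [map_one, ← hk] at he
    exact absurd (B.inj ((conj_eq_one_iff.1 he.symm).trans (map_one B.φ).symm)) basic_pairs.2.2.2.1
  · exact he.symm

/-- An involution of the second factor centralising `z` but no element of order three of that factor. -/
theorem not_conj_sig {p : Pair} (hpz : p * pz = pz * p)
    (hp : ∀ q : Pair, q * p = p * q → q * q * q = 1 → q * pz = pz * q → q.2 = 1) (k : G) :
    k * B.sig * k⁻¹ ≠ B.φ p := by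
  classical
  haveI := Fact.mk Nat.prime_three
  intro hk
  set r := B.φ p
  set C := centralizer ({r} : Set G) with hC
  have hzC : B.z ∈ C := mem_centralizer_singleton_iff.2 (B.φ_commute hpz).symm.eq
  have h3 : orderOf (⟨B.z, hzC⟩ : C) = 3 := by rw [orderOf_mk, B.orderOf_z]
  have hle : B.D9.map (MulAut.conj k).toMonoidHom ≤ C := by
    rintro _ ⟨_, ⟨q, hq, rfl⟩, rfl⟩
    refine mem_centralizer_singleton_iff.2 ?_
    rw [show r = k * B.sig * k⁻¹ from hk.symm]
    exact (commute_conj (B.φ_commute (by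
      have : ∀ q ∈ nine, q * psig = psig * q := by decide +kernel
      exact this q hq))).eq
  obtain ⟨S, hS⟩ := (IsPGroup.of_card (p := 3) (n := 1) (show Nat.card (zpowers (⟨B.z, hzC⟩ : C)) = 3 ^ 1 by
    rw [Nat.card_zpowers, h3, pow_one])).exists_le_sylow
  obtain ⟨T, hT⟩ := (IsPGroup.of_card (p := 3) (n := 2) (show Nat.card
      ((B.D9.map (MulAut.conj k).toMonoidHom).subgroupOf C) = 3 ^ 2 by
    rw [Nat.card_congr (subgroupOfEquivOfLe hle).toEquiv, card_map_of_injective (MulAut.conj k).injective,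
      B.card_D9]; rfl)).exists_le_sylow
  have hScard : Nat.card (S : Subgroup C) = Nat.card (T : Subgroup C) := by
    rw [S.card_eq_multiplicity, T.card_eq_multiplicity]
  obtain ⟨j, hj⟩ := T.isPGroup'.exists_card_eq
  have h9 : 9 ∣ Nat.card (T : Subgroup C) := by
    have := card_dvd_of_le hT
    rwa [Nat.card_congr (subgroupOfEquivOfLe hle).toEquiv, card_map_of_injective (MulAut.conj k).injective,
      B.card_D9] at this
  have hKcard : Nat.card ((S : Subgroup C).map C.subtype) = 9 := by
    rw [card_map_of_injective C.subtype_injective, hScard, hj]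
    have hG : 3 ^ j ∣ Nat.card G := hj ▸ (T : Subgroup C).card_subgroup_dvd_card.trans C.card_subgroup_dvd_card
    have h1 : j ≤ 2 := B.factorization_three ▸ (Nat.prime_three.pow_dvd_iff_le_factorization Nat.card_pos.ne').1 hG
    have h2 : 3 ^ 2 ∣ 3 ^ j := hj ▸ h9
    have h2' := (Nat.pow_dvd_pow_iff_le_right (by norm_num : 1 < 3)).1 h2
    rw [show j = 2 by omega]; rfl
  obtain ⟨k', hk'⟩ := B.exists_conj_nine hKcard
  have hzS : B.z ∈ (S : Subgroup C).map C.subtype := ⟨⟨B.z, hzC⟩, hS (mem_zpowers _), rfl⟩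
  have hmem : ∀ a ∈ (S : Subgroup C).map C.subtype, ∃ q, q * pz = pz * q ∧ q.2 = 1 ∧ B.φ q = a := by
    intro a ha
    have hac : Commute a B.z := by
      rw [← hk'] at ha hzS
      obtain ⟨_, ⟨q, hq, rfl⟩, rfl⟩ := ha
      obtain ⟨_, ⟨q', hq', rfl⟩, he⟩ := hzS
      rw [← he]
      exact (B.φ_commute (nine_mul q hq q' hq').2).map (MulAut.conj k').toMonoidHom
    obtain ⟨q, hq, rfl⟩ := B.exists_of_commute_z hac
    refine ⟨q, hq, hp q (B.of_φ_commute (mem_centralizer_singleton_iff.1 (map_subtype_le _ ha) :)) ?_ hq, rfl⟩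
    rw [← hk'] at ha
    obtain ⟨_, ⟨q', hq', rfl⟩, he⟩ := ha
    refine B.inj ?_
    have e3 : ∀ q ∈ nine, q * q * q = 1 := by decide +kernel
    rw [map_mul, map_mul, ← he, map_one]
    show MulAut.conj k' (B.φ q') * MulAut.conj k' (B.φ q') * MulAut.conj k' (B.φ q') = 1
    rw [← map_mul, ← map_mul, ← map_mul, ← map_mul, e3 q' hq', map_one, map_one]
  have hle3 : Nat.card ((S : Subgroup C).map C.subtype) ≤ 6 := by
    rw [← SetLike.coe_sort_coe, Nat.card_coe_set_eq]
    refine le_trans (Set.ncard_le_ncard (t := ↑((Finset.univ.filter fun q : Pair => q.2 = 1).image B.φ)) ?_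
      (Finset.finite_toSet _)) ?_
    · intro a ha
      obtain ⟨q, -, hq, rfl⟩ := hmem a ha
      rw [Finset.mem_coe]
      exact Finset.mem_image_of_mem _ (Finset.mem_filter.2 ⟨Finset.mem_univ _, hq⟩)
    · rw [Set.ncard_coe_finset, Finset.card_image_of_injective _ B.inj]
      decide +kernel
  omega

/-- An involution centralising `z` and not conjugate to `sig` has no conjugate centralising `m`. -/
theorem not_conj_mixed {x : G} (h2 : x * x = 1) (h1 : x ≠ 1) (hz : Commute x B.z)
    (hns : ∀ k : G, k * B.sig * k⁻¹ ≠ x) (k : G) (hm : Commute (k * x * k⁻¹) B.m) : False := by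
  classical
  haveI := Fact.mk Nat.prime_three
  set C := centralizer ({x} : Set G)
  have hzC : B.z ∈ C := mem_centralizer_singleton_iff.2 hz.symm.eq
  set m' := k⁻¹ * B.m * k with hm'
  have hmC : m' ∈ C := mem_centralizer_singleton_iff.2 (commute_conj_iff.1 hm.symm).eq
  have hm0 : orderOf B.m = 3 := orderOf_eq_three
    (by rw [← map_mul, ← map_mul, show pm * pm * pm = 1 by decide +kernel, map_one])
    fun e => absurd (B.inj (e.trans (map_one B.φ).symm)) (by decide +kernel)
  have hm3 : orderOf m' = 3 := by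
    rw [hm', show k⁻¹ * B.m * k = k⁻¹ * B.m * k⁻¹⁻¹ by group, orderOf_conj', hm0]
  have hfac : (Nat.card C).factorization 3 = 1 := by
    have hne : Nat.card C ≠ 0 := Nat.card_pos.ne'
    have h3 : 3 ^ 1 ∣ Nat.card C := by
      rw [pow_one, ← B.orderOf_z]; exact Subgroup.orderOf_dvd_natCard _ hzC
    have a := (Nat.prime_three.pow_dvd_iff_le_factorization hne).1 h3
    by_contra hb
    obtain ⟨j, hj⟩ := B.conj_sig_of_nine h2 h1 ((Nat.prime_three.pow_dvd_iff_le_factorization (k := 2) hne).2 (by omega))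
    exact hns j hj
  have hc : ∀ (a : G) (ha : a ∈ C), orderOf a = 3 →
      Nat.card (zpowers (⟨a, ha⟩ : C)) = 3 ^ (Nat.card C).factorization 3 := fun a ha h3 => by
    rw [Nat.card_zpowers, orderOf_mk, h3, hfac, pow_one]
  obtain ⟨⟨c, hcC⟩, he⟩ :=
    MulAction.exists_smul_eq C (Sylow.ofCard _ (hc _ hzC B.orderOf_z)) (Sylow.ofCard _ (hc _ hmC hm3))
  have he' : (zpowers B.z).map (MulAut.conj c).toMonoidHom = zpowers m' := by
    have := congrArg (fun S : Sylow 3 C => (S : Subgroup C).map C.subtype) he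
    simp only [Sylow.smul_def, Sylow.pointwise_smul_def] at this
    rw [MonoidHom.map_zpowers]
    change Subgroup.map C.subtype (Subgroup.map (MulAut.conj (⟨c, hcC⟩ : C)).toMonoidHom (zpowers _)) = _ at this
    rw [MonoidHom.map_zpowers, MonoidHom.map_zpowers] at this
    refine this.trans ?_
    show (zpowers _).map C.subtype = _
    rw [MonoidHom.map_zpowers]; rfl
  have hcard : Nat.card (centralizer ((zpowers m' : Subgroup G) : Set G)) =
      Nat.card (centralizer ((zpowers B.z : Subgroup G) : Set G)) := by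
    rw [← he', MonoidHom.map_zpowers, zpowers_eq_closure, zpowers_eq_closure, centralizer_closure, centralizer_closure]
    exact card_centralizer_conj c _
  rw [zpowers_eq_closure, zpowers_eq_closure, centralizer_closure, centralizer_closure, hm', show k⁻¹ * B.m * k = k⁻¹ * B.m * k⁻¹⁻¹ by group,
    card_centralizer_conj, B.card_m] at hcard
  have h360 : 360 ≤ Nat.card (centralizer ({B.z} : Set G)) := by
    rw [← count_commute_pz, ← Set.ncard_coe_finset, ← SetLike.coe_sort_coe, Nat.card_coe_set_eq]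
    refine Set.ncard_le_ncard_of_injOn B.φ ?_ B.inj.injOn (Set.toFinite _)
    intro p hp
    simp only [Finset.coe_filter, Finset.mem_univ, true_and, Set.mem_setOf_eq] at hp
    exact mem_centralizer_singleton_iff.2 (B.φ_commute hp).eq
  omega

theorem card_sig_three {j : G} (hj : j * j = 1) (hjm : Commute j B.m) (hjs : j ≠ B.sig) (k : G) :
    k * B.sig * k⁻¹ ≠ j := fun e => hjs (B.eq_sig_of_commute_m e hjm)

end Base

end CfsgLib.Recog.EightThreeSym
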