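import Cfsg.Agent.Lib.Recog.EightThreeSym.Base
import Cfsg.Agent.Lib.Classical.SmallIso
import Cfsg.Agent.S0058
import Cfsg.Agent.S3331

/-!
Owner: helper10. The centraliser of the four group fixing a point: it is controlled by its intersections with
the centralisers of `z` and `w`.
-/

set_option autoImplicit false
set_option linter.all false
set_option synthInstance.maxSize 1000

namespace CfsgLib.Recog.EightThreeSym

open Subgroup Equiv Cfsg CfsgLib.Recog.EightThree
open scoped Pointwise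

universe u

theorem S3_no_central : ∀ a y : S3, y * y * y = 1 → y ≠ 1 → a * a = 1 → a * y = y * a → a = 1 := by decide +kernel

/-- In a group of order three or isomorphic to `S₃`, normal subgroups of order prime to three are trivial. -/
theorem small_quotient_normal {K : Type*} [Group K] [Finite K] (h : Nat.card K = 3 ∨ Nonempty (K ≃* S3))
    (M : Subgroup K) [hM : M.Normal] (hn : ¬ 3 ∣ Nat.card M) : M = ⊥ := by
  rcases h with h3 | ⟨⟨e⟩⟩
  · have := M.card_subgroup_dvd_card
    rw [h3] at this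
    rcases (Nat.dvd_prime Nat.prime_three).1 this with e | e
    · exact M.eq_bot_of_card_eq e
    · exact absurd (e.symm ▸ dvd_refl 3) hn
  · have h6 : Nat.card K = 6 := by
      rw [Nat.card_congr e.toEquiv, Nat.card_perm, Nat.card_fin]; rfl
    have hd := M.card_subgroup_dvd_card
    rw [h6] at hd
    have hle : Nat.card M ≤ 2 := by
      have := Nat.le_of_dvd (by norm_num) hd
      interval_cases Nat.card M <;> omega
    refine (eq_bot_iff_forall M).2 fun a ha => ?_
    by_contra hne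
    have huniq : ∀ y ∈ M, y = 1 ∨ y = a := by
      intro y hy
      by_contra hcon
      push Not at hcon
      have h3 : ({1, a, y} : Set K).ncard ≤ (M : Set K).ncard :=
        Set.ncard_le_ncard (by rintro b (rfl | rfl | rfl) <;> [exact M.one_mem; exact ha; exact hy]) (Set.toFinite _)
      rw [Set.ncard_eq_three.2 ⟨1, a, y, Ne.symm hne, Ne.symm hcon.1, Ne.symm hcon.2, rfl⟩,
        ← Nat.card_coe_set_eq] at h3
      change 3 ≤ Nat.card M at h3
      omega
    have haa : a * a = 1 := by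
      rcases huniq _ (mul_mem ha ha) with r | r
      · exact r
      · exact absurd (mul_eq_left.1 r) hne
    haveI := Fact.mk Nat.prime_three
    obtain ⟨y, hy⟩ := exists_prime_orderOf_dvd_card' (G := K) 3 (h6.symm ▸ (by norm_num : 3 ∣ 6))
    have hy3 : y * y * y = 1 := by rw [← pow_two, ← pow_succ, show 2 + 1 = orderOf y from hy.symm, pow_orderOf_eq_one]
    have hcomm : a * y = y * a := by
      rcases huniq _ (hM.conj_mem a ha y) with r | r
      · exact absurd (conj_eq_one_iff.1 r) hne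
      · exact (mul_inv_eq_iff_eq_mul.1 r).symm
    exact hne (e.map_eq_one_iff.1 (S3_no_central (e a) (e y) (by rw [← map_mul, ← map_mul, hy3, map_one])
      (fun r => by rw [e.map_eq_one_iff.1 r, orderOf_one] at hy; norm_num at hy)
      (by rw [← map_mul, haa, map_one]) (by rw [← map_mul, ← map_mul, hcomm])))

theorem A5_normal (M : Subgroup (alternatingGroup (Fin 5))) [M.Normal] (hn : ¬ 3 ∣ Nat.card M) : M = ⊥ := by
  haveI : IsSimpleGroup (alternatingGroup (Fin 5)) := alternatingGroup.isSimpleGroup (by rw [Nat.card_fin])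
  refine (Subgroup.Normal.eq_bot_or_eq_top inferInstance).resolve_right fun e => hn ?_
  have := two_mul_nat_card_alternatingGroup (α := Fin 5)
  rw [Nat.card_perm, Nat.card_fin, show Nat.factorial 5 = 120 by decide] at this
  rw [e, Subgroup.card_top]
  omega

variable {G : Type u} [Group G] [Finite G]

namespace Base

variable (B : Base G)

include B

/-- The centraliser of the four group. -/
def CV : Subgroup G := centralizer ({B.φ pu} : Set G) ⊓ centralizer ({B.φ pv} : Set G)

theorem mem_CV {x : G} : x ∈ B.CV ↔ Commute x (B.φ pu) ∧ Commute x (B.φ pv) := by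
  rw [CV, mem_inf, mem_centralizer_singleton_iff, mem_centralizer_singleton_iff]
  rfl

theorem φ_mem_CV {p : Pair} (h1 : p * pu = pu * p) (h2 : p * pv = pv * p) : B.φ p ∈ B.CV :=
  B.mem_CV.2 ⟨B.φ_commute h1, B.φ_commute h2⟩

theorem of_φ_mem_CV {p : Pair} (h : B.φ p ∈ B.CV) : p * pu = pu * p ∧ p * pv = pv * p :=
  ⟨B.of_φ_commute (B.mem_CV.1 h).1, B.of_φ_commute (B.mem_CV.1 h).2⟩

theorem z_mem_CV : B.z ∈ B.CV := B.φ_mem_CV (by decide +kernel) (by decide +kernel)
theorem xx_mem_CV : B.xx ∈ B.CV := B.φ_mem_CV (by decide +kernel) (by decide +kernel)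

theorem commute_zw : Commute B.z B.w := B.φ_commute (by decide +kernel)

theorem conj_CV {p : Pair}
    (hp : ∀ v ∈ ({pu, pv, pu * pv} : Finset Pair), p⁻¹ * v * p ∈ ({pu, pv, pu * pv} : Finset Pair))
    {x : G} (hx : x ∈ B.CV) : B.φ p * x * (B.φ p)⁻¹ ∈ B.CV := by
  have key : ∀ v ∈ ({pu, pv, pu * pv} : Finset Pair), Commute x (B.φ v) := by
    obtain ⟨a, b⟩ := B.mem_CV.1 hx
    intro v hv
    simp only [Finset.mem_insert, Finset.mem_singleton] at hv
    rcases hv with rfl | rfl | rfl
    · exact a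
    · exact b
    · rw [map_mul]; exact a.mul_right b
  have step : ∀ v ∈ ({pu, pv, pu * pv} : Finset Pair), Commute (B.φ p * x * (B.φ p)⁻¹) (B.φ v) := by
    intro v hv
    have h1 := key _ (hp v hv)
    rw [map_mul, map_mul, map_inv] at h1
    show _ = _
    calc B.φ p * x * (B.φ p)⁻¹ * B.φ v = B.φ p * (x * ((B.φ p)⁻¹ * B.φ v * B.φ p)) * (B.φ p)⁻¹ := by group
      _ = B.φ p * (((B.φ p)⁻¹ * B.φ v * B.φ p) * x) * (B.φ p)⁻¹ := by rw [show x * _ = _ * x from h1.eq]
      _ = B.φ v * (B.φ p * x * (B.φ p)⁻¹) := by group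
  exact B.mem_CV.2 ⟨step pu (by decide +kernel), step pv (by decide +kernel)⟩

theorem w_conj_CV {x : G} (hx : x ∈ B.CV) : B.w * x * B.w⁻¹ ∈ B.CV ∧ B.w⁻¹ * x * B.w ∈ B.CV := by
  refine ⟨B.conj_CV (p := pw) (fun v hv => (pw_four v hv).2.1) hx, ?_⟩
  have := B.conj_CV (p := pw⁻¹) (fun v hv => by rw [inv_inv]; exact (pw_four v hv).1) hx
  rwa [map_inv, inv_inv] at this

theorem exists_of_CV_commute_z {x : G} (hx : x ∈ B.CV) (hz : Commute x B.z) :
    ∃ p : Pair, (p.1 = 1 ∨ p.1 = c3 ∨ p.1 = c3 * c3) ∧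
      p.2 ∈ ({1, pu.2, pv.2, pu.2 * pv.2} : Finset S5) ∧ B.φ p = x := by
  obtain ⟨p, hp, rfl⟩ := B.exists_of_commute_z hz
  obtain ⟨hu, hv⟩ := B.of_φ_mem_CV hx
  obtain ⟨h1, h2⟩ := centralize_four' p hu hv hp
  exact ⟨p, h1, h2, rfl⟩

theorem card_centralizer_z : Nat.card (centralizer ({B.z} : Set G)) = 360 := by
  classical
  have e : (centralizer ({B.z} : Set G) : Set G) = ↑((Finset.univ.filter fun p : Pair => p * pz = pz * p).image B.φ) := by
    ext x
    rw [Finset.mem_coe, Finset.mem_image, SetLike.mem_coe, mem_centralizer_singleton_iff]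
    constructor
    · intro hx
      obtain ⟨p, hp, rfl⟩ := B.exists_of_commute_z hx
      exact ⟨p, Finset.mem_filter.2 ⟨Finset.mem_univ _, hp⟩, rfl⟩
    · rintro ⟨p, hp, rfl⟩
      exact (B.φ_commute (Finset.mem_filter.1 hp).2).eq
  rw [← SetLike.coe_sort_coe, e, Nat.card_coe_set_eq, Set.ncard_coe_finset,
    Finset.card_image_of_injective _ B.inj, count_commute_pz]

theorem card_centralizer_w : Nat.card (centralizer ({B.w} : Set G)) = 360 := by
  rw [← B.cg_z, cg_apply]
  conv_lhs => rw [show B.g * B.z * B.g = B.g * B.z * B.g⁻¹ by rw [B.g_inv]]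
  rw [card_centralizer_conj, B.card_centralizer_z]

theorem card_centralizer_nine {q : Pair} (hq : q ∈ nine) (h1 : q ≠ 1) :
    Nat.card (centralizer ({B.φ q} : Set G)) = 360 ∨ Nat.card (centralizer ({B.φ q} : Set G)) = 36 := by
  rcases nine_cases q hq with e | e | e | e
  · exact absurd e h1
  · rcases zline_wline_link.1 q e with rfl | rfl
    · exact Or.inl B.card_centralizer_z
    · rw [map_inv, card_centralizer_inv]; exact Or.inl B.card_centralizer_z
  · rcases zline_wline_link.2.1 q e with rfl | rfl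
    · exact Or.inl B.card_centralizer_w
    · rw [map_inv, card_centralizer_inv]; exact Or.inl B.card_centralizer_w
  · exact Or.inr (B.card_mixed e)

/-- Elements centralising a mixed element normalise `⟨z, w⟩`. -/
theorem conj_D9_of_mixed {q : Pair} (hq : q ∈ mixed) {x : G} (hx : Commute x (B.φ q)) {y : G} (hy : y ∈ B.D9) :
    x * y * x⁻¹ ∈ B.D9 := by
  obtain ⟨k, hk, he⟩ := B.mixed_conj hq
  have hkD : ∀ a ∈ B.D9, B.φ k * a * (B.φ k)⁻¹ ∈ B.D9 := by
    rintro _ ⟨r, hr, rfl⟩
    refine ⟨k * r * k⁻¹, ?_, by rw [map_mul, map_mul, map_inv]⟩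
    rcases nine_gens r hr with rfl | rfl | rfl | rfl | rfl | rfl | rfl | rfl | rfl
    · rw [mul_one, mul_inv_cancel]; decide +kernel
    · exact hk.1
    · rw [← conj_mul]; exact (nine_mul _ hk.1 _ hk.1).1
    · exact hk.2
    · rw [← conj_mul]; exact (nine_mul _ hk.2 _ hk.2).1
    · rw [← conj_mul]; exact (nine_mul _ hk.1 _ hk.2).1
    · rw [← conj_mul, ← conj_mul]; exact (nine_mul _ (nine_mul _ hk.1 _ hk.1).1 _ hk.2).1
    · rw [← conj_mul, ← conj_mul]; exact (nine_mul _ hk.1 _ (nine_mul _ hk.2 _ hk.2).1).1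
    · rw [← conj_mul, ← conj_mul, ← conj_mul]
      exact (nine_mul _ (nine_mul _ hk.1 _ hk.1).1 _ (nine_mul _ hk.2 _ hk.2).1).1
  have hx' : Commute x (B.φ k * B.m * (B.φ k)⁻¹) := by
    rcases he with e | e <;> rw [e]
    exacts [hx, hx.inv_right]
  set x' := (B.φ k)⁻¹ * x * B.φ k with hx'def
  have hxm : Commute x' B.m := commute_conj_iff.1 hx'
  have hmD : B.m ∈ B.D9 := ⟨pm, by decide +kernel, rfl⟩
  have hK : B.D9.map (MulAut.conj x').toMonoidHom = B.D9 := by
    refine B.nine_of_commute_m (by rw [card_map_of_injective (MulAut.conj x').injective, B.card_D9]) ?_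
    rintro _ ⟨a, ha, rfl⟩
    have hfix : x' * B.m * x'⁻¹ = B.m := by rw [hxm.eq, mul_inv_cancel_right]
    show Commute (x' * a * x'⁻¹) B.m
    rw [← hfix]
    haveI := B.D9_isMulCommutative
    exact commute_conj (congrArg Subtype.val (mul_comm' (⟨a, ha⟩ : B.D9) ⟨B.m, hmD⟩) : a * B.m = B.m * a)
  have hkinv : ∀ a ∈ B.D9, (B.φ k)⁻¹ * a * B.φ k ∈ B.D9 := by
    intro a ha
    have hmap : B.D9.map (MulAut.conj (B.φ k)).toMonoidHom = B.D9 := by
      refine eq_of_le_of_card_ge ?_ (by rw [card_map_of_injective (MulAut.conj (B.φ k)).injective])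
      rintro _ ⟨b, hb, rfl⟩; exact hkD b hb
    rw [← hmap] at ha
    obtain ⟨b, hb, rfl⟩ := ha
    show (B.φ k)⁻¹ * (B.φ k * b * (B.φ k)⁻¹) * B.φ k ∈ B.D9
    rwa [show (B.φ k)⁻¹ * (B.φ k * b * (B.φ k)⁻¹) * B.φ k = b by group]
  have h2 : x' * ((B.φ k)⁻¹ * y * B.φ k) * x'⁻¹ ∈ B.D9 := by
    have h3 : MulAut.conj x' ((B.φ k)⁻¹ * y * B.φ k) ∈ B.D9.map (MulAut.conj x').toMonoidHom :=
      ⟨_, hkinv y hy, rfl⟩
    rwa [hK] at h3
  have h4 := hkD _ h2
  rwa [hx'def, show B.φ k * ((B.φ k)⁻¹ * x * B.φ k * ((B.φ k)⁻¹ * y * B.φ k) * ((B.φ k)⁻¹ * x * B.φ k)⁻¹) *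
    (B.φ k)⁻¹ = x * y * x⁻¹ by group] at h4

/-- A 3'-subgroup of the centraliser of the four group centralising a mixed element and normalised by `z` and `w`
is trivial. -/
theorem mixed_trivial {q : Pair} (hq : q ∈ mixed) (X : Subgroup G) (hXC : X ≤ B.CV)
    (hXq : ∀ x ∈ X, Commute x (B.φ q)) (hn : ¬ 3 ∣ Nat.card X)
    (hz : ∀ x ∈ X, B.z * x * B.z⁻¹ ∈ X) (hw : ∀ x ∈ X, B.w * x * B.w⁻¹ ∈ X) : X = ⊥ := by
  have hdis : ∀ a ∈ B.D9, a ∈ X → a = 1 := by
    intro a ha hX
    have h1 : orderOf a ∣ 9 := B.card_D9 ▸ Subgroup.orderOf_dvd_natCard _ ha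
    have h2 : Nat.Coprime 9 (Nat.card X) := by
      rw [show (9 : ℕ) = 3 ^ 2 from rfl]
      exact Nat.Coprime.pow_left 2 ((Nat.prime_three.coprime_iff_not_dvd).2 hn)
    exact orderOf_eq_one_iff.1 (Nat.eq_one_of_dvd_coprimes h2 h1 (Subgroup.orderOf_dvd_natCard _ hX))
  have fix : ∀ x ∈ X, ∀ d ∈ B.D9, d * x * d⁻¹ ∈ X → Commute x d := by
    intro x hx d hd hmem
    have e := hdis (d * x * d⁻¹ * x⁻¹) ?_ (X.mul_mem hmem (X.inv_mem hx))
    · exact (mul_inv_eq_iff_eq_mul.1 (mul_inv_eq_one.1 e)).symm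
    · rw [show d * x * d⁻¹ * x⁻¹ = d * (x * d⁻¹ * x⁻¹) by group]
      exact B.D9.mul_mem hd (B.conj_D9_of_mixed hq (hXq x hx) (B.D9.inv_mem hd))
  refine (eq_bot_iff_forall X).2 fun x hx => ?_
  obtain ⟨p, hp, rfl⟩ := B.exists_of_commute_zw (fix x hx _ B.z_mem_D9 (hz x hx)) (fix x hx _ B.w_mem_D9 (hw x hx))
  have key : ∀ p ∈ eighteen, p * pu = pu * p → p.1 * p.1 * p.1 = 1 ∧ p ∈ nine := by decide +kernel
  exact hdis _ ⟨p, (key p hp (B.of_φ_mem_CV (hXC hx)).1).2, rfl⟩ hx

/-- The four group inside the centraliser. -/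
def V4 : Subgroup B.CV where
  carrier := {x | ∃ b ∈ ({1, pu.2, pv.2, pu.2 * pv.2} : Finset S5), B.φ (1, b) = x}
  one_mem' := ⟨1, by decide +kernel, map_one _⟩
  mul_mem' := by
    rintro a b ⟨p, hp, hpe⟩ ⟨q, hq, hqe⟩
    have : ∀ a ∈ ({1, pu.2, pv.2, pu.2 * pv.2} : Finset S5), ∀ b ∈ ({1, pu.2, pv.2, pu.2 * pv.2} : Finset S5),
        a * b ∈ ({1, pu.2, pv.2, pu.2 * pv.2} : Finset S5) := by decide +kernel
    exact ⟨p * q, this p hp q hq, by
      rw [show ((1, p * q) : Pair) = (1, p) * (1, q) from Prod.ext (one_mul 1).symm rfl, map_mul, hpe, hqe]; rfl⟩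
  inv_mem' := by
    rintro a ⟨p, hp, hpe⟩
    have : ∀ a ∈ ({1, pu.2, pv.2, pu.2 * pv.2} : Finset S5),
        a⁻¹ ∈ ({1, pu.2, pv.2, pu.2 * pv.2} : Finset S5) := by decide +kernel
    exact ⟨p⁻¹, this p hp, by
      rw [show ((1, p⁻¹) : Pair) = (1, p)⁻¹ from Prod.ext inv_one.symm rfl, map_inv, hpe]; rfl⟩

theorem commute_V4 {v : B.CV} (hv : v ∈ B.V4) {x : G} (hx : x ∈ B.CV) : Commute x v := by
  obtain ⟨b, hb, hbe⟩ := hv
  obtain ⟨hu, hv'⟩ := B.mem_CV.1 hx
  rw [← hbe]
  simp only [Finset.mem_insert, Finset.mem_singleton] at hb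
  rcases hb with rfl | rfl | rfl | rfl
  · rw [show ((1, 1) : Pair) = 1 from rfl, map_one]; exact Commute.one_right x
  · exact hu
  · exact hv'
  · rw [show ((1, pu.2 * pv.2) : Pair) = pu * pv from rfl, map_mul]; exact hu.mul_right hv'

theorem V4_normal : B.V4.Normal := ⟨fun v hv a => by
  have h : Commute a v := Subtype.ext (B.commute_V4 hv a.2).eq
  rw [h.eq, mul_inv_cancel_right]; exact hv⟩

theorem card_V4 : Nat.card B.V4 = 4 := by
  classical
  have e : Subtype.val '' (B.V4 : Set B.CV) = ↑(({1, pu.2, pv.2, pu.2 * pv.2} : Finset S5).image fun b => B.φ (1, b)) := by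
    ext x
    rw [Finset.mem_coe, Finset.mem_image]
    constructor
    · rintro ⟨y, ⟨b, hb, hbe⟩, rfl⟩; exact ⟨b, hb, hbe⟩
    · rintro ⟨b, hb, rfl⟩
      refine ⟨⟨_, B.φ_mem_CV ?_ ?_⟩, ⟨b, hb, rfl⟩, rfl⟩
      · have : ∀ b ∈ ({1, pu.2, pv.2, pu.2 * pv.2} : Finset S5), ((1, b) : Pair) * pu = pu * (1, b) := by decide +kernel
        exact this b hb
      · have : ∀ b ∈ ({1, pu.2, pv.2, pu.2 * pv.2} : Finset S5), ((1, b) : Pair) * pv = pv * (1, b) := by decide +kernel
        exact this b hb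
  rw [← SetLike.coe_sort_coe, Nat.card_coe_set_eq, ← Set.ncard_image_of_injective _ Subtype.val_injective, e,
    Set.ncard_coe_finset, Finset.card_image_of_injective _ fun a b he => congrArg Prod.snd (B.inj he)]
  decide +kernel

/-- Conjugation by `w` on the centraliser. -/
def wAut : B.CV ≃* B.CV where
  toFun x := ⟨B.w * x * B.w⁻¹, (B.w_conj_CV x.2).1⟩
  invFun x := ⟨B.w⁻¹ * x * B.w, (B.w_conj_CV x.2).2⟩
  left_inv x := Subtype.ext (show B.w⁻¹ * (B.w * x * B.w⁻¹) * B.w = x by group)
  right_inv x := Subtype.ext (show B.w * (B.w⁻¹ * x * B.w) * B.w⁻¹ = x by group)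
  map_mul' x y := Subtype.ext (show B.w * (x * y : G) * B.w⁻¹ = B.w * x * B.w⁻¹ * (B.w * y * B.w⁻¹) by group)

theorem wAut_cube (x : B.CV) : B.wAut (B.wAut (B.wAut x)) = x := by
  apply Subtype.ext
  show B.w * (B.w * (B.w * (x : G) * B.w⁻¹) * B.w⁻¹) * B.w⁻¹ = x
  have h3 : B.w * B.w * B.w = 1 := by
    rw [← map_mul, ← map_mul, show pw * pw * pw = 1 by decide +kernel, map_one]
  rw [show B.w * (B.w * (B.w * (x : G) * B.w⁻¹) * B.w⁻¹) * B.w⁻¹ = (B.w * B.w * B.w) * x * (B.w * B.w * B.w)⁻¹ by group,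
    h3]
  group

/-- The structure theorem for the centraliser of the four group. -/
theorem CV_le_of (F : Subgroup G) (hFz : ∀ c ∈ B.CV, Commute c B.z → c ∈ F)
    (hFw : ∀ c ∈ B.CV, Commute c B.w → c ∈ F) : B.CV ≤ F := by
  classical
  haveI := Fact.mk Nat.prime_three
  haveI := B.V4_normal
  set C := B.CV with hCdef
  set zC : C := ⟨B.z, B.z_mem_CV⟩ with hzC
  set xC : C := ⟨B.xx, B.xx_mem_CV⟩ with hxC
  have hxz : xC * zC * xC⁻¹ = zC⁻¹ := Subtype.ext (by
    show B.xx * B.z * B.xx⁻¹ = B.z⁻¹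
    rw [← map_inv, ← map_mul, ← map_mul, basic_pairs.2.2.2.2.2.2.1, map_inv])
  have hxF : B.xx ∈ F := hFw _ B.xx_mem_CV (B.φ_commute basic_pairs.2.2.2.2.2.1)
  have hzF : B.z ∈ F := hFz _ B.z_mem_CV (Commute.refl _)
  set q := QuotientGroup.mk' B.V4 with hq
  set zb := q zC with hzb
  have hz3 : zb * zb * zb = 1 := by
    rw [hzb, ← map_mul, ← map_mul, show zC * zC * zC = 1 from Subtype.ext B.z_cube, map_one]
  have hz1 : zb ≠ 1 := by
    intro e
    obtain ⟨b, hb, hbe⟩ := (QuotientGroup.eq_one_iff _).1 e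
    exact absurd (congrArg Prod.fst (B.inj hbe)) (show (1 : S3) ≠ c3 by decide +kernel)
  have hord : orderOf zb = 3 := orderOf_eq_three hz3 hz1
  have hself : centralizer ((zpowers zb : Subgroup _) : Set (C ⧸ B.V4)) = zpowers zb := by
    refine le_antisymm (fun a ha => ?_) (fun a ha => mem_centralizer_iff.2 fun b hb => ?_)
    · obtain ⟨c, rfl⟩ := QuotientGroup.mk'_surjective B.V4 a
      have e : q c * zb = zb * q c := ((mem_centralizer_iff.1 ha) _ (mem_zpowers _)).symm
      have e' : q (c * zC * c⁻¹ * zC⁻¹) = 1 := by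
        rw [map_mul, map_mul, map_mul, map_inv, map_inv, ← hzb, e, mul_inv_cancel_right, mul_inv_cancel]
      set v := c * zC * c⁻¹ * zC⁻¹ with hv
      have hvV : v ∈ B.V4 := (QuotientGroup.eq_one_iff _).1 e'
      have hvz : Commute zC v := Subtype.ext (B.commute_V4 hvV B.z_mem_CV).eq
      have h3 : v ^ 3 = 1 := by
        have h1 : (v * zC) ^ 3 = 1 := by
          rw [hv, inv_mul_cancel_right, conj_pow, pow_succ, pow_two,
            show zC * zC * zC = 1 from Subtype.ext B.z_cube]; group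
        rwa [hvz.symm.mul_pow, show zC ^ 3 = 1 by rw [pow_succ, pow_two]; exact Subtype.ext B.z_cube, mul_one] at h1
      have h4 : v ^ 4 = 1 := by
        have := pow_card_eq_one' (G := B.V4) (x := ⟨v, hvV⟩)
        rw [B.card_V4] at this
        exact congrArg Subtype.val this
      have hv1 : v = 1 := by rw [pow_succ, h3, one_mul] at h4; exact h4
      have hcz : Commute (c : G) B.z := by
        have := congrArg Subtype.val (mul_inv_eq_one.1 hv1)
        exact mul_inv_eq_iff_eq_mul.1 this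
      obtain ⟨p, p1, p2, hpe⟩ := B.exists_of_CV_commute_z c.2 hcz
      have hsplit : ∀ i : ℕ, p.1 = c3 ^ i → q c ∈ zpowers zb := by
        intro i hi
        have hmem : c * (zC ^ i)⁻¹ ∈ B.V4 := by
          refine ⟨p.2, p2, ?_⟩
          show B.φ (1, p.2) = (c : G) * ((zC ^ i : C) : G)⁻¹
          rw [SubmonoidClass.coe_pow, show (zC : G) = B.z from rfl, ← hpe, ← map_pow, ← map_inv, ← map_mul]
          refine congrArg _ (Prod.ext ?_ ?_)
          · show (1 : S3) = p.1 * (c3 ^ i)⁻¹
            rw [hi, mul_inv_cancel]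
          · show p.2 = p.2 * ((1 : S5) ^ i)⁻¹
            rw [one_pow, inv_one, mul_one]
        have := (QuotientGroup.eq_one_iff _).2 hmem
        rw [show (QuotientGroup.mk (c * (zC ^ i)⁻¹) : C ⧸ B.V4) = q (c * (zC ^ i)⁻¹) from rfl, map_mul, map_inv,
          mul_inv_eq_one, map_pow] at this
        rw [this]
        exact pow_mem (mem_zpowers _) _
      rcases p1 with e1 | e1 | e1
      · exact hsplit 0 (by rw [e1, pow_zero])
      · exact hsplit 1 (by rw [e1, pow_one])
      · exact hsplit 2 (by rw [e1, pow_two])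
    · obtain ⟨i, rfl⟩ := mem_zpowers_iff.1 ha
      obtain ⟨j, rfl⟩ := mem_zpowers_iff.1 hb
      exact (Commute.zpow_zpow (Commute.refl _) j i).eq
  have inF : ∀ (M : Subgroup C), M.Normal → ¬ 3 ∣ Nat.card M → (∀ x ∈ M, B.wAut x ∈ M) → M.map C.subtype ≤ F := by
    intro M hMn hn hwM
    haveI := hMn
    set K := M.map C.subtype with hK
    have hKn : ¬ 3 ∣ Nat.card K := by rw [hK, card_map_of_injective C.subtype_injective]; exact hn
    have hzK : ∀ x ∈ K, B.z * x * B.z⁻¹ ∈ K := by
      rintro _ ⟨x, hx, rfl⟩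
      exact ⟨zC * x * zC⁻¹, hMn.conj_mem x hx zC, rfl⟩
    have hwK : ∀ x ∈ K, B.w * x * B.w⁻¹ ∈ K := by
      rintro _ ⟨x, hx, rfl⟩
      exact ⟨B.wAut x, hwM x hx, rfl⟩
    have hKC : K ≤ C := map_subtype_le _
    have hnor : ∀ k, (∀ x ∈ K, k * x * k⁻¹ ∈ K) → k ∈ normalizer (K : Set G) := fun k hk => by
      have hmap : K.map (MulAut.conj k).toMonoidHom = K := by
        refine eq_of_le_of_card_ge ?_ ?_
        · rintro _ ⟨x, hx, rfl⟩; exact hk x hx
        · rw [card_map_of_injective (f := (MulAut.conj k).toMonoidHom) (MulAut.conj k).injective]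
      refine mem_normalizer_iff.2 fun x => ⟨hk x, fun hx => ?_⟩
      rw [← hmap] at hx
      obtain ⟨x', hx', he⟩ := hx
      simp only [MulEquiv.coe_toMonoidHom, MulAut.conj_apply, mul_left_inj, mul_right_inj] at he
      exact he ▸ hx'
    have hAK : B.D9 ≤ normalizer (K : Set G) := by
      rintro _ ⟨p, hp, rfl⟩
      have hz := hnor _ hzK
      have hw := hnor _ hwK
      rcases nine_gens p hp with rfl | rfl | rfl | rfl | rfl | rfl | rfl | rfl | rfl <;>
        (try simp only [map_one, map_mul]) <;>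
        first
          | exact one_mem _
          | exact hz
          | exact hw
          | exact mul_mem hz hz
          | exact mul_mem hw hw
          | exact mul_mem hz hw
          | exact mul_mem (mul_mem hz hz) hw
          | exact mul_mem hz (mul_mem hw hw)
          | exact mul_mem (mul_mem hz hz) (mul_mem hw hw)
    haveI := B.D9_isMulCommutative
    have hcop : (Nat.card B.D9).Coprime (Nat.card K) := by
      rw [B.card_D9, show (9 : ℕ) = 3 ^ 2 from rfl]
      exact Nat.Coprime.pow_left 2 ((Nat.prime_three.coprime_iff_not_dvd).2 hKn)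
    rw [← Cfsg.Agent.S0058.result B.D9 K B.D9_not_isCyclic hAK hcop]
    refine iSup₂_le ?_
    rintro a ⟨⟨p, hp, rfl⟩, ha⟩ x ⟨hxK, hxc⟩
    have hcom : Commute x (B.φ p) := mem_centralizer_singleton_iff.1 hxc
    rcases nine_cases p hp with rfl | hc | hc | hc
    · exact absurd (map_one _) ha
    · refine hFz x (hKC hxK) ?_
      rcases zline_wline_link.1 p hc with rfl | rfl
      · exact hcom
      · rw [map_inv] at hcom; exact Commute.inv_right_iff.1 hcom
    · refine hFw x (hKC hxK) ?_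
      rcases zline_wline_link.2.1 p hc with rfl | rfl
      · exact hcom
      · rw [map_inv] at hcom; exact Commute.inv_right_iff.1 hcom
    · set X := K ⊓ centralizer ({B.φ p} : Set G) with hX
      have hinv : ∀ k, (∀ y ∈ K, k * y * k⁻¹ ∈ K) → Commute k (B.φ p) → ∀ y ∈ X, k * y * k⁻¹ ∈ X := by
        intro k hk hkq y hy
        refine ⟨hk y hy.1, mem_centralizer_singleton_iff.2 ?_⟩
        exact ((hkq.mul_left (mem_centralizer_singleton_iff.1 hy.2 :)).mul_left hkq.inv_left).eq
      have hbot := B.mixed_trivial hc X (inf_le_left.trans hKC)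
        (fun y hy => (mem_centralizer_singleton_iff.1 hy.2 :))
        (fun h3 => hKn (h3.trans (card_dvd_of_le inf_le_left)))
        (hinv B.z hzK (B.φ_commute (nine_mul pz (by decide +kernel) p hp).2))
        (hinv B.w hwK (B.φ_commute (nine_mul pw (by decide +kernel) p hp).2))
      have hx' : x ∈ X := ⟨hxK, hxc⟩
      rw [hbot] at hx'
      rw [mem_bot.1 hx']
      exact F.one_mem
  -- the preimage of a normal 3'-subgroup with small quotient
  have preim : ∀ (N : Subgroup (C ⧸ B.V4)) (hN : N.Normal), ¬ 3 ∣ Nat.card N →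
      (∀ (M : Subgroup (C ⧸ B.V4)), M.Normal → ¬ 3 ∣ Nat.card M → M ≤ N) →
      (N.comap q).map C.subtype ≤ F ∧ ∀ x, x ∈ N.comap q → B.wAut x ∈ N.comap q := by
    intro N hN hn hmax
    haveI := hN
    haveI := hN.comap q
    have hcard : Nat.card (N.comap q) = 4 * Nat.card N := by
      let r : N.comap q →* N := (q.comp (N.comap q).subtype).codRestrict N fun y => y.2
      have hr : Function.Surjective r := by
        rintro ⟨y, hy⟩
        obtain ⟨c, rfl⟩ := QuotientGroup.mk'_surjective B.V4 y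
        exact ⟨⟨c, hy⟩, rfl⟩
      have hker : Nat.card r.ker = 4 := by
        rw [← B.card_V4]
        refine Nat.card_congr
          { toFun := fun y => ⟨y.1.1, (QuotientGroup.eq_one_iff _).1 (congrArg Subtype.val (MonoidHom.mem_ker.1 y.2))⟩
            invFun := fun v => ⟨⟨v.1, by
              rw [mem_comap, show q v.1 = 1 from (QuotientGroup.eq_one_iff _).2 v.2]; exact one_mem _⟩,
              MonoidHom.mem_ker.2 (Subtype.ext ((QuotientGroup.eq_one_iff _).2 v.2))⟩
            left_inv := fun y => rfl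
            right_inv := fun v => rfl }
      rw [← r.ker.card_mul_index, hker, index_ker, MonoidHom.range_eq_top.2 hr, card_top]
    have hn4 : ¬ 3 ∣ Nat.card (N.comap q) := by
      rw [hcard]; exact fun h => hn (((Nat.Coprime.dvd_of_dvd_mul_left (by norm_num)) h))
    set M := (N.comap q).map B.wAut.toMonoidHom with hM
    haveI : M.Normal := Subgroup.Normal.map inferInstance _ B.wAut.surjective
    have hMc : ¬ 3 ∣ Nat.card M := by rw [hM, card_map_of_injective B.wAut.injective]; exact hn4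
    haveI : (M.map q).Normal := Subgroup.Normal.map inferInstance _ (QuotientGroup.mk'_surjective _)
    have h1 : M.map q ≤ N := hmax _ inferInstance (fun h => hMc (h.trans (M.card_map_dvd q)))
    have hinv : ∀ x, x ∈ N.comap q → B.wAut x ∈ N.comap q := fun x hx =>
      h1 ⟨B.wAut x, ⟨x, hx, rfl⟩, rfl⟩
    exact ⟨inF _ inferInstance hn4 hinv, hinv⟩
  have notin : ∀ {N : Subgroup (C ⧸ B.V4)}, ¬ 3 ∣ Nat.card N → zb ∉ N := fun hn hm =>
    hn (hord ▸ Subgroup.orderOf_dvd_natCard _ hm)
  intro c hc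
  rcases Cfsg.Agent.S3331.result (zpowers zb) (by rw [Nat.card_zpowers, hord]) hself with
    ⟨N, hN, -, hcop, hquo⟩ | ⟨N, hN, hNc, hexp, ⟨e5⟩⟩ | ⟨e7⟩
  · haveI := hN
    have hn : ¬ 3 ∣ Nat.card N := fun h => absurd (Nat.dvd_gcd h (dvd_refl 3))
      (by rw [hcop.gcd_eq_one]; norm_num)
    set p := QuotientGroup.mk' N
    have hmax : ∀ (M : Subgroup (C ⧸ B.V4)), M.Normal → ¬ 3 ∣ Nat.card M → M ≤ N := by
      intro M hM hMn a ha
      haveI : (M.map p).Normal := hM.map _ (QuotientGroup.mk'_surjective _)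
      have := small_quotient_normal hquo (M.map p) (fun h => hMn (h.trans (M.card_map_dvd p)))
      have h1 : p a ∈ (⊥ : Subgroup _) := this ▸ ⟨a, ha, rfl⟩
      exact (QuotientGroup.eq_one_iff _).1 (mem_bot.1 h1)
    obtain ⟨hNF, -⟩ := preim N hN hn hmax
    have hyord : orderOf (p zb) = 3 := by
      refine orderOf_eq_three (by rw [← map_mul, ← map_mul, hz3, map_one]) fun e => notin hn ?_
      exact (QuotientGroup.eq_one_iff _).1 e
    -- a representative modulo `N` of the shape `zⁱ` or `zⁱ x`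
    have hcover : ∃ i : ℤ, p (q ⟨c, hc⟩) = p zb ^ i ∨ p (q ⟨c, hc⟩) * p (q xC) = p zb ^ i := by
      have hle := (zpowers (p zb)).card_mul_index
      rw [Nat.card_zpowers, hyord] at hle
      rcases hquo with h3 | ⟨⟨e⟩⟩
      · rw [h3] at hle
        have ht : zpowers (p zb) = ⊤ := index_eq_one.1 (by omega)
        obtain ⟨i, hi⟩ := mem_zpowers_iff.1 (ht ▸ mem_top (p (q ⟨c, hc⟩)))
        exact ⟨i, Or.inl hi.symm⟩
      · rw [Nat.card_congr e.toEquiv, Nat.card_perm, Nat.card_fin, show Nat.factorial 3 = 6 from rfl] at hle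
        have hidx : (zpowers (p zb)).index = 2 := by omega
        by_cases hin : p (q ⟨c, hc⟩) ∈ zpowers (p zb)
        · obtain ⟨i, hi⟩ := mem_zpowers_iff.1 hin
          exact ⟨i, Or.inl hi.symm⟩
        · have hxn : p (q xC) ∉ zpowers (p zb) := by
            intro hm
            obtain ⟨i, hi⟩ := mem_zpowers_iff.1 hm
            have e1 : p (q (xC * zC * xC⁻¹)) = p (q zC⁻¹) := by rw [hxz]
            rw [map_mul, map_mul, map_mul, map_mul, map_inv, map_inv, map_inv, map_inv, ← hzb, ← hi,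
              (Commute.zpow_self (p zb) i).eq, mul_inv_cancel_right] at e1
            have h2 : p zb * p zb = 1 := mul_eq_one_iff_eq_inv.2 e1
            have h3 : p zb * p zb * p zb = 1 := by rw [← map_mul, ← map_mul, hz3, map_one]
            rw [h2, one_mul] at h3
            rw [h3, orderOf_one] at hyord
            norm_num at hyord
          obtain ⟨i, hi⟩ := mem_zpowers_iff.1 ((Subgroup.mul_mem_iff_of_index_two hidx).2
            (iff_of_false hin hxn))
          exact ⟨i, Or.inr hi.symm⟩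
    obtain ⟨i, hi⟩ := hcover
    have hzi : ((zC ^ i : C) : G) ∈ F := by rw [SubgroupClass.coe_zpow]; exact zpow_mem hzF i
    rcases hi with hi | hi
    · have h1 : p (q (⟨c, hc⟩ * (zC ^ i)⁻¹)) = 1 := by
        rw [map_mul, map_mul, map_inv, map_inv, map_zpow, map_zpow, ← hzb, hi, mul_inv_cancel]
      have h2 := hNF ⟨_, show ⟨c, hc⟩ * (zC ^ i)⁻¹ ∈ N.comap q from (QuotientGroup.eq_one_iff (q _)).1 h1, rfl⟩
      have := mul_mem h2 hzi
      simpa using this
    · have h1 : p (q (⟨c, hc⟩ * xC * (zC ^ i)⁻¹)) = 1 := by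
        rw [map_mul, map_mul, map_mul, map_mul, map_inv, map_inv, map_zpow, map_zpow, ← hzb, hi, mul_inv_cancel]
      have h2 := hNF ⟨_, show ⟨c, hc⟩ * xC * (zC ^ i)⁻¹ ∈ N.comap q from (QuotientGroup.eq_one_iff (q _)).1 h1, rfl⟩
      have := mul_mem (mul_mem h2 hzi) (inv_mem hxF)
      simpa [hxC] using this
  · haveI := hN
    haveI := Fact.mk Nat.prime_two
    have hp2 : IsPGroup 2 N := fun n => ⟨1, Subtype.ext (by rw [pow_one, SubmonoidClass.coe_pow]; exact hexp n n.2)⟩
    have hn : ¬ 3 ∣ Nat.card N := by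
      obtain ⟨k, hk⟩ := hp2.exists_card_eq
      rw [hk]; exact fun h => absurd (Nat.prime_three.dvd_of_dvd_pow h) (by norm_num)
    set p := QuotientGroup.mk' N
    set Φ : C →* alternatingGroup (Fin 5) := e5.toMonoidHom.comp (p.comp q) with hΦ
    have hker : ∀ a : C, Φ a = 1 ↔ a ∈ N.comap q := fun a => by
      rw [hΦ, MonoidHom.comp_apply, MonoidHom.comp_apply, MulEquiv.coe_toMonoidHom, e5.map_eq_one_iff]
      exact QuotientGroup.eq_one_iff _
    have hsurj : Function.Surjective Φ :=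
      e5.surjective.comp ((QuotientGroup.mk'_surjective N).comp (QuotientGroup.mk'_surjective B.V4))
    have hmax : ∀ (M : Subgroup (C ⧸ B.V4)), M.Normal → ¬ 3 ∣ Nat.card M → M ≤ N := by
      intro M hM hMn a ha
      haveI : (M.map (e5.toMonoidHom.comp p)).Normal :=
        hM.map _ (e5.surjective.comp (QuotientGroup.mk'_surjective _))
      have := A5_normal (M.map (e5.toMonoidHom.comp p))
        (fun h => hMn (h.trans (M.card_map_dvd (e5.toMonoidHom.comp p))))
      have h1 : e5 (p a) ∈ (⊥ : Subgroup _) := this ▸ ⟨a, ha, rfl⟩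
      exact (QuotientGroup.eq_one_iff _).1 (e5.map_eq_one_iff.1 (mem_bot.1 h1))
    obtain ⟨hNF, hinv⟩ := preim N hN hn hmax
    have hcong : ∀ a b : C, Φ a = Φ b → Φ (B.wAut a) = Φ (B.wAut b) := by
      intro a b he
      have h1 : a * b⁻¹ ∈ N.comap q := (hker _).1 (by rw [map_mul, map_inv, he, mul_inv_cancel])
      have h2 := (hker _).2 (hinv _ h1)
      rwa [map_mul, map_inv, map_mul, map_inv, mul_inv_eq_one] at h2
    have hback : ∀ a b : C, Φ (B.wAut a) = Φ (B.wAut b) → Φ a = Φ b := by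
      intro a b he
      have := hcong _ _ (hcong _ _ he)
      rwa [B.wAut_cube, B.wAut_cube] at this
    have hwz : B.wAut zC = zC := Subtype.ext (show B.w * B.z * B.w⁻¹ = B.z by
      rw [B.commute_zw.symm.eq, mul_inv_cancel_right])
    set y := Φ zC with hy
    have hy1 : y ≠ 1 := fun e => notin hn ((hker _).1 e)
    have hy3 : y * y * y = 1 := by rw [hy, ← map_mul, ← map_mul, show zC * zC * zC = 1 from Subtype.ext B.z_cube, map_one]
    have hyS : Perm.sign (y : S5) = 1 ∧ (y : S5) * y * y = 1 ∧ (y : S5) ≠ 1 :=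
      ⟨y.2, congrArg Subtype.val hy3, fun e => hy1 (Subtype.ext e)⟩
    obtain ⟨r0, r0s, r03, r05, r0ne⟩ := two_orbits_aux (y : S5) hyS
    obtain ⟨c0, hc0⟩ := hsurj ⟨r0, r0s⟩
    set T : C → S5 := fun a => ((Φ a : alternatingGroup (Fin 5)) : S5) with hT
    have Tmul : ∀ a b, T (a * b) = T a * T b := fun a b => by simp [hT]
    have Tinv : ∀ a, T a⁻¹ = (T a)⁻¹ := fun a => by simp [hT]
    have Tone : T 1 = 1 := by simp [hT]
    have Tz : T zC = (y : S5) := rfl
    have Tw : ∀ a b, T a = T b → T (B.wAut a) = T (B.wAut b) := fun a b e =>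
      congrArg Subtype.val (hcong a b (Subtype.ext e))
    have Tback : ∀ a b, T (B.wAut a) = T (B.wAut b) → T a = T b := fun a b e =>
      congrArg Subtype.val (hback a b (Subtype.ext e))
    have hR : ∀ a, RSet (y : S5) (T a) → RSet (y : S5) (T (B.wAut a)) := by
      rintro a ⟨h3, h5, hne⟩
      have m3 : T (B.wAut (a * a * a)) = T (B.wAut 1) := Tw _ _ (by rw [Tmul, Tmul, h3, Tone])
      have m5 : T (B.wAut (zC * a * (zC * a) * (zC * a) * (zC * a) * (zC * a))) = T (B.wAut 1) :=
        Tw _ _ (by simp only [Tmul, Tz]; rw [h5, Tone])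
      refine ⟨?_, ?_, fun e => hne ?_⟩
      · simpa [map_mul, map_one, Tmul, Tone] using m3
      · simpa [map_mul, map_one, Tmul, Tone, hwz, Tz] using m5
      · have : T (zC * a) = T 1 := Tback _ _ (by rw [map_mul, map_one, hwz, Tmul, Tz, e, Tone])
        rwa [Tmul, Tz, Tone] at this
    have hr0 : T c0 = r0 := congrArg Subtype.val hc0
    have hRc : RSet (y : S5) (T c0) := by rw [hr0]; exact ⟨r03, r05, r0ne⟩
    have horb : ∀ a b, Orb (y : S5) (T a) (T b) →
        T b = T a ∨ T b = T (zC * a * zC⁻¹) ∨ T b = T (zC * zC * a * (zC * zC)⁻¹) := by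
      intro a b hab
      simpa [Tmul, Tinv, Tz, Orb] using hab
    have hmove : T (B.wAut c0) = T c0 ∨ T (B.wAut c0) = T (zC * c0 * zC⁻¹) ∨
        T (B.wAut c0) = T (zC * zC * c0 * (zC * zC)⁻¹) := by
      rcases two_orbits _ hyS _ hRc _ (hR _ hRc) with o | o
      · exact horb _ _ o
      rcases o _ (hR _ (hR _ hRc)) with o' | o'
      · -- the square of the automorphism fixes the orbit
        have key : ∀ k : C, B.wAut k = k → T (B.wAut (B.wAut c0)) = T (k * c0 * k⁻¹) →
            T (B.wAut c0) = T (k⁻¹ * c0 * k) := by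
          intro k hk he
          have h1 := Tw _ _ he
          rw [B.wAut_cube, map_mul, map_mul, map_inv, hk, Tmul, Tmul, Tinv] at h1
          rw [Tmul, Tmul, Tinv, h1]
          group
        have z3 : zC⁻¹ = zC * zC := inv_eq_of_mul_eq_one_left (Subtype.ext B.z_cube)
        rcases horb _ _ o' with e | e | e
        · have := key 1 (map_one _) (by simpa using e)
          exact Or.inl (by simpa using this)
        · have := key zC hwz e
          refine Or.inr (Or.inr ?_)
          rw [this]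
          rw [z3, show (zC * zC)⁻¹ = zC by rw [← z3, inv_inv]]
        · have := key (zC * zC) (by rw [map_mul, hwz]) e
          refine Or.inr (Or.inl ?_)
          rw [this, ← z3, inv_inv]
      · rcases horb _ _ o' with e | e | e
        · exact Or.inl (Tback _ _ e)
        · refine Or.inr (Or.inl (Tback _ _ ?_))
          rw [e, map_mul, map_mul, map_inv, hwz]
        · refine Or.inr (Or.inr (Tback _ _ ?_))
          rw [e, map_mul, map_mul, map_inv, map_mul, hwz]
    -- an element of `⟨z, w⟩` fixing the image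
    obtain ⟨kC, kq, hkq, hkG, hk0, hkT⟩ : ∃ (k : C) (kp : Pair), kp ∈ nine ∧ (k : G) = B.φ kp ∧
        (kp = 1 ∨ kp = pz ∨ kp = pz * pz) ∧ T (B.wAut c0) = T (k * c0 * k⁻¹) := by
      rcases hmove with e | e | e
      · exact ⟨1, 1, by decide +kernel, (map_one _).symm, Or.inl rfl, by simpa using e⟩
      · exact ⟨zC, pz, by decide +kernel, rfl, Or.inr (Or.inl rfl), e⟩
      · exact ⟨zC * zC, pz * pz, by decide +kernel, (map_mul _ _ _).symm, Or.inr (Or.inr rfl), e⟩
    set d : G := B.φ (kq⁻¹ * pw) with hd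
    have hdq : kq⁻¹ * pw ∈ nine ∧ (kq⁻¹ * pw = pw ∨ kq⁻¹ * pw ∈ mixed) := by
      rcases hk0 with rfl | rfl | rfl <;> decide +kernel
    have hdw : ∀ a : C, (d * (a : G) * d⁻¹) = ((kC⁻¹ * B.wAut a * kC : C) : G) := by
      intro a
      show _ = (kC : G)⁻¹ * (B.w * a * B.w⁻¹) * kC
      rw [hd, map_mul, map_inv, ← hkG]; group
    set f0 : C := zC * c0 with hf0
    have hkz : kC⁻¹ * zC * kC = zC := Subtype.ext (by
      show (kC : G)⁻¹ * B.z * kC = B.z
      rw [hkG]
      have hc1 : Commute (B.φ kq) B.z := B.φ_commute (nine_commute_pz _ hkq)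
      rw [mul_assoc, ← hc1.eq, inv_mul_cancel_left])
    have hf0T : ∀ n : C, Φ n = 1 → T (kC⁻¹ * B.wAut (f0 * n) * kC) = T f0 := by
      intro n hn1
      have hwn : Φ (B.wAut n) = 1 := (hker _).2 (hinv _ ((hker _).1 hn1))
      have hwn' : T (B.wAut n) = 1 := by simp [hT, hwn]
      rw [map_mul, Tmul, Tmul, Tmul, hwn', mul_one, ← Tmul, ← Tmul, hf0, map_mul, hwz,
        show kC⁻¹ * (zC * B.wAut c0) * kC = (kC⁻¹ * zC * kC) * (kC⁻¹ * B.wAut c0 * kC) by group, hkz, Tmul,
        Tmul zC c0, Tmul, Tmul, hkT, Tmul, Tmul, Tinv]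
      group
    have hkTN : ∀ a : C, T a = T f0 ↔ f0⁻¹ * a ∈ N.comap q := fun a => by
      rw [← hker, map_mul, map_inv, inv_mul_eq_one]
      exact ⟨fun e => (Subtype.ext e).symm, fun e => congrArg Subtype.val e.symm⟩
    let τ : N.comap q → N.comap q := fun n => ⟨f0⁻¹ * (kC⁻¹ * B.wAut (f0 * n) * kC),
      (hkTN _).1 (hf0T n ((hker _).2 n.2))⟩
    have hτ : ∀ n : N.comap q, ((f0 * (τ n : C) : C) : G) = d * ((f0 * (n : C) : C) : G) * d⁻¹ := fun n => by
      rw [hdw]; congr 1; simp [τ, mul_inv_cancel_left]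
    have hd3 : d * d * d = 1 := by
      rw [hd, ← map_mul, ← map_mul]
      have : ∀ p ∈ nine, p * p * p = 1 := by decide +kernel
      rw [this _ hdq.1, map_one]
    have hτ3 : ∀ n, τ (τ (τ n)) = n := by
      intro n
      apply Subtype.ext
      apply mul_left_cancel (a := f0)
      apply Subtype.ext
      rw [hτ, hτ, hτ]
      rw [show ∀ a : G, d * (d * (d * a * d⁻¹) * d⁻¹) * d⁻¹ = (d * d * d) * a * (d * d * d)⁻¹ from fun a => by group,
        hd3]
      group
    let σp : Perm (N.comap q) := ⟨τ, τ ∘ τ, fun n => hτ3 n, fun n => hτ3 n⟩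
    have hσ3 : σp ^ 3 ^ 1 = 1 := Equiv.ext fun n => by
      rw [pow_one, pow_succ, pow_two, Perm.mul_apply, Perm.mul_apply]; exact hτ3 n
    have hn4 : ¬ 3 ∣ Nat.card (N.comap q) := by
      have h2 : IsPGroup 2 (N.comap q) := hp2.comap_of_ker_isPGroup q (by
        rw [QuotientGroup.ker_mk']; exact IsPGroup.of_card (n := 2) B.card_V4)
      obtain ⟨k, hk⟩ := h2.exists_card_eq
      rw [hk]; exact fun h => absurd (Nat.prime_three.dvd_of_dvd_pow h) (by norm_num)
    haveI : Fintype (N.comap q) := Fintype.ofFinite _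
    obtain ⟨n, hnfix⟩ := Equiv.Perm.exists_fixed_point_of_prime (p := 3) (n := 1)
      (by rw [← Nat.card_eq_fintype_card]; exact hn4) hσ3
    set f : C := f0 * (n : C) with hf
    have hfd : Commute (f : G) d := by
      have h1 := hτ n
      rw [show τ n = n from hnfix] at h1
      exact (mul_inv_eq_iff_eq_mul.1 h1.symm).symm
    have hfT : T f = (y : S5) * r0 := by
      rw [hf, Tmul, show T (n : C) = 1 by simp [hT, (hker _).2 n.2], mul_one, hf0, Tmul, Tz, hr0]
    have hTord : orderOf (Φ f) = 5 := by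
      haveI : Fact (Nat.Prime 5) := ⟨by norm_num⟩
      refine orderOf_eq_prime (Subtype.ext ?_) fun e => ?_
      · rw [SubmonoidClass.coe_pow, show ((Φ f : alternatingGroup (Fin 5)) : S5) = T f from rfl, hfT]
        simpa [pow_succ, mul_assoc] using r05
      · exact r0ne (by rw [← hfT]; simp [hT, e])
    have hdw' : d = B.w := by
      rcases hdq.2 with e | e
      · rw [hd, e]
      · exfalso
        have h5 : 5 ∣ orderOf (f : G) := by
          rw [Subgroup.orderOf_coe, ← hTord]; exact orderOf_map_dvd Φ f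
        have := h5.trans (Subgroup.orderOf_dvd_natCard _
          (show (f : G) ∈ centralizer ({d} : Set G) from mem_centralizer_singleton_iff.2 hfd.eq))
        rw [hd, B.card_mixed e] at this
        norm_num at this
    have hfF : (f : G) ∈ F := hFw _ f.2 (hdw' ▸ hfd)
    set A := (F.subgroupOf C).map Φ with hA
    have hAy : y ∈ A := ⟨zC, hzF, rfl⟩
    have hAx : Φ xC ∈ A := ⟨xC, hxF, rfl⟩
    have hAf : Φ f ∈ A := ⟨f, hfF, rfl⟩
    have ho3 : 3 ∣ Nat.card A := by
      rw [← orderOf_eq_three hy3 hy1]; exact Subgroup.orderOf_dvd_natCard _ hAy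
    have ho5 : 5 ∣ Nat.card A := (dvd_of_eq hTord.symm).trans (Subgroup.orderOf_dvd_natCard _ hAf)
    have ho2 : 2 ∣ Nat.card A := by
      have hx2 : orderOf (Φ xC) = 2 := by
        refine orderOf_eq_prime (by
          rw [pow_two, ← map_mul, show xC * xC = 1 from Subtype.ext
            ((map_mul B.φ pxx pxx).symm.trans (by rw [basic_pairs.2.2.2.2.1, map_one]; rfl)), map_one]) fun e => hy1 ?_
        have h1 := congrArg Φ hxz
        rw [map_mul, map_mul, map_inv, map_inv, ← hy, e, one_mul, inv_one, mul_one] at h1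
        calc y = y * (y * y⁻¹) := by group
          _ = y * (y * y) := by rw [← h1]
          _ = 1 := by rw [← mul_assoc, hy3]
      exact hx2 ▸ Subgroup.orderOf_dvd_natCard _ hAx
    have h30 : 30 ∣ Nat.card A :=
      Nat.Coprime.mul_dvd_of_dvd_of_dvd (by norm_num : Nat.Coprime 6 5)
        (Nat.Coprime.mul_dvd_of_dvd_of_dvd (by norm_num : Nat.Coprime 2 3) ho2 ho3) ho5
    have h60 : Nat.card (alternatingGroup (Fin 5)) = 60 := by
      have := two_mul_nat_card_alternatingGroup (α := Fin 5)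
      rw [Nat.card_perm, Nat.card_fin, show Nat.factorial 5 = 120 by decide] at this
      omega
    have hAtop : A = ⊤ := by
      have h1 := A.card_mul_index
      rw [h60] at h1
      obtain ⟨j, hj⟩ := h30
      rw [hj, mul_assoc] at h1
      have h2 : j * A.index = 2 := by omega
      have h3 : A.index ≤ 2 := Nat.le_of_dvd two_pos ⟨j, by rw [← h2]; ring⟩
      rcases Nat.lt_or_ge A.index 2 with h4 | h4
      · refine index_eq_one.1 ?_
        have : A.index ≠ 0 := index_ne_zero_of_finite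
        omega
      · haveI := normal_of_index_eq_two (H := A) (by omega)
        haveI : IsSimpleGroup (alternatingGroup (Fin 5)) := alternatingGroup.isSimpleGroup (by rw [Nat.card_fin])
        rcases Subgroup.Normal.eq_bot_or_eq_top (H := A) inferInstance with e | e
        · exact absurd (mem_bot.1 (e ▸ hAy)) hy1
        · exact e
    obtain ⟨f', hf'F, hf'⟩ : Φ ⟨c, hc⟩ ∈ A := hAtop ▸ mem_top _
    have hmem := hNF ⟨_, (hker (⟨c, hc⟩ * f'⁻¹)).1 (by rw [map_mul, map_inv, hf', mul_inv_cancel]), rfl⟩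
    have := mul_mem hmem (show (f' : G) ∈ F from hf'F)
    simpa using this
  · exfalso
    obtain ⟨e7⟩ := e7
    haveI : Fact (Nat.Prime 7) := ⟨by norm_num⟩
    have h168 : Nat.card (Matrix.ProjectiveSpecialLinearGroup (Fin 2) (ZMod 7)) = 168 := by
      have := CfsgLib.Classical.Two.card_PSL_two (F := ZMod 7)
      rw [ZMod.card, show Nat.gcd 2 (7 - 1) = 2 from rfl] at this
      omega
    have hCcard : Nat.card C = 672 := by
      have h2 := B.V4.card_mul_index
      rw [B.card_V4, index_eq_card, Nat.card_congr e7.toEquiv, h168] at h2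
      change _ = Nat.card C at h2
      omega
    set K := normalizer (C : Set G) with hKdef
    have hCK : C ≤ K := le_normalizer
    have hwK : B.w ∈ K := mem_normalizer_iff.2 fun x => ⟨fun hx => (B.w_conj_CV hx).1, fun hx => by
      have := (B.w_conj_CV hx).2
      rwa [show B.w⁻¹ * (B.w * x * B.w⁻¹) * B.w = x by group] at this⟩
    set CN := C.subgroupOf K with hCN
    haveI : CN.Normal := normal_in_normalizer
    obtain ⟨P⟩ := (Sylow.nonempty : Nonempty (Sylow 7 CN))
    have htop := Sylow.normalizer_sup_eq_top P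
    set M := normalizer ((P : Subgroup CN).map CN.subtype : Set K) with hM
    have hCNcard : Nat.card CN = 672 := by rw [Nat.card_congr (subgroupOfEquivOfLe hCK).toEquiv, hCcard]
    have h3in : 3 ∣ Nat.card (normalizer ((P : Subgroup CN) : Set CN)) := by
      have hn7 := card_sylow_modEq_one 7 CN
      have hidx := (normalizer ((P : Subgroup CN) : Set CN)).card_mul_index
      have e : (normalizer ((P : Subgroup CN) : Set CN)).index = Nat.card (Sylow 7 CN) := P.card_eq_index_normalizer.symm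
      rw [e, hCNcard] at hidx
      have hPc : Nat.card (P : Subgroup CN) = 7 := by
        rw [P.card_eq_multiplicity, hCNcard]
        have : (672 : ℕ).factorization 7 = 1 := by
          rw [show (672 : ℕ) = 96 * 7 from rfl, Nat.factorization_mul (by norm_num) (by norm_num),
            Finsupp.add_apply, Nat.Prime.factorization_self (by norm_num),
            Nat.factorization_eq_zero_of_not_dvd (by norm_num : ¬ 7 ∣ 96)]
        rw [this, pow_one]
      have h96 : Nat.card (Sylow 7 CN) ∣ 96 := by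
        have := P.card_dvd_index
        have h' := (P : Subgroup CN).card_mul_index
        rw [hPc, hCNcard] at h'
        rwa [show (P : Subgroup CN).index = 96 by omega] at this
      have hle := Nat.le_of_dvd (by norm_num) h96
      have hmod : Nat.card (Sylow 7 CN) % 7 = 1 := hn7
      have : Nat.card (Sylow 7 CN) = 1 ∨ Nat.card (Sylow 7 CN) = 8 := by
        interval_cases hN : Nat.card (Sylow 7 CN) <;> omega
      rcases this with e | e <;> rw [e] at hidx <;> omega
    have hsub : ((normalizer ((P : Subgroup CN) : Set CN)).map CN.subtype) ≤ M ⊓ CN := by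
      refine le_inf (le_normalizer_map CN.subtype) (map_subtype_le _)
    have h3M : 3 ∣ Nat.card (M ⊓ CN : Subgroup K) := by
      refine h3in.trans ?_
      rw [← card_map_of_injective CN.subtype_injective (K := normalizer ((P : Subgroup CN) : Set CN))]
      exact card_dvd_of_le hsub
    set r : M →* K ⧸ CN := (QuotientGroup.mk' CN).comp M.subtype with hr
    have hrs : Function.Surjective r := by
      intro a
      obtain ⟨x, rfl⟩ := QuotientGroup.mk'_surjective CN a
      obtain ⟨a, ha, b, hb, rfl⟩ := mem_sup_of_normal_right.1 (htop ▸ mem_top x)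
      refine ⟨⟨a, ha⟩, ?_⟩
      rw [hr, MonoidHom.comp_apply, map_mul, show QuotientGroup.mk' CN b = 1 from (QuotientGroup.eq_one_iff _).2 hb,
        mul_one]
      rfl
    have h9 : 9 ∣ Nat.card M := by
      rw [← r.ker.card_mul_index, index_ker, MonoidHom.range_eq_top.2 hrs, card_top]
      refine Nat.mul_dvd_mul (a := 3) (c := 3) ?_ ?_
      · refine h3M.trans (dvd_of_eq (Nat.card_congr ?_))
        exact
          { toFun := fun y => ⟨⟨y.1, y.2.1⟩, MonoidHom.mem_ker.2 ((QuotientGroup.eq_one_iff _).2 y.2.2)⟩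
            invFun := fun y => ⟨y.1.1, y.1.2, (QuotientGroup.eq_one_iff _).1 (MonoidHom.mem_ker.1 y.2)⟩
            left_inv := fun y => rfl
            right_inv := fun y => rfl }
      · set wb := QuotientGroup.mk' CN ⟨B.w, hwK⟩
        have hw3 : orderOf wb = 3 := by
          refine orderOf_eq_three ?_ fun e => ?_
          · rw [← map_mul, ← map_mul, show (⟨B.w, hwK⟩ : K) * ⟨B.w, hwK⟩ * ⟨B.w, hwK⟩ = 1 from Subtype.ext
              (show B.w * B.w * B.w = 1 by
                rw [← map_mul, ← map_mul, show pw * pw * pw = 1 by decide +kernel, map_one]), map_one]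
          · have := B.of_φ_mem_CV (show B.φ pw ∈ B.CV from mem_subgroupOf.1 ((QuotientGroup.eq_one_iff (⟨B.w, hwK⟩ : K)).1 e))
            exact absurd this.1 (by decide +kernel)
        exact hw3 ▸ orderOf_dvd_natCard wb
    obtain ⟨R, hR⟩ := Sylow.exists_subgroup_card_pow_prime (G := M) 3 (n := 2) h9
    set R' := (R.map M.subtype).map K.subtype with hR'
    obtain ⟨k, hk⟩ := B.exists_conj_nine (K := R')
      (by rw [hR', card_map_of_injective K.subtype_injective, card_map_of_injective M.subtype_injective, hR]; rfl)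
    set P' := ((P : Subgroup CN).map CN.subtype).map K.subtype with hP'
    have hP7 : Nat.card P' = 7 := by
      rw [hP', card_map_of_injective K.subtype_injective, card_map_of_injective CN.subtype_injective,
        P.card_eq_multiplicity, hCNcard]
      rw [show (672 : ℕ) = 96 * 7 from rfl, Nat.factorization_mul (by norm_num) (by norm_num),
        Finsupp.add_apply, Nat.Prime.factorization_self (by norm_num),
        Nat.factorization_eq_zero_of_not_dvd (by norm_num : ¬ 7 ∣ 96)]
      norm_num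
    have hnorm : ∀ x ∈ R', ∀ a ∈ P', x * a * x⁻¹ ∈ P' := by
      rintro _ ⟨_, ⟨x, hx, rfl⟩, rfl⟩ _ ⟨a, ha, rfl⟩
      exact ⟨(x : K) * a * (x : K)⁻¹, (mem_normalizer_iff.1 x.2 a).1 ha, rfl⟩
    obtain ⟨a, ha⟩ := exists_prime_orderOf_dvd_card' (G := P') 7 (hP7.symm ▸ dvd_refl 7)
    set b : G := k⁻¹ * a * k with hb
    have hbord : orderOf b = 7 := by
      rw [hb, show k⁻¹ * (a : G) * k = k⁻¹ * (a : G) * k⁻¹⁻¹ by group, orderOf_conj', Subgroup.orderOf_coe, ha]
    have hzp : zpowers (a : G) = P' := by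
      refine eq_of_le_of_card_ge (zpowers_le.2 a.2) ?_
      rw [Nat.card_zpowers, Subgroup.orderOf_coe, ha, hP7]
    have himg : ∀ p ∈ nine, ∃ i : Fin 7, B.φ p * b * (B.φ p)⁻¹ = b ^ i.val ∧ i.val ≠ 0 := by
      intro p hp
      have hmem : k * B.φ p * k⁻¹ ∈ R' := by
        rw [← hk]; exact smul_mem_pointwise_smul _ (MulAut.conj k) _ ⟨p, hp, rfl⟩
      have h1 := hnorm _ hmem _ a.2
      obtain ⟨i, hi⟩ := mem_zpowers_iff.1 (show k * B.φ p * k⁻¹ * a * (k * B.φ p * k⁻¹)⁻¹ ∈ zpowers (a : G) by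
        rw [hzp]; exact h1)
      have hlt : (i % 7).toNat < 7 := by omega
      have he : B.φ p * b * (B.φ p)⁻¹ = b ^ (i % 7).toNat := by
        rw [← zpow_natCast, Int.toNat_of_nonneg (Int.emod_nonneg _ (by norm_num))]
        rw [show (7 : ℤ) = ((orderOf b : ℕ) : ℤ) by rw [hbord]; rfl, zpow_mod_orderOf]
        calc B.φ p * b * (B.φ p)⁻¹ = k⁻¹ * ((k * B.φ p * k⁻¹) * a * (k * B.φ p * k⁻¹)⁻¹) * k := by rw [hb]; group
          _ = k⁻¹ * (a : G) ^ i * k⁻¹⁻¹ := by rw [hi, inv_inv]
          _ = (k⁻¹ * (a : G) * k⁻¹⁻¹) ^ i := conj_zpow.symm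
          _ = b ^ i := by rw [inv_inv, ← hb]
      refine ⟨⟨_, hlt⟩, he, fun e => ?_⟩
      simp only at e
      rw [e, pow_zero] at he
      rw [conj_eq_one_iff.1 he, orderOf_one] at hbord
      norm_num at hbord
    choose! ι hι hι0 using himg
    obtain ⟨p, hp, p', hp', hne, heq⟩ := Finset.exists_ne_map_eq_of_card_lt_of_maps_to
      (s := nine) (t := (Finset.univ : Finset (Fin 7)).erase 0) (f := ι)
      (by rw [nine_card, Finset.card_erase_of_mem (Finset.mem_univ _), Finset.card_univ, Fintype.card_fin]; norm_num)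
      (fun p hp => Finset.mem_erase.2 ⟨fun e => hι0 p hp (by rw [e]; rfl), Finset.mem_univ _⟩)
    set d := p⁻¹ * p' with hd
    have hdn : d ∈ nine := by
      have : ∀ p ∈ nine, p⁻¹ ∈ nine := by decide +kernel
      exact (nine_mul _ (this p hp) _ hp').1
    have hd1 : d ≠ 1 := fun e => hne (inv_mul_eq_one.1 e)
    have hcb : Commute b (B.φ d) := by
      have h1 : B.φ p * b * (B.φ p)⁻¹ = B.φ p' * b * (B.φ p')⁻¹ := by rw [hι p hp, hι p' hp', heq]
      show _ = _
      calc b * B.φ d = (B.φ p)⁻¹ * (B.φ p * b * (B.φ p)⁻¹) * B.φ p' := by rw [hd, map_mul, map_inv]; group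
        _ = (B.φ p)⁻¹ * (B.φ p' * b * (B.φ p')⁻¹) * B.φ p' := by rw [h1]
        _ = B.φ d * b := by rw [hd, map_mul, map_inv]; group
    have h7 := Subgroup.orderOf_dvd_natCard _
      (show b ∈ centralizer ({B.φ d} : Set G) from mem_centralizer_singleton_iff.2 hcb.eq)
    rw [hbord] at h7
    rcases B.card_centralizer_nine hdn hd1 with e | e <;> rw [e] at h7 <;> norm_num at h7

end Base

end CfsgLib.Recog.EightThreeSym
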