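import Cfsg.Agent.Lib.Recog.EightThreeSym.Model

/-!
Owner: helper10. Pairs of permutations of five letters with equal signs.
-/

set_option autoImplicit false
set_option linter.all false
set_option synthInstance.maxSize 1000
set_option maxRecDepth 8000

namespace CfsgLib.Recog.EightThreeSym

open Equiv CfsgLib.Recog.EightThree

abbrev P5 := S5 × S5

/-- Equal signs. -/
def Ev5 (p : P5) : Prop := Perm.sign p.1 = Perm.sign p.2

instance : DecidablePred Ev5 := fun p => inferInstanceAs (Decidable (_ = _))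

/-- The transposition `(0 1)` or the identity, of the given parity. -/
def cc : S5 →* S5 where
  toFun a := if Perm.sign a = 1 then 1 else swap 0 1
  map_one' := by simp
  map_mul' a b := by
    rcases Int.units_eq_one_or (Perm.sign a) with e | e <;> rcases Int.units_eq_one_or (Perm.sign b) with e' | e' <;>
      simp [map_mul, e, e']

theorem cc_apply (a : S5) : cc a = if Perm.sign a = 1 then 1 else swap 0 1 := rfl

theorem cc_even {a : S5} (h : Perm.sign a = 1) : cc a = 1 := by rw [cc_apply, if_pos h]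
theorem cc_odd {a : S5} (h : Perm.sign a = -1) : cc a = swap 0 1 := by rw [cc_apply, h, if_neg (by decide)]

theorem sign_cc (a : S5) : Perm.sign (cc a) = Perm.sign a := by
  rcases Int.units_eq_one_or (Perm.sign a) with e | e
  · rw [cc_even e, map_one, e]
  · rw [cc_odd e, e, Perm.sign_swap (by decide)]

theorem cc_sq (a : S5) : cc a * cc a = 1 := by
  rcases Int.units_eq_one_or (Perm.sign a) with e | e
  · rw [cc_even e, one_mul]
  · rw [cc_odd e, swap_mul_self]

theorem cc_cc (a : S5) : cc (cc a) = cc a := by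
  rw [cc_apply (cc a), sign_cc, ← cc_apply]

theorem cc_comm (a b : S5) : cc a * cc b = cc b * cc a := by
  rcases Int.units_eq_one_or (Perm.sign a) with e | e <;> rcases Int.units_eq_one_or (Perm.sign b) with e' | e' <;>
    simp [cc_even, cc_odd, e, e']

theorem even_commute_W : ∀ b : S5, Perm.sign b = 1 → b * W = W * b → b = 1 ∨ b = W ∨ b = W * W := by decide +kernel

theorem S3_forms : ∀ a : S3, a = 1 ∨ a = c3 ∨ a = c3 * c3 ∨ a = s3 ∨ a = s3 * c3 ∨ a = s3 * (c3 * c3) := by
  decide +kernel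

/-- The double transposition `(0 1)(2 3)`. -/
abbrev U5 : S5 := pf.2
/-- The double transposition `(0 2)(1 3)`. -/
abbrev V5 : S5 := pk.2

theorem involution_five : ∀ a : S5, a * a = 1 → a ≠ 1 →
    (Perm.sign a = 1 → ∃ k, Perm.sign k = 1 ∧ k * U5 * k⁻¹ = a) ∧
    (Perm.sign a = -1 → ∃ k, Perm.sign k = 1 ∧ k * swap 0 1 * k⁻¹ = a) := by decide +kernel

theorem odd_in_eight : ∀ a : S5, a * a = 1 → Perm.sign a = -1 → a * U5 = U5 * a →
    ∃ k, Perm.sign k = 1 ∧ k * U5 = U5 * k ∧ k * swap 0 1 * k⁻¹ = a := by decide +kernel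

theorem normalizer_eight : ∀ a : S5, a * U5 * a⁻¹ * U5 = U5 * (a * U5 * a⁻¹) →
    a * V5 * a⁻¹ * U5 = U5 * (a * V5 * a⁻¹) → a * swap 0 1 * a⁻¹ * U5 = U5 * (a * swap 0 1 * a⁻¹) →
    a * U5 = U5 * a := by decide +kernel

/-- The centraliser of `U5`. -/
def eight : Finset S5 := Finset.univ.filter fun a => a * U5 = U5 * a

theorem eight_pairs : ((eight ×ˢ eight).filter Ev5).card = 32 := by decide +kernel

theorem basic_five : Perm.sign U5 = 1 ∧ U5 * U5 = 1 ∧ U5 ≠ 1 ∧ Perm.sign V5 = 1 ∧ V5 * V5 = 1 ∧ V5 ≠ 1 ∧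
    V5 * U5 = U5 * V5 ∧ swap 0 1 * U5 = U5 * swap 0 1 ∧ Perm.sign (swap (0 : Fin 5) 1) = -1 ∧
    swap (0 : Fin 5) 1 ≠ 1 ∧ Perm.sign hmap = 1 ∧ Perm.sign pu.2 = 1 ∧ Perm.sign pv.2 = 1 ∧
    swap 0 1 * W = W * swap 0 1 := by decide +kernel

end CfsgLib.Recog.EightThreeSym
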