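import Cfsg.Agent.Lib.Recog.EightThreeSym.SmallB
import Cfsg.Agent.Lib.Recog.EightThreeSym.ModelPair

/-!
Owner: helper10. The subgroup `(A₅ × A₅).2²` and its classes of involutions.
-/

set_option autoImplicit false
set_option linter.all false
set_option synthInstance.maxSize 1000
set_option maxHeartbeats 800000

namespace CfsgLib.Recog.EightThreeSym

open Subgroup Equiv CfsgLib.Recog.EightThree
open scoped Pointwise

universe u

theorem signsProd (p : P5) :
    ((Equiv.Perm.sign).comp (MonoidHom.fst S5 S5) * (Equiv.Perm.sign).comp (MonoidHom.snd S5 S5)) p = 1 ↔ Ev5 p := by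
  show Perm.sign p.1 * Perm.sign p.2 = 1 ↔ Perm.sign p.1 = Perm.sign p.2
  rcases Int.units_eq_one_or (Perm.sign p.1) with e | e <;>
    rcases Int.units_eq_one_or (Perm.sign p.2) with e' | e' <;> simp [e, e']

/-- The pairs with equal signs. -/
abbrev K2 : Subgroup P5 :=
  ((Equiv.Perm.sign).comp (MonoidHom.fst S5 S5) * (Equiv.Perm.sign).comp (MonoidHom.snd S5 S5)).ker

theorem mem_K2 {p : P5} : p ∈ K2 ↔ Ev5 p := MonoidHom.mem_ker.trans (signsProd p)

theorem ev5_mul {p q : P5} (hp : Ev5 p) (hq : Ev5 q) : Ev5 (p * q) := mem_K2.1 (mul_mem (mem_K2.2 hp) (mem_K2.2 hq))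
theorem ev5_inv {p : P5} (hp : Ev5 p) : Ev5 p⁻¹ := mem_K2.1 (inv_mem (mem_K2.2 hp))
theorem ev5_swap {p : P5} (hp : Ev5 p) : Ev5 (p.2, p.1) := hp.symm
theorem ev5_even {a b : S5} (ha : Perm.sign a = 1) (hb : Perm.sign b = 1) : Ev5 (a, b) := ha.trans hb.symm
theorem ev5_one : Ev5 (1 : P5) := rfl
theorem ev5_cc (a : S5) : Ev5 (a, cc a) := (sign_cc a).symm

theorem card_K2 : Nat.card K2 = 7200 := by
  have h := K2.card_mul_index
  have hs : Function.Surjective
      ⇑((Equiv.Perm.sign).comp (MonoidHom.fst S5 S5) * (Equiv.Perm.sign).comp (MonoidHom.snd S5 S5)) := by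
    intro e
    rcases Int.units_eq_one_or e with rfl | rfl
    · exact ⟨1, map_one _⟩
    · refine ⟨(swap 0 1, 1), ?_⟩
      show Perm.sign (swap (0 : Fin 5) 1) * Perm.sign 1 = -1
      rw [basic_five.2.2.2.2.2.2.2.2.1, map_one, mul_one]
  rw [index_ker, MonoidHom.range_eq_top.2 hs, card_top, Nat.card_eq_fintype_card (α := ℤˣ),
    Fintype.card_units_int, Nat.card_prod, Nat.card_perm, Nat.card_fin] at h
  rw [show Nat.factorial 5 = 120 from rfl] at h
  omega

variable {G : Type u} [Group G] [Finite G]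

namespace Base

variable (B : Base G)

include B

/-- The map on pairs. -/
def F (p : P5) : G := B.M1 p.1 * B.M2 (cc p.1 * p.2)

theorem M1_cc (a : S5) : B.M1 (cc a) = B.M2 (cc a) := by
  rcases Int.units_eq_one_or (Perm.sign a) with e | e
  · rw [cc_even e, map_one, map_one]
  · rw [cc_odd e, B.M1_c, B.M2_c]

theorem F_left {a : S5} (ha : Perm.sign a = 1) : B.F (a, 1) = B.M1 a := by
  rw [F, cc_even ha, mul_one, map_one, mul_one]

theorem F_right (b : S5) : B.F (1, b) = B.M2 b := by rw [F, map_one, map_one, one_mul, one_mul]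

theorem F_cc (b : S5) : B.F (cc b, b) = B.M2 b := by
  rw [F, cc_cc, B.M1_cc, ← map_mul, ← mul_assoc, cc_sq, one_mul]

theorem F_one : B.F 1 = 1 := B.F_right 1 ▸ map_one _

theorem F_z : B.F (W, 1) = B.z := by rw [B.F_left even_facts.1, B.M1_W]
theorem F_w : B.F (1, W) = B.w := B.F_right W
theorem F_sig : B.F (swap 0 1, swap 0 1) = B.sig := by
  have h := B.F_cc (swap 0 1)
  rwa [cc_odd basic_five.2.2.2.2.2.2.2.2.1] at h
theorem F_pf : B.F (1, U5) = B.φ pf := B.F_right U5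

end Base

/-- A `cg`-invariant subgroup extended by `g`. -/
def Base.adj (B : Base G) (S : Subgroup G) (hS : ∀ y ∈ S, B.cg y ∈ S) : Subgroup G where
  carrier := {y | y ∈ S ∨ B.g * y ∈ S}
  one_mem' := Or.inl (one_mem S)
  mul_mem' := by
    rintro y y' (hy | hy) (hy' | hy')
    · exact Or.inl (mul_mem hy hy')
    · refine Or.inr ?_
      have := mul_mem (hS _ hy) hy'
      rwa [Base.cg_apply, show B.g * y * B.g * (B.g * y') = B.g * y * (B.g * B.g) * y' by group, B.g2, mul_one,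
        mul_assoc] at this
    · refine Or.inr ?_
      rw [← mul_assoc]; exact mul_mem hy hy'
    · refine Or.inl ?_
      have := mul_mem (hS _ hy) hy'
      rwa [Base.cg_apply, show B.g * (B.g * y) * B.g * (B.g * y') = (B.g * B.g) * y * (B.g * B.g) * y' by group,
        B.g2, one_mul, mul_one] at this
  inv_mem' := by
    rintro y (hy | hy)
    · exact Or.inl (inv_mem hy)
    · refine Or.inr ?_
      have := hS _ (inv_mem hy)
      rwa [Base.cg_apply, mul_inv_rev, B.g_inv,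
        show B.g * (y⁻¹ * B.g) * B.g = B.g * y⁻¹ * (B.g * B.g) by group, B.g2, mul_one] at this

/-- The facts established for the second case. -/
structure CaseB (B : Base G) : Prop where
  hB : B.cg B.xx = B.φ pf
  comm : ∀ {a b : S5}, Perm.sign a = 1 → Perm.sign b = 1 → Commute (B.M1 a) (B.M2 b)
  sigN : ∀ c : G, Commute c B.sig → c ∈ normalizer (B.D9 : Set G)
  cardN : Nat.card (normalizer (B.D9 : Set G)) = 144

theorem Base.nonempty_caseB (B : Base G) (hB : B.cg B.xx = B.φ pf)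
    (ρ : normalizer (B.D9 : Set G) →* DihedralGroup 4) (hρs : Function.Surjective ρ)
    (hρk : ∀ x : normalizer (B.D9 : Set G), ρ x = 1 ↔ (x : G) ∈ centralizer (B.D9 : Set G)) : CaseB B where
  hB := hB
  comm := fun ha hb => B.commute_M1_M2 hB ρ hρs hρk ha hb
  sigN := fun c hc => B.commute_sig_normalizer hB ρ hρs hρk hc
  cardN := by
    classical
    have hk : Nat.card ρ.ker = 18 := by
      have hin : Subtype.val '' (ρ.ker : Set (normalizer (B.D9 : Set G))) = ↑(eighteen.image B.φ) := by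
        ext y
        rw [Finset.mem_coe, Finset.mem_image]
        constructor
        · rintro ⟨n, hn, rfl⟩
          have h := (hρk n).1 (MonoidHom.mem_ker.1 hn)
          exact B.exists_of_commute_zw (mem_centralizer_iff.1 h _ B.z_mem_D9).symm
            (mem_centralizer_iff.1 h _ B.w_mem_D9).symm
        · rintro ⟨p, hp, rfl⟩
          have hc : B.φ p ∈ centralizer (B.D9 : Set G) := by
            refine mem_centralizer_iff.2 ?_
            rintro _ ⟨r, hr, rfl⟩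
            exact (B.φ_commute ((eighteen_facts.2 p hp).1 r hr)).eq.symm
          exact ⟨⟨_, centralizer_le_normalizer _ hc⟩, MonoidHom.mem_ker.2 ((hρk _).2 hc), rfl⟩
      rw [← SetLike.coe_sort_coe, Nat.card_coe_set_eq, ← Set.ncard_image_of_injective _ Subtype.val_injective, hin,
        Set.ncard_coe_finset, Finset.card_image_of_injective _ B.inj, eighteen_facts.1]
    rw [← ρ.ker.card_mul_index, hk, index_ker, MonoidHom.range_eq_top.2 hρs, card_top, DihedralGroup.nat_card]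

namespace CaseB

variable {B : Base G} (E : CaseB B)

include E

theorem F_mul {p q : P5} (hp : Ev5 p) (hq : Ev5 q) : B.F (p * q) = B.F p * B.F q := by
  obtain ⟨a, b⟩ := p
  obtain ⟨a', b'⟩ := q
  set c' := cc a' with hc'
  set e' := c' * a' with he'
  set d := cc a * b with hd
  have c2 : c' * c' = 1 := cc_sq a'
  have hd1 : Perm.sign (c' * d * c') = 1 := by
    simp only [hd, hc', map_mul, sign_cc]
    rw [show Perm.sign a = Perm.sign b from hp]
    rcases Int.units_eq_one_or (Perm.sign b) with e | e <;>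
      rcases Int.units_eq_one_or (Perm.sign a') with e2 | e2 <;> simp [e, e2]
  have he1 : Perm.sign e' = 1 := by
    rw [he', hc', map_mul, sign_cc]
    rcases Int.units_eq_one_or (Perm.sign a') with e | e <;> simp [e]
  have ha' : a' = c' * e' := by rw [he', ← mul_assoc, c2, one_mul]
  have hswap : B.M2 d * B.M1 a' = B.M1 a' * B.M2 (c' * d * c') := by
    have h1 : B.M1 a' = B.M2 c' * B.M1 e' := by
      rw [← B.M1_cc a', ← map_mul B.M1 c' e']; exact congrArg B.M1 ha'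
    have h2 : d * c' = c' * (c' * d * c') := by rw [← mul_assoc, ← mul_assoc, c2, one_mul]
    calc B.M2 d * B.M1 a' = B.M2 d * B.M2 c' * B.M1 e' := by rw [h1, mul_assoc]
      _ = B.M2 c' * (B.M2 (c' * d * c') * B.M1 e') := by rw [← map_mul, h2, map_mul B.M2 c', mul_assoc]
      _ = B.M2 c' * (B.M1 e' * B.M2 (c' * d * c')) := by rw [(E.comm he1 hd1).eq]
      _ = B.M1 a' * B.M2 (c' * d * c') := by rw [h1]; simp only [mul_assoc]
  show B.M1 (a * a') * B.M2 (cc (a * a') * (b * b')) = B.M1 a * B.M2 d * (B.M1 a' * B.M2 (c' * b'))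
  calc B.M1 (a * a') * B.M2 (cc (a * a') * (b * b'))
      = B.M1 a * B.M1 a' * B.M2 (c' * d * c' * (c' * b')) := by
        rw [map_mul B.M1, map_mul cc, hd, cc_comm a a', ← hc',
          show c' * (cc a * b) * c' * (c' * b') = c' * (cc a * b) * (c' * c') * b' by group, c2, mul_one]
        simp only [mul_assoc]
    _ = B.M1 a * (B.M1 a' * B.M2 (c' * d * c')) * B.M2 (c' * b') := by rw [map_mul B.M2]; simp only [mul_assoc]
    _ = B.M1 a * B.M2 d * (B.M1 a' * B.M2 (c' * b')) := by rw [← hswap]; simp only [mul_assoc]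

/-- The embedding of the pairs with equal signs. -/
def ψ : K2 →* G where
  toFun p := B.F p
  map_one' := B.F_one
  map_mul' p q := E.F_mul (mem_K2.1 p.2) (mem_K2.1 q.2)

theorem F_inv {p : P5} (hp : Ev5 p) : B.F p⁻¹ = (B.F p)⁻¹ := map_inv E.ψ ⟨p, mem_K2.2 hp⟩

theorem F_conj {k p : P5} (hk : Ev5 k) (hp : Ev5 p) : B.F (k * p * k⁻¹) = B.F k * B.F p * (B.F k)⁻¹ := by
  rw [E.F_mul (ev5_mul hk hp) (ev5_inv hk), E.F_mul hk hp, E.F_inv hk]

theorem F_commute {p q : P5} (hp : Ev5 p) (hq : Ev5 q) (h : p * q = q * p) : Commute (B.F p) (B.F q) := by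
  show _ = _
  rw [← E.F_mul hp hq, ← E.F_mul hq hp, h]

theorem ψ_injective : Function.Injective E.ψ := by
  refine (injective_iff_map_eq_one _).2 ?_
  rintro ⟨⟨a, b⟩, hp⟩ h
  change B.M1 a * B.M2 (cc a * b) = 1 at h
  have hd : Perm.sign (cc a * b) = 1 := by
    rw [map_mul, sign_cc, show Perm.sign a = Perm.sign b from mem_K2.1 hp]
    rcases Int.units_eq_one_or (Perm.sign b) with e | e <;> simp [e]
  set d := cc a * b with hdef
  have hW : Commute (B.M2 d) B.w := by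
    rw [eq_inv_of_mul_eq_one_right h]; exact (B.M1_commute_w a).inv_left
  have hdW : d * W = W * d := congrArg Prod.snd (B.of_φ_commute hW)
  have ha : B.φ (1, a) = B.cg (B.M2 d⁻¹) := by
    rw [map_inv B.M2, ← eq_inv_of_mul_eq_one_left h, B.cg_M1]; rfl
  have key : ∀ (q : Pair), B.cg (B.M2 d⁻¹) = B.φ q → q.1 = 1 ∧ q.2 = a := fun q hq => by
    have := B.inj (ha.trans hq)
    exact ⟨(congrArg Prod.fst this).symm, (congrArg Prod.snd this).symm⟩
  rcases even_commute_W d hd hdW with e | e | e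
  · have h1 : a = 1 := (key 1 (by rw [e, inv_one, map_one, map_one, map_one])).2.symm
    refine Subtype.ext (Prod.ext h1 ?_)
    rw [hdef, h1, map_one, one_mul] at e
    exact e
  · exfalso
    have h1 := (key pz⁻¹ (by rw [e, map_inv, map_inv, B.M2_W, B.cg_w, ← map_inv B.φ])).1
    exact absurd h1 (by decide +kernel)
  · exfalso
    have h1 := (key (pz * pz)⁻¹ (by rw [e, map_inv, map_inv, map_mul, map_mul, B.M2_W, B.cg_w, ← map_mul,
      ← map_inv B.φ])).1
    exact absurd h1 (by decide +kernel)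

theorem F_inj {p q : P5} (hp : Ev5 p) (hq : Ev5 q) (h : B.F p = B.F q) : p = q :=
  congrArg Subtype.val (E.ψ_injective (show E.ψ ⟨p, mem_K2.2 hp⟩ = E.ψ ⟨q, mem_K2.2 hq⟩ from h))

theorem F_sq {p : P5} (hp : Ev5 p) (h : p * p = 1) : B.F p * B.F p = 1 := by
  rw [← E.F_mul hp hp, h, B.F_one]

theorem F_xx : B.F (U5, 1) = B.xx := by rw [B.F_left basic_five.1, B.M1_pf E.hB]

theorem cg_F {p : P5} (hp : Ev5 p) : B.cg (B.F p) = B.F (p.2, p.1) := by
  obtain ⟨a, b⟩ := p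
  have he : Perm.sign (cc a * b) = 1 := by
    rw [map_mul, sign_cc, show Perm.sign a = Perm.sign b from hp]
    rcases Int.units_eq_one_or (Perm.sign b) with e | e <;> simp [e]
  have hab : cc a = cc b := by rw [cc_apply, cc_apply, show Perm.sign a = Perm.sign b from hp]
  show B.cg (B.M1 a * B.M2 (cc a * b)) = B.F (b, a)
  rw [map_mul, B.cg_M1, B.cg_M2, ← B.F_cc a, ← B.F_left he, ← E.F_mul (p := (cc a, a)) (sign_cc a) (ev5_even he (map_one _))]
  refine congrArg _ (Prod.ext ?_ (mul_one a))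
  show cc a * (cc a * b) = b
  rw [← mul_assoc, cc_sq, one_mul]

/-- The image of the pairs. -/
def P : Subgroup G := E.ψ.range

theorem mem_P {y : G} : y ∈ E.P ↔ ∃ p, Ev5 p ∧ B.F p = y :=
  ⟨fun ⟨p, hp⟩ => ⟨p.1, mem_K2.1 p.2, hp⟩, fun ⟨p, hp, e⟩ => ⟨⟨p, mem_K2.2 hp⟩, e⟩⟩

theorem F_mem {p : P5} (hp : Ev5 p) : B.F p ∈ E.P := E.mem_P.2 ⟨p, hp, rfl⟩

theorem cg_mem_P {y : G} (hy : y ∈ E.P) : B.cg y ∈ E.P := by
  obtain ⟨p, hp, rfl⟩ := E.mem_P.1 hy
  rw [E.cg_F hp]; exact E.F_mem (ev5_swap hp)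

theorem card_P : Nat.card E.P = 7200 := by
  rw [P, ← card_K2, Nat.card_congr (MonoidHom.ofInjective E.ψ_injective).toEquiv]

theorem φ_mem_P (p : Pair) : B.φ p ∈ E.P := by
  have h2 : B.φ (1, p.2) ∈ E.P := by
    have h := E.F_mem (p := (cc p.2, p.2)) (sign_cc p.2)
    rwa [B.F_cc] at h
  have hz : B.φ (c3, 1) ∈ E.P := by
    have h := E.F_mem (p := (W, 1)) (ev5_even even_facts.1 (map_one _))
    rwa [B.F_z] at h
  have hx : B.φ (s3, 1) ∈ E.P := by
    have h := E.F_mem (p := (U5, 1)) (ev5_even basic_five.1 (map_one _))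
    rwa [E.F_xx] at h
  have h1 : B.φ (p.1, 1) ∈ E.P := by
    rcases S3_forms p.1 with e | e | e | e | e | e <;> rw [e]
    · rw [show ((1, 1) : Pair) = 1 from rfl, map_one]; exact one_mem _
    · exact hz
    · rw [show ((c3 * c3, 1) : Pair) = (c3, 1) * (c3, 1) from rfl, map_mul]; exact mul_mem hz hz
    · exact hx
    · rw [show ((s3 * c3, 1) : Pair) = (s3, 1) * (c3, 1) from rfl, map_mul]; exact mul_mem hx hz
    · rw [show ((s3 * (c3 * c3), 1) : Pair) = (s3, 1) * ((c3, 1) * (c3, 1)) from rfl, map_mul, map_mul]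
      exact mul_mem hx (mul_mem hz hz)
  have := mul_mem h1 h2
  rwa [← map_mul, show ((p.1, 1) : Pair) * (1, p.2) = p from Prod.ext (mul_one _) (one_mul _)] at this

theorem g_notin_P : B.g ∉ E.P := by
  intro h
  obtain ⟨p, hp, e⟩ := E.mem_P.1 h
  have hW : Ev5 ((W, 1) : P5) := ev5_even even_facts.1 (map_one _)
  have h1 : B.F (p * (W, 1) * p⁻¹) = B.F (1, W) := by
    rw [E.F_conj hp hW, e, B.F_z, B.F_w, B.g_inv]; exact B.cg_z
  have h2 := congrArg Prod.snd (E.F_inj (ev5_mul (ev5_mul hp hW) (ev5_inv hp))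
    (ev5_even (map_one _) even_facts.1) h1)
  simp only [Prod.snd_mul, Prod.snd_inv, mul_one, mul_inv_cancel] at h2
  exact even_facts.2.2.1 h2.symm

theorem mem_ext {S : Subgroup G} {hS : ∀ y ∈ S, B.cg y ∈ S} {y : G} :
    y ∈ B.adj S hS ↔ y ∈ S ∨ B.g * y ∈ S := Iff.rfl

theorem card_ext {S : Subgroup G} {hS : ∀ y ∈ S, B.cg y ∈ S} (hg : B.g ∉ S) :
    Nat.card (B.adj S hS) = 2 * Nat.card S := by
  have e : ((B.adj S hS : Subgroup G) : Set G) = (S : Set G) ∪ (fun y => B.g * y) '' (S : Set G) := by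
    ext y
    refine ⟨fun h => h.imp id fun h' => ⟨B.g * y, h', B.gg y⟩, ?_⟩
    rintro (h | ⟨a, ha, rfl⟩)
    · exact Or.inl h
    · exact Or.inr ((B.gg a).symm ▸ ha)
  have hd : Disjoint (S : Set G) ((fun y => B.g * y) '' (S : Set G)) := by
    rw [Set.disjoint_left]
    rintro y hy ⟨a, ha, rfl⟩
    exact hg ((Subgroup.mul_mem_cancel_right S ha).1 hy)
  rw [← SetLike.coe_sort_coe, ← SetLike.coe_sort_coe, Nat.card_coe_set_eq, Nat.card_coe_set_eq, e,
    Set.ncard_union_eq hd (Set.toFinite _) (Set.toFinite _),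
    Set.ncard_image_of_injective _ (fun a b h => mul_left_cancel h), two_mul]

/-- `(A₅ × A₅).2²`. -/
def H : Subgroup G := B.adj E.P fun _ h => E.cg_mem_P h

theorem P_le_H : E.P ≤ E.H := fun _ h => Or.inl h
theorem g_mem_H : B.g ∈ E.H := Or.inr (by rw [B.g2]; exact one_mem _)
theorem F_mem_H {p : P5} (hp : Ev5 p) : B.F p ∈ E.H := E.P_le_H (E.F_mem hp)

theorem exists_of_mem_H {y : G} (hy : y ∈ E.H) : ∃ p, Ev5 p ∧ (y = B.F p ∨ y = B.g * B.F p) := by
  rcases hy with h | h <;> obtain ⟨p, hp, e⟩ := E.mem_P.1 h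
  · exact ⟨p, hp, Or.inl e.symm⟩
  · exact ⟨p, hp, Or.inr (by rw [e, B.gg])⟩

theorem mem_of_commute_z {y : G} (hy : Commute y B.z) : y ∈ E.H := by
  obtain ⟨p, -, rfl⟩ := B.exists_of_commute_z hy
  exact E.P_le_H (E.φ_mem_P p)

theorem mem_of_commute_w {y : G} (hy : Commute y B.w) : y ∈ E.H := by
  obtain ⟨p, -, rfl⟩ := B.exists_of_commute_w hy
  exact E.P_le_H (E.cg_mem_P (E.φ_mem_P p))

theorem mem_of_commute_sig {y : G} (hy : Commute y B.sig) : y ∈ E.H := by
  rcases B.eq_g_φ (E.sigN y hy) with ⟨p, rfl⟩ | ⟨p, rfl⟩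
  · exact E.P_le_H (E.φ_mem_P p)
  · exact mul_mem E.g_mem_H (E.P_le_H (E.φ_mem_P p))

theorem card_H : Nat.card E.H = 14400 := by rw [H, E.card_ext E.g_notin_P, E.card_P]

/-- The involutions `x * pf` and the image of `pf`. -/
theorem ev5_basic : Ev5 ((1, U5) : P5) ∧ Ev5 ((U5, 1) : P5) ∧ Ev5 ((U5, U5) : P5) ∧
    Ev5 ((swap 0 1, swap 0 1) : P5) :=
  ⟨ev5_even (map_one _) basic_five.1, ev5_even basic_five.1 (map_one _), ev5_even basic_five.1 basic_five.1, rfl⟩

theorem g_sig_comm : Commute B.g B.sig := by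
  show _ = _
  calc B.g * B.sig = B.g * B.cg B.sig := by rw [B.cg_sig]
    _ = B.sig * B.g := by rw [Base.cg_apply, ← mul_assoc, B.gg]

/-- The classes of involutions of the subgroup. -/
theorem involution_cases {y : G} (hy : y ∈ E.H) (h2 : y * y = 1) (h1 : y ≠ 1) :
    (∃ p, Ev5 p ∧ y = B.F p ∧ p * p = 1 ∧
      ((p.1 = 1 ∧ p.2 ≠ 1 ∧ Perm.sign p.2 = 1 ∧ ∃ k ∈ E.H, k * B.F (1, U5) * k⁻¹ = y) ∨
       (p.2 = 1 ∧ p.1 ≠ 1 ∧ Perm.sign p.1 = 1 ∧ ∃ k ∈ E.H, k * B.F (1, U5) * k⁻¹ = y) ∨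
       (p.1 ≠ 1 ∧ p.2 ≠ 1 ∧ Perm.sign p.1 = 1 ∧ ∃ k ∈ E.H, k * B.F (U5, U5) * k⁻¹ = y) ∨
       (Perm.sign p.1 = -1 ∧ ∃ k ∈ E.H, k * B.sig * k⁻¹ = y))) ∨
    ∃ k ∈ E.H, k * B.g * k⁻¹ = y ∨ k * (B.g * B.sig) * k⁻¹ = y := by
  obtain ⟨uev, xev, tev, sev⟩ := E.ev5_basic
  obtain ⟨⟨a, b⟩, hp, e | e⟩ := E.exists_of_mem_H hy
  · left
    have hp2 : ((a, b) : P5) * (a, b) = 1 := E.F_inj (ev5_mul hp hp) ev5_one (by
      rw [E.F_mul hp hp, ← e, h2, B.F_one])
    have a2 : a * a = 1 := congrArg Prod.fst hp2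
    have b2 : b * b = 1 := congrArg Prod.snd hp2
    refine ⟨(a, b), hp, e, hp2, ?_⟩
    have conj : ∀ {k q : P5}, Ev5 k → Ev5 q → k * q * k⁻¹ = (a, b) →
        ∃ h ∈ E.H, h * B.F q * h⁻¹ = y := fun {k q} hk hq he =>
      ⟨_, E.F_mem_H hk, by rw [← E.F_conj hk hq, he, e]⟩
    rcases Int.units_eq_one_or (Perm.sign a) with sa | sa
    · have sb : Perm.sign b = 1 := (show Perm.sign a = Perm.sign b from hp) ▸ sa
      by_cases ha : a = 1
      · subst ha
        have hb : b ≠ 1 := fun e' => h1 (by rw [e, e']; exact B.F_one)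
        obtain ⟨k, hk, hke⟩ := (involution_five b b2 hb).1 sb
        exact Or.inl ⟨rfl, hb, sb, conj (k := (1, k)) (ev5_even (map_one _) hk) uev
          (Prod.ext (by simp) hke)⟩
      · obtain ⟨k, hk, hke⟩ := (involution_five a a2 ha).1 sa
        by_cases hb : b = 1
        · subst hb
          obtain ⟨h, hh, hhe⟩ := conj (k := (k, 1)) (ev5_even hk (map_one _)) xev (Prod.ext hke (by simp))
          refine Or.inr (Or.inl ⟨rfl, ha, sa, h * B.g, mul_mem hh E.g_mem_H, ?_⟩)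
          rw [mul_inv_rev, B.g_inv, ← hhe, ← E.cg_F uev, Base.cg_apply]
          group
        · obtain ⟨l, hl, hle⟩ := (involution_five b b2 hb).1 sb
          exact Or.inr (Or.inr (Or.inl ⟨ha, hb, sa, conj (k := (k, l)) (ev5_even hk hl) tev (Prod.ext hke hle)⟩))
    · have sb : Perm.sign b = -1 := (show Perm.sign a = Perm.sign b from hp) ▸ sa
      have ha : a ≠ 1 := fun e' => absurd sa (by rw [e', map_one]; decide)
      have hb : b ≠ 1 := fun e' => absurd sb (by rw [e', map_one]; decide)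
      obtain ⟨k, hk, hke⟩ := (involution_five a a2 ha).2 sa
      obtain ⟨l, hl, hle⟩ := (involution_five b b2 hb).2 sb
      refine Or.inr (Or.inr (Or.inr ⟨sa, ?_⟩))
      rw [← B.F_sig]
      exact conj (k := (k, l)) (ev5_even hk hl) sev (Prod.ext hke hle)
  · right
    have hsq : ((b, a) : P5) * (a, b) = 1 := E.F_inj (ev5_mul (ev5_swap hp) hp) ev5_one (by
      rw [E.F_mul (ev5_swap hp) hp, ← E.cg_F hp, Base.cg_apply, mul_assoc (B.g * B.F (a, b)), ← e, h2, B.F_one])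
    have hb : b = a⁻¹ := eq_inv_of_mul_eq_one_left (congrArg Prod.fst hsq)
    subst hb
    have move : ∀ (k : S5), Perm.sign k = 1 →
        B.F (1, k) * B.g = B.g * B.F (k, 1) ∧ (B.F (1, k))⁻¹ = B.F (1, k⁻¹) := by
      intro k hk
      refine ⟨?_, ?_⟩
      · rw [← E.cg_F (ev5_even (map_one _) hk : Ev5 ((1, k) : P5)), Base.cg_apply, ← mul_assoc, B.gg]
      · rw [← E.F_inv (ev5_even (map_one _) hk), Prod.inv_mk, inv_one]
    rcases Int.units_eq_one_or (Perm.sign a) with sa | sa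
    · obtain ⟨m1, m2⟩ := move a sa
      refine ⟨B.F (1, a), E.F_mem_H (ev5_even (map_one _) sa), Or.inl ?_⟩
      rw [m1, m2, mul_assoc, ← E.F_mul (ev5_even sa (map_one _)) (ev5_even (map_one _) (by rw [map_inv, sa, inv_one])), e,
        Prod.mk_mul_mk, mul_one, one_mul]
    · have sk : Perm.sign (a * swap 0 1) = 1 := by
        rw [map_mul, sa, basic_five.2.2.2.2.2.2.2.2.1]; decide
      obtain ⟨m1, m2⟩ := move _ sk
      refine ⟨B.F (1, a * swap 0 1), E.F_mem_H (ev5_even (map_one _) sk), Or.inr ?_⟩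
      rw [← mul_assoc, m1, m2, mul_assoc B.g, ← B.F_sig, ← E.F_mul (ev5_even sk (map_one _)) sev, mul_assoc,
        ← E.F_mul (ev5_mul (ev5_even sk (map_one _)) sev) (ev5_even (map_one _) (by rw [map_inv, sk, inv_one])), e]
      refine congrArg _ (congrArg B.F (Prod.ext ?_ ?_))
      · simp [mul_assoc]
      · simp [mul_inv_rev, swap_inv]

theorem u_not_sig (k : G) : k * B.sig * k⁻¹ ≠ B.F (1, U5) := by
  obtain ⟨h1, h2⟩ := even_involution_three pf (by decide +kernel)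
  rw [B.F_pf]; exact B.not_conj_sig h1 h2 k

theorem u_not_mixed (k : G) : k * B.F (1, U5) * k⁻¹ ≠ B.g ∧ k * B.F (1, U5) * k⁻¹ ≠ B.g * B.sig := by
  obtain ⟨uev, -⟩ := E.ev5_basic
  have hu2 := E.F_sq uev (Prod.ext (one_mul _) basic_five.2.1)
  have hu1 : B.F (1, U5) ≠ 1 := fun e => basic_five.2.2.1
    (congrArg Prod.snd (E.F_inj uev ev5_one (e.trans B.F_one.symm)))
  have hz : Commute (B.F (1, U5)) B.z := by rw [B.F_pf]; exact B.φ_commute (by decide +kernel)
  have hsm : Commute B.sig B.m := B.φ_commute (by decide +kernel)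
  refine ⟨fun e => B.not_conj_mixed hu2 hu1 hz E.u_not_sig k (e ▸ B.g_commute_m),
    fun e => B.not_conj_mixed hu2 hu1 hz E.u_not_sig k (e ▸ B.g_commute_m.mul_left hsm)⟩

theorem sig_not_mixed (k : G) : k * B.sig * k⁻¹ ≠ B.g ∧ k * B.sig * k⁻¹ ≠ B.g * B.sig := by
  have hgP : B.g ≠ B.sig := fun e => E.g_notin_P (e ▸ B.F_sig ▸ E.F_mem E.ev5_basic.2.2.2)
  have hg1 : B.g ≠ 1 := fun e => E.g_notin_P (e ▸ one_mem _)
  have hsm : Commute B.sig B.m := B.φ_commute (by decide +kernel)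
  refine ⟨B.card_sig_three B.g2 B.g_commute_m hgP k, B.card_sig_three ?_ (B.g_commute_m.mul_left hsm) ?_ k⟩
  · rw [E.g_sig_comm.symm.mul_mul_mul_comm, B.g2, B.sig_sq', one_mul]
  · exact fun e => hg1 (mul_eq_right.1 e)

/-- The image of the centraliser of `(U5, U5)` among the pairs. -/
def R32 : Subgroup G where
  carrier := {y | ∃ p, Ev5 p ∧ p.1 * U5 = U5 * p.1 ∧ p.2 * U5 = U5 * p.2 ∧ B.F p = y}
  one_mem' := ⟨1, rfl, rfl, rfl, B.F_one⟩
  mul_mem' := by
    rintro _ _ ⟨p, hp, p1, p2, rfl⟩ ⟨q, hq, q1, q2, rfl⟩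
    exact ⟨p * q, ev5_mul hp hq, (show Commute p.1 U5 from p1).mul_left q1,
      (show Commute p.2 U5 from p2).mul_left q2, E.F_mul hp hq⟩
  inv_mem' := by
    rintro _ ⟨p, hp, p1, p2, rfl⟩
    exact ⟨p⁻¹, ev5_inv hp, (show Commute p.1 U5 from p1).inv_left, (show Commute p.2 U5 from p2).inv_left,
      E.F_inv hp⟩

theorem card_R32 : Nat.card E.R32 = 32 := by
  classical
  have e : (E.R32 : Set G) = ↑(((eight ×ˢ eight).filter Ev5).image B.F) := by
    ext y
    simp only [Finset.coe_image, Set.mem_image, Finset.mem_coe, Finset.mem_filter, Finset.mem_product, eight,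
      Finset.mem_univ, true_and]
    exact ⟨fun ⟨p, hp, p1, p2, hy⟩ => ⟨p, ⟨⟨p1, p2⟩, hp⟩, hy⟩, fun ⟨p, ⟨⟨p1, p2⟩, hp⟩, hy⟩ => ⟨p, hp, p1, p2, hy⟩⟩
  rw [← SetLike.coe_sort_coe, e, Nat.card_coe_set_eq, Set.ncard_coe_finset, Finset.card_image_of_injOn, eight_pairs]
  intro p hp q hq h
  exact E.F_inj (Finset.mem_filter.1 hp).2 (Finset.mem_filter.1 hq).2 h

theorem R32_centralizes {y : G} (hy : y ∈ E.R32) :
    Commute y (B.F (1, U5)) ∧ Commute y (B.F (U5, U5)) := by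
  obtain ⟨uev, -, tev, -⟩ := E.ev5_basic
  obtain ⟨p, hp, p1, p2, rfl⟩ := hy
  exact ⟨E.F_commute hp uev (Prod.ext (by simp) p2), E.F_commute hp tev (Prod.ext p1 p2)⟩

theorem t_not_sig (k : G) : k * B.sig * k⁻¹ ≠ B.F (U5, U5) := by
  intro e
  have hle : E.R32 ≤ centralizer ({B.F (U5, U5)} : Set G) := fun y hy =>
    mem_centralizer_singleton_iff.2 (E.R32_centralizes hy).2.eq
  have h := card_dvd_of_le hle
  rw [E.card_R32, ← e, card_centralizer_conj] at h
  have hc : centralizer ({B.sig} : Set G) = normalizer (B.D9 : Set G) := by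
    ext y
    exact ⟨fun hy => E.sigN y (mem_centralizer_singleton_iff.1 hy :),
      fun hy => mem_centralizer_singleton_iff.2 (B.commute_sig_of_normalizer hy).eq⟩
  rw [hc, E.cardN] at h
  norm_num at h

/-- An involution conjugate to `sig` is one of two transpositions in each factor. -/
theorem sig_shape {p : P5} (hp : Ev5 p) (k : G) (hk : k * B.sig * k⁻¹ = B.F p) :
    p * p = 1 ∧ Perm.sign p.1 = -1 := by
  have hy2 : B.F p * B.F p = 1 := hk ▸ conj_sq B.sig_sq'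
  have hy1 : B.F p ≠ 1 := fun e => B.sig_ne_one (conj_eq_one_iff.1 (hk.trans e))
  rcases E.involution_cases (E.F_mem_H hp) hy2 hy1 with ⟨q, hq, e, q2, h⟩ | ⟨j, -, e | e⟩
  · obtain rfl := E.F_inj hp hq e
    refine ⟨q2, ?_⟩
    rcases h with ⟨-, -, -, j, -, hj⟩ | ⟨-, -, -, j, -, hj⟩ | ⟨-, -, -, j, -, hj⟩ | ⟨h, -⟩
    · refine absurd ?_ (E.u_not_sig (j⁻¹ * k))
      rw [show j⁻¹ * k * B.sig * (j⁻¹ * k)⁻¹ = j⁻¹ * (k * B.sig * k⁻¹) * j by group, hk, ← hj]; group
    · refine absurd ?_ (E.u_not_sig (j⁻¹ * k))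
      rw [show j⁻¹ * k * B.sig * (j⁻¹ * k)⁻¹ = j⁻¹ * (k * B.sig * k⁻¹) * j by group, hk, ← hj]; group
    · refine absurd ?_ (E.t_not_sig (j⁻¹ * k))
      rw [show j⁻¹ * k * B.sig * (j⁻¹ * k)⁻¹ = j⁻¹ * (k * B.sig * k⁻¹) * j by group, hk, ← hj]; group
    · exact h
  · refine absurd ?_ (E.sig_not_mixed (j⁻¹ * k)).1
    rw [show j⁻¹ * k * B.sig * (j⁻¹ * k)⁻¹ = j⁻¹ * (k * B.sig * k⁻¹) * j by group, hk, ← e]; group
  · refine absurd ?_ (E.sig_not_mixed (j⁻¹ * k)).2
    rw [show j⁻¹ * k * B.sig * (j⁻¹ * k)⁻¹ = j⁻¹ * (k * B.sig * k⁻¹) * j by group, hk, ← e]; group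

/-- The normaliser of the group of order 32 in the centraliser of `(1, U5)`. -/
theorem normalizer_R32 {n : G} (hn : ∀ y ∈ E.R32, n * y * n⁻¹ ∈ E.R32) (hu : Commute n (B.F (1, U5))) :
    n ∈ E.R32 := by
  obtain ⟨uev, -, -, sev⟩ := E.ev5_basic
  obtain ⟨sU, U2, U1, sV, V2, V1, VU, cU, sc, -⟩ := basic_five
  have hσR : B.sig ∈ E.R32 := ⟨_, sev, cU, cU, B.F_sig⟩
  obtain ⟨⟨a, b⟩, hp, ha, hb, he⟩ := hn _ hσR
  obtain ⟨hsq, hsa⟩ := E.sig_shape hp n he.symm
  obtain ⟨k, hk, hkU, hka⟩ := odd_in_eight a (congrArg Prod.fst hsq) hsa ha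
  obtain ⟨l, hl, hlU, hlb⟩ := odd_in_eight b (congrArg Prod.snd hsq)
    ((show Perm.sign a = Perm.sign b from hp) ▸ hsa) hb
  have hkev : Ev5 ((k, l) : P5) := ev5_even hk hl
  have hH : n ∈ E.H := by
    have hc : Commute ((B.F (k, l))⁻¹ * n) B.sig := by
      refine EightThree.conj_eq_iff.1 ?_
      rw [show (B.F (k, l))⁻¹ * n * B.sig * ((B.F (k, l))⁻¹ * n)⁻¹ =
        (B.F (k, l))⁻¹ * (n * B.sig * n⁻¹) * B.F (k, l) by group, ← he,
        ← (show ((k, l) : P5) * (swap 0 1, swap 0 1) * (k, l)⁻¹ = (a, b) from Prod.ext hka hlb),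
        E.F_conj hkev sev, B.F_sig]
      group
    have := mul_mem (E.F_mem_H hkev) (E.mem_of_commute_sig hc)
    rwa [mul_inv_cancel_left] at this
  obtain ⟨⟨a', b'⟩, hq, e | e⟩ := E.exists_of_mem_H hH
  · have hb' : b' * U5 = U5 * b' := congrArg Prod.snd (E.F_inj (ev5_mul hq uev) (ev5_mul uev hq)
      (by rw [E.F_mul hq uev, E.F_mul uev hq, ← e]; exact hu.eq))
    have img : ∀ s : S5, ∀ t : S5, Ev5 (s, t) → s * U5 = U5 * s → t * U5 = U5 * t →
        a' * s * a'⁻¹ * U5 = U5 * (a' * s * a'⁻¹) := by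
      intro s t hst hs ht
      obtain ⟨r, hr, r1, -, hre⟩ := hn _ ⟨(s, t), hst, hs, ht, rfl⟩
      rw [e, ← E.F_conj hq hst] at hre
      obtain rfl := E.F_inj hr (ev5_mul (ev5_mul hq hst) (ev5_inv hq)) hre
      exact r1
    exact ⟨(a', b'), hq, normalizer_eight a' (img U5 1 (ev5_even sU (map_one _)) rfl (by simp))
      (img V5 1 (ev5_even sV (map_one _)) VU (by simp)) (img (swap 0 1) (swap 0 1) rfl cU cU), hb', e.symm⟩
  · exfalso
    have hc : ((a', b') : P5) * (1, U5) * (a', b')⁻¹ = (U5, 1) := by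
      refine E.F_inj (ev5_mul (ev5_mul hq uev) (ev5_inv hq)) (ev5_even sU (map_one _)) ?_
      rw [E.F_conj hq uev, ← E.cg_F uev, Base.cg_apply]
      calc B.F (a', b') * B.F (1, U5) * (B.F (a', b'))⁻¹
          = B.g⁻¹ * (n * B.F (1, U5) * n⁻¹) * B.g := by rw [e]; group
        _ = B.g * B.F (1, U5) * B.g := by rw [hu.eq, mul_inv_cancel_right, B.g_inv]
    have h := congrArg Prod.fst hc
    simp only [Prod.fst_mul, Prod.fst_inv, mul_one, mul_inv_cancel] at h
    exact U1 h.symm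

/-- The involutions `(1, U5)` and `(U5, U5)` are not conjugate. -/
theorem t_not_u (k : G) : k * B.F (1, U5) * k⁻¹ ≠ B.F (U5, U5) := by
  intro e
  haveI := Fact.mk Nat.prime_two
  obtain ⟨uev, -, tev, -⟩ := E.ev5_basic
  have hgR : ∀ y ∈ E.R32, B.cg y ∈ E.R32 := by
    rintro _ ⟨p, hp, p1, p2, rfl⟩
    exact ⟨(p.2, p.1), ev5_swap hp, p2, p1, (E.cg_F hp).symm⟩
  have hgnR : B.g ∉ E.R32 := fun ⟨p, hp, _, _, he⟩ => E.g_notin_P (he ▸ E.F_mem hp)
  have hle : B.adj E.R32 hgR ≤ centralizer ({B.F (U5, U5)} : Set G) := by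
    have hg : Commute B.g (B.F (U5, U5)) := by
      show _ = _
      calc B.g * B.F (U5, U5) = B.g * B.cg (B.F (U5, U5)) := by rw [E.cg_F tev]
        _ = B.F (U5, U5) * B.g := by rw [Base.cg_apply, ← mul_assoc, B.gg]
    intro y hy
    refine mem_centralizer_singleton_iff.2 ?_
    rcases E.mem_ext.1 hy with h | h
    · exact (E.R32_centralizes h).2.eq
    · have := hg.mul_left (E.R32_centralizes h).2
      rw [B.gg] at this
      exact this.eq
  have h64 := card_dvd_of_le hle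
  rw [E.card_ext hgnR, E.card_R32, ← e, card_centralizer_conj] at h64
  set M := centralizer ({B.F (1, U5)} : Set G)
  have hRM : E.R32 ≤ M := fun y hy => mem_centralizer_singleton_iff.2 (E.R32_centralizes hy).1.eq
  obtain ⟨K, hK, hRK⟩ := Sylow.exists_subgroup_card_pow_succ (p := 2) (n := 5) (G := M)
    (by simpa using h64) (H := E.R32.subgroupOf M)
    (by rw [Nat.card_congr (subgroupOfEquivOfLe hRM).toEquiv, E.card_R32]; rfl)
  set RK := (E.R32.subgroupOf M).subgroupOf K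
  have hidx : RK.index = 2 := by
    have h := RK.card_mul_index
    rw [Nat.card_congr (subgroupOfEquivOfLe hRK).toEquiv, Nat.card_congr (subgroupOfEquivOfLe hRM).toEquiv,
      E.card_R32, hK] at h
    omega
  haveI := normal_of_index_eq_two hidx
  obtain ⟨n, hn⟩ : ∃ n : K, n ∉ RK := by
    by_contra hc
    push Not at hc
    rw [(eq_top_iff' RK).2 hc, index_top] at hidx
    omega
  refine hn (E.normalizer_R32 (n := ((n : M) : G)) (fun y hy => ?_) (mem_centralizer_singleton_iff.1 (n : M).2 :))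
  have := Subgroup.Normal.conj_mem (H := RK) inferInstance
    ⟨⟨y, hRM hy⟩, hRK (mem_subgroupOf.2 hy)⟩ (mem_subgroupOf.2 (mem_subgroupOf.2 hy)) n
  exact this

end CaseB

end CfsgLib.Recog.EightThreeSym
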