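import Cfsg.Agent.Lib.Recog.EightThree.ModelEight
import Cfsg.Agent.Lib.Recog.EightThreeSym.Model

/-!
Owner: helper10. Computations in `S₈` for the 3-local characterisation.
-/

set_option autoImplicit false
set_option linter.all false
set_option synthInstance.maxSize 1000
set_option maxRecDepth 8000
set_option maxHeartbeats 800000

namespace CfsgLib.Recog.EightThreeSym

open Equiv CfsgLib.Recog.EightThree

/-- An involution or the identity with a given number of fixed points. -/
def Fx (n : ℕ) (x : S8) : Prop := x * x = 1 ∧ (Finset.univ.filter fun i => x i = i).card = n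

instance (n : ℕ) : DecidablePred (Fx n) := fun x => inferInstanceAs (Decidable (_ ∧ _))

theorem fx_iff_UT (x : S8) : Fx 4 x ↔ UT x := Iff.rfl

theorem Fx.conj {n : ℕ} {x : S8} (hx : Fx n x) (h : S8) : Fx n (h * x * h⁻¹) := by
  obtain ⟨h1, h2⟩ := hx
  refine ⟨by rw [show h * x * h⁻¹ * (h * x * h⁻¹) = h * (x * x) * h⁻¹ by group, h1, mul_one, mul_inv_cancel], ?_⟩
  refine Eq.trans ?_ h2
  refine Finset.card_nbij' (fun i => h⁻¹ i) (fun i => h i) ?_ ?_ ?_ ?_
  · intro i hi
    rw [Finset.mem_coe, Finset.mem_filter] at hi ⊢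
    refine ⟨Finset.mem_univ _, ?_⟩
    have := congrArg (h⁻¹ : S8) hi.2
    simpa [Perm.mul_apply] using this
  · intro i hi
    rw [Finset.mem_coe, Finset.mem_filter] at hi ⊢
    refine ⟨Finset.mem_univ _, ?_⟩
    simp [Perm.mul_apply, hi.2]
  · intro i _; simp
  · intro i _; simp

theorem fixed_add_support (x : S8) : (Finset.univ.filter fun i => x i = i).card + x.support.card = 8 := by
  have := Finset.card_filter_add_card_filter_not (s := (Finset.univ : Finset (Fin 8))) (fun i => x i = i)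
  rw [Finset.card_univ, Fintype.card_fin] at this
  have hsup : x.support = Finset.univ.filter fun i => ¬ x i = i := by ext i; simp
  rw [hsup]; exact this

theorem involution_type {x : S8} (hx : x * x = 1) :
    x.cycleType = Multiset.replicate x.cycleType.card 2 ∧
      (Finset.univ.filter fun i => x i = i).card + 2 * x.cycleType.card = 8 := by
  have hrep : x.cycleType = Multiset.replicate x.cycleType.card 2 := by
    refine Multiset.eq_replicate.2 ⟨rfl, fun a ha => ?_⟩
    have h := Perm.dvd_of_mem_cycleType ha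
    have h' : orderOf x ∣ 2 := orderOf_dvd_of_pow_eq_one (by rw [pow_two, hx])
    have := Nat.le_of_dvd two_pos (h.trans h')
    have := Perm.two_le_of_mem_cycleType ha
    omega
  refine ⟨hrep, ?_⟩
  have hsum := x.sum_cycleType
  rw [hrep, Multiset.sum_replicate, smul_eq_mul] at hsum
  have := fixed_add_support x
  omega

/-- The number of fixed points determines the class. -/
theorem Fx.isConj {n : ℕ} {x y : S8} (hx : Fx n x) (hy : Fx n y) : ∃ h : S8, h * x * h⁻¹ = y := by
  obtain ⟨tx, cx⟩ := involution_type hx.1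
  obtain ⟨ty, cy⟩ := involution_type hy.1
  rw [hx.2] at cx
  rw [hy.2] at cy
  refine isConj_iff.1 (Perm.isConj_iff_cycleType_eq.2 ?_)
  rw [tx, ty, show x.cycleType.card = y.cycleType.card by omega]

theorem fx_cases {x : S8} (hx : x * x = 1) (h1 : x ≠ 1) : Fx 6 x ∨ Fx 4 x ∨ Fx 2 x ∨ Fx 0 x := by
  obtain ⟨tx, cx⟩ := involution_type hx
  have h0 : x.cycleType.card ≠ 0 := fun e => h1 (Perm.cycleType_eq_zero.1 (by rw [tx, e, Multiset.replicate_zero]))
  unfold Fx
  simp only [hx, true_and]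
  omega

/-- The transposition `(3 4)`. -/
def S34 : S8 := swap 3 4
/-- Three transpositions exchanging `{0, 1, 2}` and `{5, 6, 7}`. -/
def T2 : S8 := swap 0 5 * swap 1 6 * swap 2 7

theorem fx_reps : Fx 6 S34 ∧ Fx 4 U8 ∧ Fx 2 T2 ∧ Fx 0 T8 ∧ S34 = iota psig ∧ S34 * T2 = T2 * S34 ∧
    T2 * S34 = T8 ∧ T2 * Z8 * T2⁻¹ = W8 ∧ T2 * M8 = M8 * T2 ∧ S34 ≠ 1 ∧ T2 ≠ 1 ∧ T8 * M8 = M8 * T8 ∧
    T2 ≠ S34 ∧ T8 ≠ S34 := by decide +kernel

theorem four_rot : Z8 * (Z8 * E1 * Z8⁻¹) * Z8⁻¹ = E1 * (Z8 * E1 * Z8⁻¹) ∧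
    Z8 * E1 * Z8⁻¹ * E1 = E1 * (Z8 * E1 * Z8⁻¹) ∧
    (E2 = Z8 * E1 * Z8⁻¹ ∨ E2 = E1 * (Z8 * E1 * Z8⁻¹)) ∧
    Z8 * E1 * Z8⁻¹ * U8 = U8 * (Z8 * E1 * Z8⁻¹) := by decide +kernel

theorem four_T2 : swap 0 5 * T2 = T2 * swap 0 5 ∧ swap 1 6 * T2 = T2 * swap 1 6 ∧
    (swap 0 5 : S8) * swap 1 6 = swap 1 6 * swap 0 5 ∧ Fx 6 (swap 0 5 : S8) ∧ Fx 6 (swap 1 6 : S8) ∧
    Fx 4 ((swap 0 5 : S8) * swap 1 6) := by decide +kernel

/-- The transpositions. -/
def listT : List S8 :=
  (List.finRange 8).flatMap fun p => ((List.finRange 8).filter fun q => decide (p < q)).map fun q => swap p q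

theorem mem_listT {x : S8} (hx : Fx 6 x) : x ∈ listT := by
  have hs : x.support.card = 2 := by have := fixed_add_support x; rw [hx.2] at this; omega
  obtain ⟨p, q, hpq, rfl⟩ := Perm.card_support_eq_two.1 hs
  simp only [listT, List.mem_flatMap, List.mem_map, List.mem_filter, List.mem_finRange, true_and, decide_eq_true_eq]
  rcases lt_or_gt_of_ne hpq with h | h
  · exact ⟨p, q, h, rfl⟩
  · exact ⟨q, p, h, swap_comm q p⟩

theorem transposition_pair_aux : ∀ T ∈ listT, code (T * S34) = code (S34 * T) → code T ≠ code S34 → UT (S34 * T) :=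
  of_all _ (fun T => code (T * S34) = code (S34 * T) → code T ≠ code S34 → UT (S34 * T)) (by decide +kernel)

theorem transposition_pair {T : S8} (hT : Fx 6 T) (h : T * S34 = S34 * T) (hne : T ≠ S34) : UT (S34 * T) :=
  transposition_pair_aux T (mem_listT hT) (congrArg code h) fun e => hne (code_injective e)

theorem mixed_pair_aux : ∀ T ∈ listU, code (T * S34) = code (S34 * T) → Fx 6 (S34 * T) ∨ Fx 2 (S34 * T) :=
  of_all _ (fun T => code (T * S34) = code (S34 * T) → Fx 6 (S34 * T) ∨ Fx 2 (S34 * T)) (by decide +kernel)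

theorem mixed_pair {T : S8} (hT : UT T) (h : T * S34 = S34 * T) : Fx 6 (S34 * T) ∨ Fx 2 (S34 * T) :=
  mixed_pair_aux T (mem_listU hT) (congrArg code h)

theorem near_T2_aux : ∀ T ∈ listT, code (T * S34) = code (S34 * T) → code (T * T2) = code (T2 * T) →
    code T = code S34 ∨ UT (T2 * T) :=
  of_all _ (fun T => code (T * S34) = code (S34 * T) → code (T * T2) = code (T2 * T) →
    code T = code S34 ∨ UT (T2 * T)) (by decide +kernel)

theorem near_T2 {T : S8} (hT : Fx 6 T) (h : T * S34 = S34 * T) (h' : T * T2 = T2 * T) : T = S34 ∨ UT (T2 * T) :=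
  (near_T2_aux T (mem_listT hT) (congrArg code h) (congrArg code h')).imp_left fun e => code_injective e

/-- The centraliser of `(3 4)` has at least `1440` elements. -/
theorem centralizer_S34 : 1440 ≤ Nat.card (Subgroup.centralizer ({S34} : Set S8)) := by
  set e : Perm (Fin 6 ⊕ Fin 2) ≃* S8 := (finSumFinEquiv (m := 6) (n := 2)).permCongrHom with he
  set c : S8 := swap 3 6 * swap 4 7 with hc
  set f : Perm (Fin 6) × Perm (Fin 2) →* S8 :=
    (MulAut.conj c).toMonoidHom.comp (e.toMonoidHom.comp (Perm.sumCongrHom (Fin 6) (Fin 2))) with hf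
  have hinj : Function.Injective f :=
    (MulAut.conj c).injective.comp (e.injective.comp Perm.sumCongrHom_injective)
  have hswap : f (1, swap 0 1) = S34 := by decide +kernel
  have hle : f.range ≤ Subgroup.centralizer ({S34} : Set S8) := by
    rintro _ ⟨⟨a, b⟩, rfl⟩
    refine Subgroup.mem_centralizer_singleton_iff.2 ?_
    rw [← hswap, ← map_mul, ← map_mul]
    refine congrArg f (Prod.ext (by simp) ?_)
    have : ∀ b : Perm (Fin 2), b * swap 0 1 = swap 0 1 * b := by decide
    exact this b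
  have h1 := Nat.le_of_dvd Nat.card_pos (Subgroup.card_dvd_of_le hle)
  rwa [← Nat.card_congr (MonoidHom.ofInjective hinj).toEquiv, Nat.card_prod, Nat.card_perm, Nat.card_perm,
    Nat.card_fin, Nat.card_fin] at h1

end CfsgLib.Recog.EightThreeSym
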