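import Cfsg.Agent.Lib.ZStar.Main
import Cfsg.Agent.Lib.Recog.EightThree.CentU

/-!
Owner: helper10. General tools: centralisers of involutions with an isolated involution in the quotient, a core
argument with an alternating group of degree four, and pairs of involutions.
-/

set_option autoImplicit false
set_option linter.all false

namespace CfsgLib.Recog.EightThreeSym

open Subgroup Cfsg
open scoped Pointwise

universe u

variable {G : Type u} [Group G]

theorem conj_pow_of_inverts {a k : G} (ha : a * a = 1) (hk : a * k * a = k⁻¹) (i : ℕ) : a * k ^ i * a = (k ^ i)⁻¹ := by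
  induction i with
  | zero => rw [pow_zero, mul_one, ha, inv_one]
  | succ i ih =>
    calc a * k ^ (i + 1) * a = a * k ^ i * (a * a) * k * a := by rw [ha, mul_one, pow_succ]; group
      _ = (a * k ^ i * a) * (a * k * a) := by group
      _ = (k ^ (i + 1))⁻¹ := by rw [ih, hk, ← mul_inv_rev, ← pow_succ']

theorem conj_by_pow {a k : G} (ha : a * a = 1) (hk : a * k * a = k⁻¹) (i : ℕ) :
    (k ^ i)⁻¹ * a * k ^ i = a * k ^ (2 * i) := by
  rw [← conj_pow_of_inverts ha hk i, two_mul, pow_add]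
  calc a * k ^ i * a * a * k ^ i = a * k ^ i * (a * a) * k ^ i := by group
    _ = a * (k ^ i * k ^ i) := by rw [ha]; group

variable [Finite G]

/-- Two involutions are conjugate or centralised by a third one in their dihedral group. -/
theorem pair_cases {a b : G} (ha : a * a = 1) (hb : b * b = 1) :
    (∃ k : G, k * a * k⁻¹ = b) ∨ ∃ r : G, r * r = 1 ∧ r ≠ 1 ∧ Commute r a ∧ Commute r b ∧
      ((∃ k : G, k * a * k⁻¹ = a * r) ∨ ∃ k : G, k * b * k⁻¹ = a * r) := by
  set k := a * b with hk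
  have hbk : b = a * k := by rw [hk, ← mul_assoc, ha, one_mul]
  have hki : k⁻¹ = b * a := by rw [hk, mul_inv_rev, inv_eq_of_mul_eq_one_left ha, inv_eq_of_mul_eq_one_left hb]
  have hak : a * k * a = k⁻¹ := by rw [← hbk, hki]
  rcases Nat.even_or_odd (orderOf k) with ⟨j, hj⟩ | ⟨i, hi⟩
  · have hpos := orderOf_pos k
    set r := k ^ j with hr
    have hr1 : r ≠ 1 := pow_ne_one_of_lt_orderOf (by omega) (by omega)
    have hr2 : r * r = 1 := by rw [hr, ← pow_add, ← hj, pow_orderOf_eq_one]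
    have hra : Commute r a := by
      have := conj_pow_of_inverts ha hak j
      rw [← hr, inv_eq_of_mul_eq_one_left hr2] at this
      show _ = _
      calc r * a = (a * a) * r * a := by rw [ha, one_mul]
        _ = a * (a * r * a) := by group
        _ = a * r := by rw [this]
    have hrb : Commute r b := by
      rw [hbk]; exact hra.mul_right ((Commute.refl k).pow_left j)
    refine Or.inr ⟨r, hr2, hr1, hra, hrb, ?_⟩
    rcases Nat.even_or_odd j with ⟨t, ht⟩ | ⟨t, ht⟩
    · refine Or.inl ⟨(k ^ t)⁻¹, ?_⟩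
      rw [inv_inv, conj_by_pow ha hak, hr, ht, two_mul]
    · refine Or.inr ⟨(k ^ t)⁻¹, ?_⟩
      rw [inv_inv]
      have hbk' : b * k * b = k⁻¹ := by
        rw [hki, hk, show b * (a * b) * b = b * a * (b * b) by group, hb, mul_one]
      rw [conj_by_pow hb hbk', hr, ht, pow_succ', ← mul_assoc, ← hbk]
  · refine Or.inl ⟨(k ^ (i + 1))⁻¹, ?_⟩
    rw [inv_inv, conj_by_pow ha hak, show 2 * (i + 1) = orderOf k + 1 by omega, pow_succ, pow_orderOf_eq_one,
      one_mul, ← hbk]

/-- A subgroup of odd order with a fixed-point-free involution and an alternating group of degree four acting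
without fixed points is trivial. -/
theorem A4_core_trivial {K : Subgroup G} (hodd : Odd (Nat.card K)) {v e1 e2 Z : G}
    (hv : v * v = 1) (he1 : e1 * e1 = 1) (he2 : e2 * e2 = 1) (he12 : Commute e1 e2) (hZ3 : Z * Z * Z = 1)
    (hZ1 : Z * e1 * Z⁻¹ = e2) (hZ2 : Z * e2 * Z⁻¹ = e1 * e2)
    (hvK : ∀ k ∈ K, v * k * v ∈ K) (h1K : ∀ k ∈ K, e1 * k * e1 ∈ K) (hZK : ∀ k ∈ K, Z * k * Z⁻¹ ∈ K)
    (fz : ∀ k ∈ K, Commute k Z → k = 1) (fv : ∀ k ∈ K, Commute k v → k = 1)
    (fe : ∀ k ∈ K, Commute k e1 → Commute k e2 → k = 1) : K = ⊥ := by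
  have hinv := EightThree.inverts_of_fpf hv hvK fun a ha e => fv a ha (by
    show _ = _
    calc a * v = (v * a * v) * v := by rw [e]
      _ = v * a := by rw [mul_assoc, hv, mul_one])
  have hab : ∀ a ∈ K, ∀ b ∈ K, a * b = b * a := by
    intro a ha b hb
    have h1 := hinv _ (mul_mem ha hb)
    rw [show v * (a * b) * v = (v * a * v) * (v⁻¹ * b * v) by group, inv_eq_of_mul_eq_one_left hv, hinv a ha,
      hinv b hb] at h1
    have h3 := congrArg (·⁻¹) h1
    simp only [mul_inv_rev, inv_inv] at h3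
    exact h3.symm
  have hoddel : ∀ a ∈ K, Odd (orderOf a) := fun a ha => hodd.of_dvd_nat (Subgroup.orderOf_dvd_natCard _ ha)
  -- `e1` inverts the fixed points of `e2` and of `e1 * e2`
  have flip : ∀ e : G, Commute e1 e → (∀ k ∈ K, Commute k e1 → Commute k e → k = 1) →
      ∀ a ∈ K, Commute a e → e1 * a * e1 = a⁻¹ := by
    intro e hee hf a ha hc
    have hca : e1 * a * e1 ∈ K := h1K a ha
    refine eq_inv_of_mul_eq_one_right (hf (a * (e1 * a * e1)) (mul_mem ha hca) ?_ ?_)
    · show _ = _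
      calc a * (e1 * a * e1) * e1 = a * e1 * a * (e1 * e1) := by group
        _ = a * e1 * a := by rw [he1, mul_one]
        _ = (e1 * e1) * (a * e1 * a) := by rw [he1, one_mul]
        _ = e1 * ((e1 * a * e1) * a) := by group
        _ = e1 * (a * (e1 * a * e1)) := by rw [hab _ hca a ha]
    · exact hc.mul_left ((hee.mul_left hc).mul_left hee)
  have f12 : ∀ k ∈ K, Commute k e1 → Commute k (e1 * e2) → k = 1 := fun k hk c1 c2 => fe k hk c1 (by
    have := c1.inv_right.mul_right c2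
    rwa [inv_mul_cancel_left] at this)
  have hfree : ∀ a ∈ K, Commute a e1 → a = 1 := by
    intro a ha hc
    set b := Z * a * Z⁻¹ with hb
    set c := Z * b * Z⁻¹ with hc'
    have hbK : b ∈ K := hZK a ha
    have hcK : c ∈ K := hZK b hbK
    have hb1 := flip e2 he12 fe b hbK (by
      have := hc.map (MulAut.conj Z).toMonoidHom
      simpa [← hb, hZ1] using this)
    have hc1 := flip (e1 * e2) ((Commute.refl e1).mul_right he12) f12 c hcK (by
      have := (hc.map (MulAut.conj Z).toMonoidHom).map (MulAut.conj Z).toMonoidHom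
      simp only [MulEquiv.coe_toMonoidHom, MulAut.conj_apply, hZ1, hZ2] at this
      exact this)
    have hp : a * b * c = 1 := by
      refine fz _ (mul_mem (mul_mem ha hbK) hcK) ?_
      have hz3 : Z * c * Z⁻¹ = a := by
        calc Z * c * Z⁻¹ = (Z * Z * Z) * a * (Z * Z * Z)⁻¹ := by rw [hc', hb]; group
          _ = a := by rw [hZ3]; group
      refine (EightThree.conj_eq_iff.1 ?_).symm
      calc Z * (a * b * c) * Z⁻¹ = (Z * a * Z⁻¹) * (Z * b * Z⁻¹) * (Z * c * Z⁻¹) := by group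
        _ = b * c * a := by rw [← hb, ← hc', hz3]
        _ = a * b * c := by rw [mul_assoc a, hab _ (mul_mem hbK hcK) a ha]
    have h1 : e1 * (a * b * c) * e1 = a * (b⁻¹ * c⁻¹) := by
      calc e1 * (a * b * c) * e1 = (e1 * a) * ((e1 * e1) * b * (e1 * e1)) * c * e1 := by rw [he1]; group
        _ = (e1 * a * e1) * (e1 * b * e1) * (e1 * c * e1) := by group
        _ = a * (b⁻¹ * c⁻¹) := by rw [hb1, hc1, ← hc.eq, mul_assoc a, he1, mul_one, mul_assoc]
    rw [hp, mul_one, he1] at h1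
    have hca : a = c * b := by
      calc a = (a * (b⁻¹ * c⁻¹)) * (c * b) := by group
        _ = c * b := by rw [← h1, one_mul]
    have hsq : a ^ 2 = 1 := by
      rw [pow_two]
      nth_rewrite 2 [hca]
      rw [hab c hcK b hbK, ← mul_assoc, hp]
    exact CfsgLib.ZStar.eq_one_of_odd_of_sq (hoddel a ha) hsq
  have hZiK : ∀ k ∈ K, Z⁻¹ * k * Z ∈ K := fun k hk => by
    have h := hZK _ (hZK k hk)
    rw [show Z⁻¹ = Z * Z from inv_eq_of_mul_eq_one_left hZ3]
    rwa [show Z * (Z * k * Z⁻¹) * Z⁻¹ = Z * Z * k * (Z * Z)⁻¹ by group,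
      show (Z * Z)⁻¹ = Z from inv_eq_of_mul_eq_one_left (by rw [← mul_assoc, hZ3])] at h
  have h2K : ∀ k ∈ K, e2 * k * e2 ∈ K := by
    intro k hk
    have hmem := hZK _ (h1K _ (hZiK k hk))
    rw [show Z * (e1 * (Z⁻¹ * k * Z) * e1) * Z⁻¹ = (Z * e1 * Z⁻¹) * k * (Z * e1 * Z⁻¹) by group, hZ1] at hmem
    exact hmem
  have back : ∀ (a e e' : G), Z * e * Z⁻¹ = e' → Commute a e' → Commute (Z⁻¹ * a * Z) e := by
    intro a e e' he hc
    show _ = _
    calc Z⁻¹ * a * Z * e = Z⁻¹ * (a * (Z * e * Z⁻¹)) * Z := by group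
      _ = Z⁻¹ * ((Z * e * Z⁻¹) * a) * Z := by rw [he, hc.eq]
      _ = e * (Z⁻¹ * a * Z) := by group
  have undo : ∀ {a : G}, Z⁻¹ * a * Z = 1 → a = 1 := fun {a} h => by
    calc a = Z * (Z⁻¹ * a * Z) * Z⁻¹ := by group
      _ = 1 := by rw [h]; group
  have hfree2 : ∀ a ∈ K, Commute a e2 → a = 1 := fun a ha hc =>
    undo (hfree _ (hZiK a ha) (back a e1 e2 hZ1 hc))
  have hfree3 : ∀ a ∈ K, Commute a (e1 * e2) → a = 1 := fun a ha hc =>
    undo (hfree2 _ (hZiK a ha) (back a e2 (e1 * e2) hZ2 hc))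
  have ofree : ∀ {e : G}, e * e = 1 → (∀ a ∈ K, e * a * e ∈ K) → (∀ a ∈ K, Commute a e → a = 1) →
      ∀ a ∈ K, e * a * e = a⁻¹ := fun {e} he hK hf => EightThree.inverts_of_fpf he hK fun a ha e' => hf a ha (by
    show _ = _
    calc a * e = (e * a * e) * e := by rw [e']
      _ = e * a := by rw [mul_assoc, he, mul_one])
  have inv1 := ofree he1 h1K hfree
  have inv2 := ofree he2 h2K hfree2
  refine (eq_bot_iff_forall K).2 fun a ha => hfree3 a ha (EightThree.conj_eq_iff.1 ?_).symm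
  rw [mul_inv_rev, inv_eq_of_mul_eq_one_left he1, inv_eq_of_mul_eq_one_left he2]
  calc e1 * e2 * a * (e2 * e1) = e1 * (e2 * a * e2) * e1 := by group
    _ = e1 * a⁻¹ * e1 := by rw [inv2 a ha]
    _ = a := by rw [inv1 _ (inv_mem ha), inv_inv]

/-- The centraliser of an involution `c` lies in `H` if modulo `c` another involution `a` is isolated, its
stabiliser lies in `H`, and the invariant subgroups of odd order lie in `H`. -/
theorem centralizer_le_of_isolated {c a : G} {H : Subgroup G} (hc : c * c = 1) (hc1 : c ≠ 1) (ha : a * a = 1)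
    (hca : Commute a c) (ha1 : a ≠ 1) (hac : a ≠ c)
    (stab : ∀ x, Commute x c → (x * a * x⁻¹ = a ∨ x * a * x⁻¹ = c * a) → x ∈ H)
    (iso : ∀ g, Commute g c → (g * a * g⁻¹ * a * (g * a * g⁻¹)⁻¹ = a ∨ g * a * g⁻¹ * a * (g * a * g⁻¹)⁻¹ = c * a) →
      g * a * g⁻¹ = a ∨ g * a * g⁻¹ = c * a)
    (core : ∀ K : Subgroup G, (∀ k ∈ K, Commute k c) → (∀ g, Commute g c → ∀ k ∈ K, g * k * g⁻¹ ∈ K) →
      Odd (Nat.card K) → K ≤ H)
    {x : G} (hx : Commute x c) : x ∈ H := by
  classical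
  set M := centralizer ({c} : Set G) with hMdef
  have cM : ∀ y : M, Commute (y : G) c := fun y => (mem_centralizer_singleton_iff.1 y.2 :)
  set cC : M := ⟨c, mem_centralizer_singleton_iff.2 rfl⟩ with hcC
  set aC : M := ⟨a, mem_centralizer_singleton_iff.2 hca.eq⟩
  haveI hNn : (zpowers cC).Normal := ⟨fun n hn y => by
    obtain ⟨i, rfl⟩ := mem_zpowers_iff.1 hn
    have : Commute y cC := Subtype.ext (cM y).eq
    rw [(this.zpow_right i).eq, mul_inv_cancel_right]
    exact zpow_mem (mem_zpowers _) i⟩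
  set q := QuotientGroup.mk' (zpowers cC)
  have hc2 : cC * cC = 1 := Subtype.ext hc
  have hker : ∀ y : M, q y = 1 → (y : G) = 1 ∨ (y : G) = c := by
    intro y hy
    obtain ⟨i, rfl⟩ := mem_zpowers_iff.1 ((QuotientGroup.eq_one_iff y).1 hy)
    rcases Int.even_or_odd i with ⟨j, rfl⟩ | ⟨j, rfl⟩
    · left; rw [zpow_add, ← (Commute.refl cC).mul_zpow, hc2, one_zpow]; rfl
    · right; rw [two_mul, zpow_add_one, zpow_add, ← (Commute.refl cC).mul_zpow, hc2, one_zpow, one_mul]
  have hqc : q cC = 1 := (QuotientGroup.eq_one_iff _).2 (mem_zpowers _)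
  have hcomm : ∀ y b : M, q y * q b = q b * q y →
      (y : G) * b * (y : G)⁻¹ = b ∨ (y : G) * b * (y : G)⁻¹ = c * b := by
    intro y b e
    have e' : q (y * b * y⁻¹ * b⁻¹) = 1 := by
      rw [map_mul, map_mul, map_mul, map_inv, map_inv, e, mul_inv_cancel_right, mul_inv_cancel]
    rcases hker _ e' with r | r
    · exact Or.inl (mul_inv_eq_one.1 r)
    · exact Or.inr (mul_inv_eq_iff_eq_mul.1 r)
  have hcH : c ∈ H := stab c (Commute.refl c) (Or.inl (by rw [hca.symm.eq, mul_inv_cancel_right]))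
  set t := q aC
  have tt : t * t = 1 := by rw [← map_mul, show aC * aC = 1 from Subtype.ext ha, map_one]
  have ht1 : t ≠ 1 := fun e => by
    rcases hker _ e with r | r
    exacts [ha1 r, hac r]
  have hiso : IsIsolatedInvolution t := by
    refine ⟨orderOf_eq_prime (by rw [pow_two]; exact tt) ht1, fun gq hcom => ?_⟩
    obtain ⟨g, rfl⟩ := QuotientGroup.mk'_surjective (zpowers cC) gq
    have h1 : q (g * aC * g⁻¹) * q aC = q aC * q (g * aC * g⁻¹) := by
      rw [map_mul, map_mul, map_inv]; exact hcom.eq.symm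
    rcases iso (g : G) (cM g) (hcomm (g * aC * g⁻¹) aC h1) with r | r
    · rw [← map_inv, ← map_mul, ← map_mul]
      exact congrArg q (Subtype.ext r)
    · rw [← map_inv, ← map_mul, ← map_mul, show g * aC * g⁻¹ = cC * aC from Subtype.ext r, map_mul, hqc, one_mul]
  set O := oddCore (M ⧸ zpowers cC) with hO
  haveI hOn : O.Normal := inferInstance
  have hOodd : Odd (Nat.card O) := CfsgLib.ZStar.odd_card_oddCore _
  -- the elements over the core lie in `H`
  set P := O.comap q with hP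
  have hcP : zpowers cC ≤ P := fun y hy => by
    rw [hP, mem_comap, show q y = 1 from (QuotientGroup.eq_one_iff _).2 hy]; exact one_mem _
  set Z0 := (zpowers cC).subgroupOf P with hZ0
  haveI : Z0.Normal := hNn.subgroupOf P
  have hordc : orderOf cC = 2 := by
    rw [← Subgroup.orderOf_coe, hcC]; exact orderOf_eq_prime (by rw [pow_two]; exact hc) hc1
  have hZc : Nat.card Z0 = 2 := by
    rw [Nat.card_congr (subgroupOfEquivOfLe hcP).toEquiv, Nat.card_zpowers, hordc]
  have hZi : Z0.index = Nat.card O := by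
    let r : P →* O := (q.comp P.subtype).codRestrict O fun y => y.2
    have hr : Function.Surjective r := by
      rintro ⟨y, hy⟩
      obtain ⟨b, rfl⟩ := QuotientGroup.mk'_surjective (zpowers cC) y
      exact ⟨⟨b, hy⟩, rfl⟩
    have hk : r.ker = Z0 := by
      ext y
      exact ⟨fun h => mem_subgroupOf.2 ((QuotientGroup.eq_one_iff (y : M)).1 (congrArg Subtype.val (MonoidHom.mem_ker.1 h))),
        fun h => MonoidHom.mem_ker.2 (Subtype.ext ((QuotientGroup.eq_one_iff _).2 h))⟩
    rw [← hk, index_ker, MonoidHom.range_eq_top.2 hr, card_top]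
  obtain ⟨K0, hK0⟩ := Subgroup.exists_right_complement'_of_coprime (N := Z0)
    (by rw [hZc, hZi]; exact Nat.coprime_two_left.2 hOodd)
  have hK0c : Odd (Nat.card K0) := by
    have := hK0.symm.index_eq_card
    rw [hZi] at this
    rw [← this]; exact hOodd
  have hoddmem : ∀ y : P, Odd (orderOf y) → y ∈ K0 := by
    intro y hy
    obtain ⟨⟨⟨a0, ha0⟩, ⟨k0, hk0⟩⟩, he⟩ := hK0.2 y
    have he' : a0 * k0 = y := he
    obtain ⟨i, hi⟩ := mem_zpowers_iff.1 (mem_subgroupOf.1 ha0)
    have hcom : Commute a0 k0 := by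
      apply Subtype.ext
      apply Subtype.ext
      show ((a0 : M) : G) * ((k0 : M) : G) = ((k0 : M) : G) * ((a0 : M) : G)
      rw [← hi, SubgroupClass.coe_zpow]
      exact ((cM (k0 : M)).symm.zpow_left i).eq
    have h1 : a0 ^ orderOf y * k0 ^ orderOf y = 1 := by rw [← hcom.mul_pow, he', pow_orderOf_eq_one]
    have h2 : a0 ^ orderOf y ∈ K0 := by
      rw [mul_eq_one_iff_eq_inv.1 h1]; exact inv_mem (pow_mem hk0 _)
    have h3 : a0 ^ orderOf y = 1 := (disjoint_def.1 hK0.disjoint) (pow_mem ha0 _) h2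
    have h4 : a0 ^ 2 = 1 := by
      have := pow_card_eq_one' (G := Z0) (x := ⟨a0, ha0⟩)
      rw [hZc] at this
      exact congrArg Subtype.val this
    have h5 : a0 = 1 := by
      obtain ⟨j, hj⟩ := hy
      rw [hj, pow_succ, pow_mul, h4, one_pow, one_mul] at h3
      exact h3
    rw [← he', h5, one_mul]; exact hk0
  set K : Subgroup G := (K0.map P.subtype).map M.subtype with hK
  have hKH : K ≤ H := by
    refine core K ?_ ?_ ?_
    · rintro _ ⟨_, ⟨k, hk, rfl⟩, rfl⟩; exact cM (k : M)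
    · rintro g hg _ ⟨_, ⟨k, hk, rfl⟩, rfl⟩
      set gC : M := ⟨g, mem_centralizer_singleton_iff.2 hg.eq⟩
      have hmem : gC * (k : M) * gC⁻¹ ∈ P := by
        show q _ ∈ O
        rw [map_mul, map_mul, map_inv]; exact hOn.conj_mem _ k.2 _
      refine ⟨_, ⟨⟨_, hmem⟩, hoddmem _ ?_, rfl⟩, rfl⟩
      rw [orderOf_mk, EightThree.orderOf_conj', Subgroup.orderOf_coe]
      exact hK0c.of_dvd_nat (Subgroup.orderOf_dvd_natCard _ hk)
    · rwa [hK, card_map_of_injective M.subtype_injective, card_map_of_injective P.subtype_injective]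
  have hPH : ∀ y : M, y ∈ P → (y : G) ∈ H := by
    intro y hy
    obtain ⟨⟨⟨a0, ha0⟩, ⟨k0, hk0⟩⟩, he⟩ := hK0.2 ⟨y, hy⟩
    obtain ⟨i, hi⟩ := mem_zpowers_iff.1 (mem_subgroupOf.1 ha0)
    have he' : ((a0 : M) : G) * ((k0 : M) : G) = (y : G) :=
      congrArg (fun t : P => ((t : M) : G)) (show a0 * k0 = ⟨y, hy⟩ from he)
    rw [← he', ← hi, SubgroupClass.coe_zpow]
    exact mul_mem (zpow_mem hcH i) (hKH ⟨_, ⟨k0, hk0, rfl⟩, rfl⟩)
  -- conclusion
  set gC : M := ⟨x, mem_centralizer_singleton_iff.2 hx.eq⟩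
  set o := t * q gC * t⁻¹ * (q gC)⁻¹ with ho
  have hoO : o ∈ O := CfsgLib.ZStar.mem_oddCore_of_isolated hiso (q gC)
  have hti : t⁻¹ = t := inv_eq_of_mul_eq_one_left tt
  have hgt : q gC * t * (q gC)⁻¹ = t * o := by
    rw [ho, hti]
    calc q gC * t * (q gC)⁻¹ = (t * t) * q gC * t * (q gC)⁻¹ := by rw [tt, one_mul]
      _ = _ := by group
  have hto : t * o * t = o⁻¹ := by
    refine eq_inv_of_mul_eq_one_left ?_
    have h2 : (q gC * t * (q gC)⁻¹) * (q gC * t * (q gC)⁻¹) = 1 := by rw [conj_mul, tt, mul_one, mul_inv_cancel]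
    rw [hgt] at h2
    calc t * o * t * o = t * o * (t * o) := by group
      _ = 1 := h2
  obtain ⟨i, hi⟩ := hOodd.of_dvd_nat (Subgroup.orderOf_dvd_natCard _ hoO)
  have hconj : (o ^ (i + 1))⁻¹ * t * o ^ (i + 1) = t * o := by
    rw [conj_by_pow tt hto, show 2 * (i + 1) = orderOf o + 1 by omega, pow_succ, pow_orderOf_eq_one, one_mul]
  obtain ⟨oM, hoM⟩ := QuotientGroup.mk'_surjective (zpowers cC) (o ^ (i + 1))
  have hoP : oM ∈ P := by rw [hP, mem_comap, show q oM = _ from hoM]; exact pow_mem hoO _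
  set yC := oM * gC with hyC
  have hyt : q yC * q aC = q aC * q yC := by
    rw [hyC, map_mul, show q oM = _ from hoM]
    calc o ^ (i + 1) * q gC * t = o ^ (i + 1) * (q gC * t * (q gC)⁻¹) * q gC := by group
      _ = o ^ (i + 1) * ((o ^ (i + 1))⁻¹ * t * o ^ (i + 1)) * q gC := by rw [hgt, hconj]
      _ = t * (o ^ (i + 1) * q gC) := by group
  have hyH : (yC : G) ∈ H := stab _ (cM yC) (hcomm yC aC hyt)
  have := mul_mem (inv_mem (hPH oM hoP)) hyH
  rwa [hyC, Subgroup.coe_mul, inv_mul_cancel_left] at this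

end CfsgLib.Recog.EightThreeSym
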