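import Cfsg.Agent.Lib.Recog.EightThreeSym.AltA
import Cfsg.Agent.Lib.Recog.EightThreeSym.ModelA
import Cfsg.Agent.Lib.Recog.EightThreeSym.Tools

/-!
Owner: helper10. The embedded `S₈` is the whole group.
-/

set_option autoImplicit false
set_option linter.all false
set_option synthInstance.maxSize 1000

namespace CfsgLib.Recog.EightThreeSym

open Subgroup Equiv CfsgLib.Recog.EightThree
open scoped Pointwise

universe u

variable {G : Type u} [Group G] [Finite G] {B : Base G}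

namespace Emb8

variable (E : Emb8 B)

include E

/-- The embedded symmetric group. -/
abbrev H : Subgroup G := E.F.range

theorem F_mem (x : S8) : E.F x ∈ E.H := ⟨x, rfl⟩

theorem F_U : E.F U8 = B.φ pu := E.agree pu
theorem F_V : E.F V8 = B.φ pv := E.agree pv
theorem F_Z : E.F Z8 = B.z := E.agree pz
theorem F_W : E.F W8 = B.w := E.agree pw
theorem F_M : E.F M8 = B.m := E.agree pm
theorem F_S : E.F S34 = B.sig := by rw [fx_reps.2.2.2.2.1]; exact E.agree psig

theorem F_commute {x y : S8} (h : x * y = y * x) : Commute (E.F x) (E.F y) := by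
  show _ = _
  rw [← map_mul, ← map_mul, h]

theorem commute_of_F {x y : S8} (h : Commute (E.F x) (E.F y)) : x * y = y * x :=
  E.inj (by rw [map_mul, map_mul]; exact h.eq)

theorem F_sq {x : S8} (h : x * x = 1) : E.F x * E.F x = 1 := by rw [← map_mul, h, map_one]

theorem F_ne_one {x : S8} (h : x ≠ 1) : E.F x ≠ 1 := fun e => h (E.inj (e.trans (map_one E.F).symm))

theorem φ_mem (p : Pair) : B.φ p ∈ E.H := ⟨iota p, E.agree p⟩

theorem g_mem : B.g ∈ E.H := by
  obtain ⟨-, -, -, -, -, -, -, hc, -⟩ := fx_reps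
  set y := (E.F T2)⁻¹ * B.g with hy
  have hyz : y * B.z * y⁻¹ = B.z := by
    have h1 : E.F T2 * B.z * (E.F T2)⁻¹ = B.w := by rw [← E.F_Z, ← map_inv, ← map_mul, ← map_mul, hc, E.F_W]
    calc y * B.z * y⁻¹ = (E.F T2)⁻¹ * (B.g * B.z * B.g⁻¹) * E.F T2 := by rw [hy]; group
      _ = (E.F T2)⁻¹ * (E.F T2 * B.z * (E.F T2)⁻¹) * E.F T2 := by rw [h1, B.g_inv, show B.g * B.z * B.g = B.w from B.gz]
      _ = B.z := by group
  obtain ⟨p, hp⟩ := B.exists_of_normalizes (Or.inl hyz)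
  have := mul_mem (E.F_mem T2) (E.φ_mem p)
  rwa [hp, hy, mul_inv_cancel_left] at this

theorem mem_of_commute_z {x : G} (hx : Commute x B.z) : x ∈ E.H := by
  obtain ⟨p, -, rfl⟩ := B.exists_of_commute_z hx; exact E.φ_mem p

theorem cg_mem {x : G} (hx : x ∈ E.H) : B.cg x ∈ E.H := mul_mem (mul_mem E.g_mem hx) E.g_mem

theorem mem_of_commute_w {x : G} (hx : Commute x B.w) : x ∈ E.H := by
  obtain ⟨p, -, rfl⟩ := B.exists_of_commute_w hx; exact E.cg_mem (E.φ_mem p)

theorem CV_le : B.CV ≤ E.H :=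
  B.CV_le_of E.H (fun _ _ h => E.mem_of_commute_z h) (fun _ _ h => E.mem_of_commute_w h)

/-- Representatives are not fused. -/
theorem u_not_sig (k : G) : k * B.sig * k⁻¹ ≠ E.F U8 := by
  rw [E.F_U]; exact B.not_conj_sig (by decide +kernel) (by decide +kernel) k

theorem three_not_sig {x : S8} (h : x * x = 1) (hm : x * M8 = M8 * x) (hne : x ≠ S34) (k : G) :
    k * B.sig * k⁻¹ ≠ E.F x :=
  B.card_sig_three (E.F_sq h) (E.F_M ▸ E.F_commute hm) (fun e => hne (E.inj (e.trans E.F_S.symm))) k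

theorem u_not_three {x : S8} (hm : x * M8 = M8 * x) (k : G) : k * E.F U8 * k⁻¹ ≠ E.F x := by
  intro e
  refine B.not_conj_mixed (x := E.F U8) (E.F_sq (by decide +kernel)) (E.F_ne_one (by decide +kernel)) ?_
    E.u_not_sig k ?_
  · rw [← E.F_Z]; exact E.F_commute (by decide +kernel)
  · rw [e, ← E.F_M]; exact E.F_commute hm

theorem conj_rep {n : ℕ} {r y : S8} (hr : Fx n r) (hy : Fx n y) : ∃ k ∈ E.H, k * E.F r * k⁻¹ = E.F y := by
  obtain ⟨h, hh⟩ := hr.isConj hy
  exact ⟨E.F h, E.F_mem h, by rw [← map_inv, ← map_mul, ← map_mul, hh]⟩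

theorem rep_cases {y : S8} (hy : y * y = 1) (h1 : y ≠ 1) :
    ∃ k : G, (k * B.sig * k⁻¹ = E.F y ∧ Fx 6 y) ∨ (k * E.F U8 * k⁻¹ = E.F y ∧ UT y) ∨
      (k * E.F T2 * k⁻¹ = E.F y ∧ Fx 2 y) ∨ (k * E.F T8 * k⁻¹ = E.F y ∧ Fx 0 y) := by
  obtain ⟨r6, r4, r2, r0, -⟩ := fx_reps
  rcases fx_cases hy h1 with h | h | h | h
  · obtain ⟨k, -, hk⟩ := E.conj_rep r6 h
    exact ⟨k, Or.inl ⟨E.F_S ▸ hk, h⟩⟩
  · obtain ⟨k, -, hk⟩ := E.conj_rep r4 h
    exact ⟨k, Or.inr (Or.inl ⟨hk, h⟩)⟩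
  · obtain ⟨k, -, hk⟩ := E.conj_rep r2 h
    exact ⟨k, Or.inr (Or.inr (Or.inl ⟨hk, h⟩))⟩
  · obtain ⟨k, -, hk⟩ := E.conj_rep r0 h
    exact ⟨k, Or.inr (Or.inr (Or.inr ⟨hk, h⟩))⟩

theorem invol_of_conj {y : S8} {r : G} (hr : r * r = 1) (hr1 : r ≠ 1) {g : G} (he : g * r * g⁻¹ = E.F y) :
    y * y = 1 ∧ y ≠ 1 := by
  refine ⟨E.inj (by rw [map_mul, ← he, conj_sq hr, map_one]), fun e => ?_⟩
  rw [e, map_one] at he
  exact hr1 (conj_eq_one_iff.1 he)

theorem UT_of_conj {y : S8} (g : G) (he : g * E.F U8 * g⁻¹ = E.F y) : UT y := by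
  obtain ⟨-, -, -, -, -, -, -, -, hm2, -, -, hm0, -⟩ := fx_reps
  obtain ⟨h2, h1⟩ := E.invol_of_conj (E.F_sq (by decide +kernel)) (E.F_ne_one (by decide +kernel)) he
  obtain ⟨k, h | h | h | h⟩ := E.rep_cases h2 h1
  · refine absurd ?_ (E.u_not_sig (g⁻¹ * k))
    rw [show g⁻¹ * k * B.sig * (g⁻¹ * k)⁻¹ = g⁻¹ * (k * B.sig * k⁻¹) * g by group, h.1, ← he]; group
  · exact h.2
  · refine absurd ?_ (E.u_not_three hm2 (k⁻¹ * g))
    rw [show k⁻¹ * g * E.F U8 * (k⁻¹ * g)⁻¹ = k⁻¹ * (g * E.F U8 * g⁻¹) * k by group, he, ← h.1]; group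
  · refine absurd ?_ (E.u_not_three hm0 (k⁻¹ * g))
    rw [show k⁻¹ * g * E.F U8 * (k⁻¹ * g)⁻¹ = k⁻¹ * (g * E.F U8 * g⁻¹) * k by group, he, ← h.1]; group

theorem Fx6_of_conj {y : S8} (g : G) (he : g * B.sig * g⁻¹ = E.F y) : Fx 6 y := by
  obtain ⟨-, -, r2, r0, -, -, -, -, hm2, -, -, hm0, n2, n0⟩ := fx_reps
  obtain ⟨h2, h1⟩ := E.invol_of_conj B.sig_sq (E.F_S ▸ E.F_ne_one fx_reps.2.2.2.2.2.2.2.2.2.1) he
  obtain ⟨k, h | h | h | h⟩ := E.rep_cases h2 h1
  · exact h.2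
  · refine absurd ?_ (E.u_not_sig (k⁻¹ * g))
    rw [show k⁻¹ * g * B.sig * (k⁻¹ * g)⁻¹ = k⁻¹ * (g * B.sig * g⁻¹) * k by group, he, ← h.1]; group
  · refine absurd ?_ (E.three_not_sig r2.1 hm2 n2 (k⁻¹ * g))
    rw [show k⁻¹ * g * B.sig * (k⁻¹ * g)⁻¹ = k⁻¹ * (g * B.sig * g⁻¹) * k by group, he, ← h.1]; group
  · refine absurd ?_ (E.three_not_sig r0.1 hm0 n0 (k⁻¹ * g))
    rw [show k⁻¹ * g * B.sig * (k⁻¹ * g)⁻¹ = k⁻¹ * (g * B.sig * g⁻¹) * k by group, he, ← h.1]; group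

theorem centralizer_conj_le {r : G} (h : ∀ x, Commute x r → x ∈ E.H) {k : G} (hk : k ∈ E.H) {x : G}
    (hx : Commute x (k * r * k⁻¹)) : x ∈ E.H := by
  have := mul_mem (mul_mem hk (h _ (commute_conj_iff.1 hx))) (inv_mem hk)
  rwa [show k * (k⁻¹ * x * k) * k⁻¹ = x by group] at this

variable (hS : Nat.card (centralizer ({B.sig} : Set G)) = 1440)

include hS

theorem mem_of_commute_sig {x : G} (hx : Commute x B.sig) : x ∈ E.H := by
  have hle : (centralizer ({S34} : Set S8)).map E.F ≤ centralizer ({B.sig} : Set G) := by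
    rintro _ ⟨y, hy, rfl⟩
    refine mem_centralizer_singleton_iff.2 ?_
    rw [← E.F_S]; exact (E.F_commute (mem_centralizer_singleton_iff.1 hy)).eq
  have heq := eq_of_le_of_card_ge hle (by
    rw [hS, card_map_of_injective E.inj]; exact centralizer_S34)
  obtain ⟨y, -, rfl⟩ := heq ▸ (mem_centralizer_singleton_iff.2 hx.eq : x ∈ centralizer ({B.sig} : Set G))
  exact E.F_mem y

theorem mem_of_commute_transposition {T : S8} (hT : Fx 6 T) {x : G} (hx : Commute x (E.F T)) : x ∈ E.H := by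
  obtain ⟨k, hk, he⟩ := E.conj_rep fx_reps.1 hT
  rw [E.F_S] at he
  exact E.centralizer_conj_le (fun y hy => E.mem_of_commute_sig hS hy) hk (he.symm ▸ hx)

theorem mem_of_stab_u {x : G} (hu : Commute x (E.F U8))
    (hv : x * E.F V8 * x⁻¹ = E.F V8 ∨ x * E.F V8 * x⁻¹ = E.F U8 * E.F V8) : x ∈ E.H := by
  rcases hv with e | e
  · exact E.CV_le (B.mem_CV.2 ⟨E.F_U ▸ hu, E.F_V ▸ (EightThree.conj_eq_iff.1 e : Commute x (E.F V8))⟩)
  · obtain ⟨-, -, -, -, nu, nv, n2, -⟩ := around_u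
    set n := E.F N8
    have hnu : Commute n (E.F U8) := E.F_commute nu
    have hback : n * (E.F U8 * E.F V8) * n⁻¹ = E.F V8 := by
      rw [← map_inv, ← map_mul, ← map_mul, ← map_mul, ← nv]
      refine congrArg E.F ?_
      rw [show N8 * (N8 * V8 * N8⁻¹) * N8⁻¹ = (N8 * N8) * V8 * (N8 * N8)⁻¹ by group, n2]; group
    have hmem : n * x ∈ B.CV := by
      refine B.mem_CV.2 ⟨E.F_U ▸ hnu.mul_left hu, E.F_V ▸ (EightThree.conj_eq_iff.1 ?_ : Commute (n * x) (E.F V8))⟩
      rw [show n * x * E.F V8 * (n * x)⁻¹ = n * (x * E.F V8 * x⁻¹) * n⁻¹ by group, e, hback]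
    have := mul_mem (inv_mem (E.F_mem N8)) (E.CV_le hmem)
    rwa [inv_mul_cancel_left] at this

theorem isolated_u {g : G} (hgu : Commute g (E.F U8))
    (hw : g * E.F V8 * g⁻¹ * E.F V8 * (g * E.F V8 * g⁻¹)⁻¹ = E.F V8 ∨
      g * E.F V8 * g⁻¹ * E.F V8 * (g * E.F V8 * g⁻¹)⁻¹ = E.F U8 * E.F V8) :
    g * E.F V8 * g⁻¹ = E.F V8 ∨ g * E.F V8 * g⁻¹ = E.F U8 * E.F V8 := by
  obtain ⟨u2, v2, u1, uv, -⟩ := around_u
  obtain ⟨UU, UV, UUV, -⟩ := UT_U8
  set u := E.F U8 with hudef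
  set v := E.F V8 with hvdef
  have hcuv : Commute u v := E.F_commute uv
  have hgv : Commute (g * v * g⁻¹) u := by
    have := commute_conj (k := g) hcuv.symm
    rwa [hgu.eq, mul_inv_cancel_right] at this
  obtain ⟨w8, hwe⟩ := E.mem_of_stab_u hS hgv hw
  obtain ⟨k, -, hk⟩ := E.conj_rep (n := 4) UU UV
  obtain ⟨k', -, hk'⟩ := E.conj_rep (n := 4) UU UUV
  have hUw : UT w8 := E.UT_of_conj (g * k) (by
    rw [show g * k * u * (g * k)⁻¹ = g * (k * u * k⁻¹) * g⁻¹ by group, hk, hwe])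
  have hUuw : UT (U8 * w8) := E.UT_of_conj (g * k') (by
    rw [show g * k' * u * (g * k')⁻¹ = g * (k' * u * k'⁻¹) * g⁻¹ by group, hk', map_mul, map_mul, hwe]
    calc g * (u * v) * g⁻¹ = (g * u * g⁻¹) * (g * v * g⁻¹) := by group
      _ = u * (g * v * g⁻¹) := by rw [hgu.eq, mul_inv_cancel_right])
  have hwu : w8 * U8 = U8 * w8 := E.commute_of_F (by rw [hwe]; exact hgv)
  rcases four_transpositions hUw hwu hUuw with e | e | ⟨c, -, cU, ccu, ccw, cne, cwU, cuN⟩
  · exact Or.inl (by rw [← hwe, e])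
  · exact Or.inr (by rw [← hwe, e, map_mul])
  exfalso
  have h1 : Commute (g⁻¹ * E.F c * g) u := (hgu.inv_left.mul_left (E.F_commute ccu)).mul_left hgu
  have h2 : Commute (g⁻¹ * E.F c * g) v := commute_conj_iff.1 (hwe ▸ E.F_commute ccw)
  obtain ⟨c', hce⟩ := E.CV_le ((B.mem_CV (x := g⁻¹ * E.F c * g)).2 ⟨E.F_U ▸ h1, E.F_V ▸ h2⟩)
  obtain ⟨k1, -, hk1⟩ := E.conj_rep (n := 4) UU cU
  obtain ⟨k2, -, hk2⟩ := E.conj_rep (n := 4) UU cwU
  have a1 : UT c' := E.UT_of_conj (g⁻¹ * k1) (by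
    rw [hce, show g⁻¹ * k1 * u * (g⁻¹ * k1)⁻¹ = g⁻¹ * (k1 * u * k1⁻¹) * g by group, hk1])
  have a4 : UT (c' * V8) := E.UT_of_conj (g⁻¹ * k2) (by
    rw [map_mul, hce, show g⁻¹ * k2 * u * (g⁻¹ * k2)⁻¹ = g⁻¹ * (k2 * u * k2⁻¹) * g by group, hk2, map_mul, hwe]
    group
    rfl)
  have a3 : c' ≠ U8 := by
    intro e
    apply cne
    apply E.inj
    rw [e] at hce
    calc E.F c = g * (g⁻¹ * E.F c * g) * g⁻¹ := by group
      _ = u := by rw [← hce, hgu.eq, mul_inv_cancel_right]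
  have a5 := no_four_transpositions a1 (E.commute_of_F (hce ▸ h1)) (E.commute_of_F (hce ▸ h2)) a3 a4
  obtain ⟨k3, -, hk3⟩ := E.conj_rep (n := 4) UU a5
  refine cuN (E.UT_of_conj (g * k3) ?_)
  rw [show g * k3 * u * (g * k3)⁻¹ = g * (k3 * u * k3⁻¹) * g⁻¹ by group, hk3, map_mul, hce, map_mul]
  calc g * (g⁻¹ * E.F c * g * u) * g⁻¹ = E.F c * (g * u * g⁻¹) := by group
    _ = E.F c * u := by rw [hgu.eq, mul_inv_cancel_right]

theorem core_u (K : Subgroup G) (hKu : ∀ k ∈ K, Commute k (E.F U8))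
    (hKn : ∀ g, Commute g (E.F U8) → ∀ k ∈ K, g * k * g⁻¹ ∈ K) (hodd : Odd (Nat.card K)) : K ≤ E.H := by
  classical
  haveI := Fact.mk Nat.prime_three
  obtain ⟨u2, v2, u1, uv, -, -, -, zu, zv, e1u, e2u, e1v, e2v⟩ := around_u
  obtain ⟨q1, q2, q12, qc2, qc1, qm1, -, -, -, -, qk3, qk4⟩ := four_prime
  obtain ⟨rot, q12', qE2, q2u⟩ := four_rot
  set u := E.F U8 with hudef
  have hZ3 : E.F Z8 * E.F Z8 * E.F Z8 = 1 := by rw [E.F_Z]; exact B.z_cube
  have conjK : ∀ {y : S8}, y * U8 = U8 * y → ∀ k ∈ K, E.F y * k * (E.F y)⁻¹ ∈ K := fun hy k hk =>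
    hKn _ (E.F_commute hy) k hk
  have conjI : ∀ {y : S8}, y * U8 = U8 * y → y * y = 1 → ∀ k ∈ K, E.F y * k * E.F y ∈ K := fun hy hy2 k hk => by
    have := conjK hy k hk
    rwa [inv_eq_of_mul_eq_one_left (E.F_sq hy2)] at this
  have hoddel : ∀ k ∈ K, Odd (orderOf k) := fun k hk => hodd.of_dvd_nat (Subgroup.orderOf_dvd_natCard _ hk)
  have hzK : B.z ∉ K := by
    intro hz
    have h1 := K.mul_mem hz (conjI e1u q1 _ (K.inv_mem hz))
    have e : B.z * (E.F E1 * B.z⁻¹ * E.F E1) = E.F (Z8 * E1 * Z8⁻¹ * E1) := by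
      rw [← E.F_Z]; simp only [map_mul, map_inv]; group
    rw [e] at h1
    exact E.F_ne_one qc1 (CfsgLib.ZStar.eq_one_of_odd_of_sq (hoddel _ h1) (by rw [pow_two]; exact E.F_sq qc2))
  have h3K : ¬ 3 ∣ Nat.card K := by
    intro h3
    obtain ⟨⟨a, ha⟩, hoa⟩ := exists_prime_orderOf_dvd_card' (G := K) 3 h3
    rw [← Subgroup.orderOf_coe] at hoa
    set C := centralizer ({u} : Set G) with hC
    have haC : a ∈ C := mem_centralizer_singleton_iff.2 (hKu a ha).eq
    have hzC : B.z ∈ C := mem_centralizer_singleton_iff.2 (by rw [← E.F_Z]; exact (E.F_commute zu).eq)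
    have hfac : (Nat.card C).factorization 3 = 1 := by
      have hne : Nat.card C ≠ 0 := Nat.card_pos.ne'
      have h3 : 3 ^ 1 ∣ Nat.card C := by
        rw [pow_one, ← B.orderOf_z]; exact Subgroup.orderOf_dvd_natCard _ hzC
      have a' := (Nat.prime_three.pow_dvd_iff_le_factorization hne).1 h3
      by_contra hb
      obtain ⟨j, hj⟩ := B.conj_sig_of_nine (E.F_sq u2) (E.F_ne_one u1)
        ((Nat.prime_three.pow_dvd_iff_le_factorization (k := 2) hne).2 (by omega))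
      exact E.u_not_sig j hj
    obtain ⟨⟨c, hcC⟩, hc⟩ := MulAction.exists_smul_eq C
      (Sylow.ofCard (zpowers (⟨a, haC⟩ : C)) (by rw [Nat.card_zpowers, orderOf_mk, hoa, hfac, pow_one]))
      (Sylow.ofCard (zpowers (⟨B.z, hzC⟩ : C)) (by rw [Nat.card_zpowers, orderOf_mk, B.orderOf_z, hfac, pow_one]))
    have hmem : (⟨B.z, hzC⟩ : C) ∈ MulAut.conj (⟨c, hcC⟩ : C) • zpowers (⟨a, haC⟩ : C) := by
      rw [show MulAut.conj (⟨c, hcC⟩ : C) • zpowers (⟨a, haC⟩ : C) = zpowers (⟨B.z, hzC⟩ : C) from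
        congrArg Sylow.toSubgroup hc]
      exact mem_zpowers _
    obtain ⟨b, hb, hbe⟩ := hmem
    obtain ⟨i, rfl⟩ := mem_zpowers_iff.1 hb
    refine hzK ?_
    have hval := congrArg Subtype.val hbe
    simp at hval
    rw [← hval]
    exact hKn c (mem_centralizer_singleton_iff.1 hcC :) _ (K.zpow_mem ha i)
  have inside : ∀ k ∈ K, k ∈ E.H → k = 1 := by
    intro k hk hkH
    obtain ⟨y, rfl⟩ := hkH
    have h12 : E.F y ^ 12 = 1 := by rw [← map_pow, pow_twelve (E.commute_of_F (hKu _ hk)), map_one]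
    have hd := orderOf_dvd_of_pow_eq_one h12
    have ho := hoddel _ hk
    have h3 : ¬ 3 ∣ orderOf (E.F y) := fun e => h3K (e.trans (Subgroup.orderOf_dvd_natCard _ hk))
    refine orderOf_eq_one_iff.1 ?_
    have hle := Nat.le_of_dvd (by norm_num) hd
    obtain ⟨j, hj⟩ := ho
    interval_cases hn : orderOf (E.F y) <;> omega
  have hbot : K = ⊥ := by
    refine A4_core_trivial hodd (v := E.F V8) (e1 := E.F E1) (e2 := E.F (Z8 * E1 * Z8⁻¹)) (Z := E.F Z8)
      (E.F_sq v2) (E.F_sq q1) ?_ ?_ hZ3 (by rw [← map_inv, ← map_mul, ← map_mul])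
      (by rw [← map_inv, ← map_mul, ← map_mul, ← map_mul, rot]) (conjI uv.symm v2) (conjI e1u q1)
      (conjK zu) ?_ ?_ ?_
    · rw [← map_mul, show Z8 * E1 * Z8⁻¹ * (Z8 * E1 * Z8⁻¹) = Z8 * (E1 * E1) * Z8⁻¹ by group, q1, mul_one,
        mul_inv_cancel, map_one]
    · exact E.F_commute q12'.symm
    · intro k hk hc
      exact inside k hk (E.mem_of_commute_z (E.F_Z ▸ hc))
    · intro k hk hc
      exact inside k hk (E.CV_le (B.mem_CV.2 ⟨E.F_U ▸ hKu k hk, E.F_V ▸ hc⟩))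
    · intro k hk c1 c2'
      refine inside k hk ?_
      have c2 : Commute k (E.F E2) := by
        rcases qE2 with e | e <;> rw [e]
        · exact c2'
        · rw [map_mul]; exact c1.mul_right c2'
      have hmem : ∀ y ∈ [E1, E2, E1 * E2], Commute k (E.F y) := by
        intro y hy
        simp only [List.mem_cons, List.not_mem_nil, or_false] at hy
        rcases hy with rfl | rfl | rfl
        exacts [c1, c2, by rw [map_mul]; exact c1.mul_right c2]
      have pull' : ∀ y, K8 * y * K8⁻¹ ∈ [E1, E2, E1 * E2] → Commute ((E.F K8)⁻¹ * k * E.F K8) (E.F y) := by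
        intro y hm
        have h0 := hmem _ hm
        rw [map_mul, map_mul, map_inv] at h0
        exact commute_conj_iff.1 h0
      have := mul_mem (mul_mem (E.F_mem K8)
        (E.CV_le (B.mem_CV.2 ⟨E.F_U ▸ pull' U8 qk3, E.F_V ▸ pull' V8 qk4⟩))) (inv_mem (E.F_mem K8))
      rwa [show E.F K8 * ((E.F K8)⁻¹ * k * E.F K8) * (E.F K8)⁻¹ = k by group] at this
  rw [hbot]; exact bot_le

theorem mem_of_commute_u {x : G} (hx : Commute x (E.F U8)) : x ∈ E.H := by
  obtain ⟨u2, v2, u1, uv, -⟩ := around_u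
  exact centralizer_le_of_isolated (E.F_sq u2) (E.F_ne_one u1) (E.F_sq v2) (E.F_commute uv.symm)
    (E.F_ne_one (by decide +kernel)) (fun e => absurd (E.inj e) (by decide +kernel))
    (fun y hy hv => E.mem_of_stab_u hS hy hv) (fun g hg hw => E.isolated_u hS hg hw)
    (fun K a b c => E.core_u hS K a b c) hx

theorem mem_of_commute_UT {T : S8} (hT : UT T) {x : G} (hx : Commute x (E.F T)) : x ∈ E.H := by
  obtain ⟨k, hk, he⟩ := E.conj_rep (n := 4) UT_U8.1 hT
  exact E.centralizer_conj_le (fun y hy => E.mem_of_commute_u hS hy) hk (he.symm ▸ hx)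

theorem mem_of_commute_T2 {x : G} (hx : Commute x (E.F T2)) : x ∈ E.H := by
  classical
  obtain ⟨r6, -, r2, r0, -, sc, sT, -, hm2, s1, t1, hm0, n2, n0⟩ := fx_reps
  obtain ⟨a2, b2, ab, fa, fb, fab⟩ := four_T2
  have notσ : ∀ k : G, k * B.sig * k⁻¹ ≠ E.F T2 * E.F S34 := fun k => by
    rw [← map_mul, sT]; exact E.three_not_sig r0.1 hm0 n0 k
  refine centralizer_le_of_isolated (E.F_sq r2.1) (E.F_ne_one t1) (E.F_sq r6.1) (E.F_commute sc)
    (E.F_ne_one s1) (fun e => n2 (E.inj e).symm) ?_ ?_ ?_ hx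
  · intro y hy hs
    rcases hs with e | e
    · exact E.mem_of_commute_sig hS (E.F_S ▸ EightThree.conj_eq_iff.1 e)
    · refine absurd ?_ (notσ y)
      rw [← E.F_S]; exact e
  · intro g hg hs
    rcases hs with e | e
    swap
    · refine absurd ?_ (notσ (g * E.F S34 * g⁻¹))
      rw [← E.F_S]; exact e
    have hc : Commute (g * E.F S34 * g⁻¹) (E.F S34) := EightThree.conj_eq_iff.1 e
    obtain ⟨T, hT⟩ := E.mem_of_commute_sig hS (x := g * E.F S34 * g⁻¹) (by rw [← E.F_S]; exact hc)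
    have hfx : Fx 6 T := E.Fx6_of_conj g (by rw [hT, E.F_S])
    have hcT : Commute (E.F T) (E.F T2) := by
      rw [hT]
      have := commute_conj (k := g) (E.F_commute sc)
      rwa [hg.eq, mul_inv_cancel_right] at this
    rcases near_T2 hfx (E.commute_of_F (hT.symm ▸ hc)) (E.commute_of_F hcT) with r | r
    · exact Or.inl (by rw [← hT, r])
    · exfalso
      obtain ⟨k, -, hk⟩ := E.conj_rep (n := 4) UT_U8.1 r
      refine E.u_not_three hm0 (g⁻¹ * k) ?_
      rw [show g⁻¹ * k * E.F U8 * (g⁻¹ * k)⁻¹ = g⁻¹ * (k * E.F U8 * k⁻¹) * g by group, hk, map_mul, hT, ← sT,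
        map_mul]
      calc g⁻¹ * (E.F T2 * (g * E.F S34 * g⁻¹)) * g = (g⁻¹ * E.F T2 * g) * E.F S34 := by group
        _ = E.F T2 * E.F S34 := by rw [mul_assoc g⁻¹, ← hg.eq, inv_mul_cancel_left]
  · intro K hK hKn hodd
    set a := E.F (swap 0 5) with hadef
    set b := E.F (swap 1 6) with hbdef
    have aa : a * a = 1 := E.F_sq fa.1
    have bb : b * b = 1 := E.F_sq fb.1
    have cab : Commute a b := E.F_commute ab
    let A : Subgroup G :=
      { carrier := {y | y = 1 ∨ y = a ∨ y = b ∨ y = a * b}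
        one_mem' := Or.inl rfl
        mul_mem' := by
          have hba : b * a = a * b := cab.symm.eq
          have h1 : a * (a * b) = b := by rw [← mul_assoc, aa, one_mul]
          have h2 : a * b * b = a := by rw [mul_assoc, bb, mul_one]
          have h3 : b * (a * b) = a := by rw [← mul_assoc, hba, h2]
          have h4 : a * b * a = b := by rw [mul_assoc, hba, h1]
          have h5 : a * b * (a * b) = 1 := by rw [← mul_assoc, h4, bb]
          rintro x y (rfl | rfl | rfl | rfl) (rfl | rfl | rfl | rfl) <;>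
            simp [aa, bb, hba, h1, h2, h3, h4, h5]
        inv_mem' := by
          rintro y (rfl | rfl | rfl | rfl)
          · exact Or.inl inv_one
          · exact Or.inr (Or.inl (inv_eq_of_mul_eq_one_left aa))
          · exact Or.inr (Or.inr (Or.inl (inv_eq_of_mul_eq_one_left bb)))
          · refine Or.inr (Or.inr (Or.inr ?_))
            rw [mul_inv_rev, inv_eq_of_mul_eq_one_left aa, inv_eq_of_mul_eq_one_left bb, cab.eq] }
    have amem : ∀ {y}, y ∈ A ↔ y = 1 ∨ y = a ∨ y = b ∨ y = a * b := Iff.rfl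
    haveI : IsMulCommutative A := ⟨⟨by
      rintro ⟨p, hp⟩ ⟨q, hq⟩
      have key : ∀ p, p ∈ A → Commute p a ∧ Commute p b := by
        intro p hp
        rcases amem.1 hp with rfl | rfl | rfl | rfl
        · exact ⟨Commute.one_left _, Commute.one_left _⟩
        · exact ⟨Commute.refl _, cab⟩
        · exact ⟨cab.symm, Commute.refl _⟩
        · exact ⟨(Commute.refl a).mul_left cab.symm, cab.mul_left (Commute.refl b)⟩
      apply Subtype.ext
      rcases amem.1 hq with e | e | e | e <;> subst e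
      · simp
      · exact (key p hp).1.eq
      · exact (key p hp).2.eq
      · exact ((key p hp).1.mul_right (key p hp).2).eq⟩⟩
    have hab1 : a ≠ b := fun e => absurd (E.inj e) (by decide +kernel)
    have hA4 : Nat.card A = 4 := by
      have e : (A : Set G) = {1, a, b, a * b} := by
        ext y; exact amem
      have na : a ≠ 1 := E.F_ne_one (fun e => absurd e (by decide +kernel))
      have nb : b ≠ 1 := E.F_ne_one (fun e => absurd e (by decide +kernel))
      have nab : a * b ≠ 1 := by rw [hadef, hbdef, ← map_mul]; exact E.F_ne_one (fun e => absurd e (by decide +kernel))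
      rw [← SetLike.coe_sort_coe, e, Nat.card_coe_set_eq]
      rw [Set.ncard_insert_of_notMem (by simp [na.symm, nb.symm, nab.symm]) (Set.toFinite _),
        Set.ncard_eq_three.2 ⟨a, b, a * b, hab1, fun e => nb (left_eq_mul.1 e), fun e => na (right_eq_mul.1 e), rfl⟩]
    have hncyc : ¬ IsCyclic A := by
      intro hc
      obtain ⟨⟨p, hp⟩, hgen⟩ := hc.exists_ofOrder_eq_natCard
      rw [hA4, orderOf_mk] at hgen
      have h2 : orderOf p ∣ 2 := orderOf_dvd_of_pow_eq_one (by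
        rw [pow_two]
        rcases amem.1 hp with rfl | rfl | rfl | rfl
        · exact one_mul 1
        · exact aa
        · exact bb
        · rw [cab.symm.mul_mul_mul_comm, aa, bb, one_mul])
      rw [hgen] at h2
      norm_num at h2
    have hAK : A ≤ normalizer (K : Set G) := by
      intro p hp
      refine map_conj_normalizer fun k hk => hKn p ?_ k hk
      rcases amem.1 hp with rfl | rfl | rfl | rfl
      · exact Commute.one_left _
      · exact E.F_commute a2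
      · exact E.F_commute b2
      · exact (E.F_commute a2).mul_left (E.F_commute b2)
    have hcop : (Nat.card A).Coprime (Nat.card K) := by
      rw [hA4, show (4 : ℕ) = 2 ^ 2 from rfl]
      exact Nat.Coprime.pow_left 2 (Nat.coprime_two_left.2 hodd)
    rw [← Cfsg.Agent.S0058.result A K hncyc hAK hcop]
    refine iSup₂_le ?_
    rintro p ⟨hp, hp1⟩ y ⟨-, hyc⟩
    have hcy : Commute y p := mem_centralizer_singleton_iff.1 hyc
    rcases amem.1 hp with rfl | rfl | rfl | rfl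
    · exact absurd rfl hp1
    · exact E.mem_of_commute_transposition hS fa hcy
    · exact E.mem_of_commute_transposition hS fb hcy
    · refine E.mem_of_commute_UT hS fab ?_
      rw [map_mul]; exact hcy

theorem eq_top : E.H = ⊤ := by
  refine eq_top_iff.2 fun g _ => ?_
  obtain ⟨u2, -, u1, -⟩ := around_u
  obtain ⟨r6, -, r2, -⟩ := fx_reps
  set x := g * E.F U8 * g⁻¹ with hx
  suffices hxH : x ∈ E.H by
    obtain ⟨y, hy⟩ := hxH
    obtain ⟨k, hk, hke⟩ := E.conj_rep (n := 4) UT_U8.1 (E.UT_of_conj g hy.symm)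
    have hc : Commute (k⁻¹ * g) (E.F U8) := by
      show _ = _
      calc k⁻¹ * g * E.F U8 = k⁻¹ * (g * E.F U8 * g⁻¹) * g := by group
        _ = k⁻¹ * (k * E.F U8 * k⁻¹) * g := by rw [hke, hy, hx]
        _ = E.F U8 * (k⁻¹ * g) := by group
    have := mul_mem hk (E.mem_of_commute_u hS hc)
    rwa [mul_inv_cancel_left] at this
  rcases pair_cases B.sig_sq (conj_sq (k := g) (E.F_sq u2)) with ⟨k, hk⟩ | ⟨r, hr2, hr1, hrs, hrx, hcase⟩
  · refine absurd ?_ (E.u_not_sig (g⁻¹ * k))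
    rw [show g⁻¹ * k * B.sig * (g⁻¹ * k)⁻¹ = g⁻¹ * (k * B.sig * k⁻¹) * g by group, hk]; group
  obtain ⟨y, rfl⟩ := E.mem_of_commute_sig hS hrs
  have hyc : y * S34 = S34 * y := E.commute_of_F (by rw [E.F_S]; exact hrs)
  have hy1 : y ≠ 1 := fun e => hr1 (by rw [e, map_one])
  have hprod : B.sig * E.F y = E.F (S34 * y) := by rw [map_mul, E.F_S]
  have hS34 : S34 * (S34 * y) = y := by rw [← mul_assoc, r6.1, one_mul]
  have hcS : (S34 * y) * S34 = S34 * (S34 * y) := by rw [mul_assoc, hyc]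
  rcases hcase with ⟨k, hk⟩ | ⟨k, hk⟩ <;> rw [hprod] at hk
  · have h6 := E.Fx6_of_conj k hk
    have hut := transposition_pair h6 hcS (fun e => hy1 (by rw [← hS34, e, r6.1]))
    rw [hS34] at hut
    exact E.mem_of_commute_UT hS hut hrx.symm
  · have hu := E.UT_of_conj (k * g) (by
      rw [show k * g * E.F U8 * (k * g)⁻¹ = k * (g * E.F U8 * g⁻¹) * k⁻¹ by group, hk])
    rcases mixed_pair hu hcS with h | h <;> rw [hS34] at h
    · exact E.mem_of_commute_transposition hS h hrx.symm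
    · obtain ⟨j, hj, hje⟩ := E.conj_rep r2 h
      exact E.centralizer_conj_le (fun z hz => E.mem_of_commute_T2 hS hz) hj (hje.symm ▸ hrx.symm)

end Emb8

/-- The first case of the characterisation. -/
theorem nonempty_sym8 (B : Base G) (hA : B.cg B.xx = B.φ ps) (ρ : normalizer (B.D9 : Set G) →* DihedralGroup 4)
    (hρs : Function.Surjective ρ)
    (hρk : ∀ x : normalizer (B.D9 : Set G), ρ x = 1 ↔ (x : G) ∈ centralizer (B.D9 : Set G)) :
    Nonempty (G ≃* S8) := by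
  classical
  obtain ⟨E⟩ := nonempty_emb8 B hA ρ hρs hρk
  rcases B.sigma_cases ρ hρs hρk with h | ⟨π, hπs, hπk⟩
  · exact (B.not_small_sigma hA ρ hρk h).elim
  have hk2 : Nat.card π.ker = 2 := by
    have hσ : B.sig ∈ centralizer ({B.sig} : Set G) := mem_centralizer_singleton_iff.2 rfl
    have e : (π.ker : Set (centralizer ({B.sig} : Set G))) = {1, ⟨B.sig, hσ⟩} := by
      ext c
      simp only [SetLike.mem_coe, MonoidHom.mem_ker, hπk, Set.mem_insert_iff, Set.mem_singleton_iff, Subtype.ext_iff,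
        OneMemClass.coe_one]
    rw [← SetLike.coe_sort_coe, e, Nat.card_coe_set_eq, Set.ncard_pair]
    intro he
    have := congrArg Subtype.val he
    exact basic_pairs.2.2.2.1 (B.inj (this.symm.trans (map_one B.φ).symm))
  have hS : Nat.card (centralizer ({B.sig} : Set G)) = 1440 := by
    rw [← π.ker.card_mul_index, hk2, index_ker, MonoidHom.range_eq_top.2 hπs, card_top, Nat.card_perm, Nat.card_fin]
    decide
  exact ⟨(MulEquiv.ofBijective E.F ⟨E.inj, MonoidHom.range_eq_top.1 (E.eq_top hS)⟩).symm⟩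

end CfsgLib.Recog.EightThreeSym
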