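import Cfsg.Agent.Lib.Recog.EightThreeSym.Model

/-!
Owner: helper10. Computations for the case in which the transposition of the first factor goes to a product of two
transpositions of the second.
-/

set_option autoImplicit false
set_option linter.all false
set_option synthInstance.maxSize 1000
set_option maxRecDepth 8000

namespace CfsgLib.Recog.EightThreeSym

open Equiv CfsgLib.Recog.EightThree

/-- The copy of `S₃` generated by `W` and `pf.2`. -/
def six : Finset S5 := {1, W, W * W, pf.2, pf.2 * W, pf.2 * (W * W)}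

def four : Finset S5 := {1, pu.2, pv.2, pu.2 * pv.2}

/-- Some words in `b`, `W` and `pf.2`. -/
def words (b : S5) : List S5 :=
  [b, b * b * b * W * pf.2 * b * pf.2, b * b * W * b * pf.2 * b * pf.2, b * b * b * b * pf.2 * b * pf.2,
    b * W * b * W * W, b * W * b * pf.2 * W, b * pf.2 * b * pf.2 * b * pf.2]

theorem six_words : ∀ b : S5, b ∉ six →
    ((words b).any fun x => decide (x = swap 0 1 ∨ (x * x * x * x * x = 1 ∧ x ≠ 1))) = true := by decide +kernel

theorem six_shape : ∀ b ∈ six, b = 1 ∨ b = W ∨ b = W * W ∨ b = pf.2 ∨ b = pf.2 * W ∨ b = pf.2 * (W * W) := by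
  decide +kernel

theorem four_mul : (1 : S5) ∈ four ∧
    (∀ a ∈ four, ∀ b ∈ four, a * b ∈ four) ∧ (∀ a ∈ four, a⁻¹ ∈ four) ∧
    (∀ a ∈ four, ((1, a) : Pair) * pu = pu * (1, a) ∧ ((1, a) : Pair) * pv = pv * (1, a)) ∧
    (∀ a ∈ four, a * W = W * a → a = 1) := by decide +kernel

theorem wline_not_four : pw * pu ≠ pu * pw ∧ pw * pw * pu ≠ pu * (pw * pw) := by decide +kernel

theorem z_relation_small : ∀ p : Pair, p.2 ∈ four → p * p = 1 → p ≠ 1 →
    p * (pz * p * pz⁻¹) * (pz * pz * p * (pz * pz)⁻¹) ≠ 1 := by decide +kernel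

theorem z_relation_big : ∀ a : S5, Perm.sign a = 1 → a * a = 1 → a ≠ 1 → a * swap 0 1 = swap 0 1 * a →
    a * (W * a * W⁻¹) * (W * W * a * (W * W)⁻¹) ≠ 1 := by decide +kernel

theorem pk_facts : pk * pk = 1 ∧ pk * pz = pz * pk ∧ pk * pf = pf * pk ∧ pk * psig * pk⁻¹ = ps ∧
    ph * pz = pz * ph ∧ ph * pxx = pxx * ph ∧ ph * pf * ph⁻¹ = pu ∧ ph * pk * ph⁻¹ = pv ∧
    ph * psig * ph⁻¹ = ps := by decide +kernel

theorem four_actions : pu * pu = 1 ∧ pv * pv = 1 ∧ pv * ps * pv = ps * pu ∧ pu * pv = pv * pu ∧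
    pw * pu * pw⁻¹ = pv ∧ pw * pv * pw⁻¹ = pu * pv ∧ ps * pu = pu * ps ∧ ps * pxx = pxx * ps ∧
    pu * pxx = pxx * pu ∧ pv * pxx = pxx * pv := by decide +kernel

theorem commutant_cases : ∀ r : Pair, r * pxx = pxx * r → r * pu = pu * r → r * ps = ps * r →
    pv * r * pv = r⁻¹ → r = 1 ∨ r = pu ∨ r = pxx ∨ r = pxx * pu := by decide +kernel

theorem no_shift : ∀ q : Pair, q * ps * q⁻¹ ≠ ps * pxx := by decide +kernel

theorem centralize_eight : ∀ q : Pair, q * pxx = pxx * q → q * pu = pu * q → q * pv = pv * q →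
    ∃ a ∈ ({1, pxx, pu, pxx * pu} : Finset Pair), q = a ∨ q = a * pv := by decide +kernel

theorem conj_to_xu : ∀ p ∈ ({pk * pxx, pk * (pxx * pf)} : Finset Pair), ∃ k : Pair, k * p * k⁻¹ = pxx * pu := by
  decide +kernel

theorem even_involution_three : ∀ p ∈ ({pk, pk * pf, pf, pu, pv} : Finset Pair), p * pz = pz * p ∧
    ∀ q : Pair, q * p = p * q → q * q * q = 1 → q * pz = pz * q → q.2 = 1 := by decide +kernel

end CfsgLib.Recog.EightThreeSym
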