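import Cfsg.Agent.Lib.Recog.EightThreeSym.ModelPair
import Cfsg.Agent.Lib.Recog.EightThreeSym.ModelB

/-!
Owner: helper10. Further computations with permutations of five letters.
-/

set_option autoImplicit false
set_option linter.all false
set_option synthInstance.maxSize 1000
set_option maxRecDepth 8000

namespace CfsgLib.Recog.EightThreeSym

open Equiv CfsgLib.Recog.EightThree

theorem around_u_five : psig * pk * psig⁻¹ = pf * pk ∧ psig * pf = pf * psig ∧ psig * psig = 1 ∧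
    U5 * V5 ≠ 1 ∧ U5 ≠ V5 ∧ W * pu.2 * W⁻¹ = pv.2 ∧ W * pv.2 * W⁻¹ = pu.2 * pv.2 ∧ pu.2 * pv.2 = pv.2 * pu.2 ∧
    pu.2 * pu.2 = 1 ∧ pv.2 * pv.2 = 1 ∧ ph * pf * ph⁻¹ = pu ∧ ph * pk * ph⁻¹ = pv ∧ ph * psig * ph⁻¹ = ps := by
  decide +kernel

theorem even_in_eight : ∀ b : S5, Perm.sign b = 1 → b * b = 1 → b ≠ 1 → b * U5 = U5 * b →
    b = U5 ∨ b = V5 ∨ b = U5 * V5 := by decide +kernel

theorem pow_eight : ∀ b : S5, b * U5 = U5 * b → b ^ 8 = 1 := by decide +kernel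

theorem even_noncentral : ∀ a : S5, Perm.sign a = 1 → a ≠ 1 → ∃ e, Perm.sign e = 1 ∧ e * a ≠ a * e := by
  decide +kernel

theorem eighteen_center : ∀ p ∈ eighteen, p * pxx = pxx * p → p * pf = pf * p → p * pu = pu * p → p = 1 := by
  decide +kernel

end CfsgLib.Recog.EightThreeSym
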