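import Cfsg.Agent.Lib.Recog.EightThreeSym.EmbB
import Cfsg.Agent.Lib.Recog.EightThreeSym.Tools
import Cfsg.Agent.Lib.Recog.EightThreeSym.ModelPairExtra
import Cfsg.Agent.Lib.Components.FStar

/-!
Owner: helper10. The second case: the group is `(A₅ × A₅).2²`.
-/

set_option autoImplicit false
set_option linter.all false
set_option synthInstance.maxSize 1000
set_option maxHeartbeats 800000

namespace CfsgLib.Recog.EightThreeSym

open Subgroup Equiv CfsgLib.Recog.EightThree
open scoped Pointwise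

universe u

variable {G : Type u} [Group G] [Finite G]

theorem conj_conj_eq {a b x : G} : a * (b * x * b⁻¹) * a⁻¹ = a * b * x * (a * b)⁻¹ := by group

namespace CaseB

variable {B : Base G} (E : CaseB B)

include E

theorem centralizer_conj_le {y : G} (hy : ∀ z, Commute z y → z ∈ E.H) {k x : G} (hk : k ∈ E.H)
    (hx : Commute x (k * y * k⁻¹)) : x ∈ E.H := by
  have := mul_mem (mul_mem hk (hy _ (commute_conj_iff.1 hx))) (inv_mem hk)
  rwa [show k * (k⁻¹ * x * k) * k⁻¹ = x by group] at this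

theorem mem_of_cg {y : G} (h : B.cg y ∈ E.H) : y ∈ E.H := by
  have := mul_mem (mul_mem E.g_mem_H h) E.g_mem_H
  rwa [← Base.cg_apply, B.cg_cg] at this

theorem CV_le : B.CV ≤ E.H :=
  B.CV_le_of E.H (fun _ _ h => E.mem_of_commute_z h) fun _ _ h => E.mem_of_commute_w h

theorem conj_mem_P {k y : G} (hk : k ∈ E.H) (hy : y ∈ E.P) : k * y * k⁻¹ ∈ E.P := by
  obtain ⟨q, hq, e | e⟩ := E.exists_of_mem_H hk <;> subst e
  · exact mul_mem (mul_mem (E.F_mem hq) hy) (inv_mem (E.F_mem hq))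
  · have := E.cg_mem_P (mul_mem (mul_mem (E.F_mem hq) hy) (inv_mem (E.F_mem hq)))
    rwa [Base.cg_apply, show B.g * (B.F q * y * (B.F q)⁻¹) * B.g = B.g * B.F q * y * (B.g * B.F q)⁻¹ by
      rw [mul_inv_rev, B.g_inv]; group] at this

theorem F_U_sq : B.F (1, U5) * B.F (1, U5) = 1 :=
  E.F_sq E.ev5_basic.1 (Prod.ext (one_mul _) basic_five.2.1)

theorem F_U_ne : B.F (1, U5) ≠ 1 := fun e => basic_five.2.2.1
  (congrArg Prod.snd (E.F_inj E.ev5_basic.1 ev5_one (e.trans B.F_one.symm)))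

/-- Elements centralising `(1, U5)` inside the subgroup. -/
theorem of_mem_H_commute_u {n : G} (hn : n ∈ E.H) (hu : Commute n (B.F (1, U5))) :
    ∃ p, Ev5 p ∧ p.2 * U5 = U5 * p.2 ∧ n = B.F p := by
  obtain ⟨uev, -⟩ := E.ev5_basic
  obtain ⟨⟨a', b'⟩, hq, e | e⟩ := E.exists_of_mem_H hn
  · exact ⟨_, hq, congrArg Prod.snd (E.F_inj (ev5_mul hq uev) (ev5_mul uev hq)
      (by rw [E.F_mul hq uev, E.F_mul uev hq, ← e]; exact hu.eq)), e⟩
  · exfalso
    have hc : ((a', b') : P5) * (1, U5) * (a', b')⁻¹ = (U5, 1) := by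
      refine E.F_inj (ev5_mul (ev5_mul hq uev) (ev5_inv hq)) (ev5_even basic_five.1 (map_one _)) ?_
      rw [E.F_conj hq uev, ← E.cg_F uev, Base.cg_apply]
      calc B.F (a', b') * B.F (1, U5) * (B.F (a', b'))⁻¹
          = B.g⁻¹ * (n * B.F (1, U5) * n⁻¹) * B.g := by rw [e]; group
        _ = B.g * B.F (1, U5) * B.g := by rw [hu.eq, mul_inv_cancel_right, B.g_inv]
    have h := congrArg Prod.fst hc
    simp only [Prod.fst_mul, Prod.fst_inv, mul_one, mul_inv_cancel] at h
    exact basic_five.2.2.1 h.symm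

/-- The members of the subgroup conjugate to `(1, U5)`. -/
theorem u_class {y : G} (hy : y ∈ E.H) (k : G) (hk : k * B.F (1, U5) * k⁻¹ = y) :
    ∃ p, Ev5 p ∧ y = B.F p ∧ p * p = 1 ∧
      ((p.1 = 1 ∧ p.2 ≠ 1 ∧ Perm.sign p.2 = 1) ∨ (p.2 = 1 ∧ p.1 ≠ 1 ∧ Perm.sign p.1 = 1)) := by
  have hy2 : y * y = 1 := hk ▸ conj_sq E.F_U_sq
  have hy1 : y ≠ 1 := fun e => E.F_U_ne (conj_eq_one_iff.1 (hk.trans e))
  have back : ∀ {j a : G}, j * a * j⁻¹ = y → j⁻¹ * k * B.F (1, U5) * (j⁻¹ * k)⁻¹ = a := fun {j a} e => by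
    rw [show j⁻¹ * k * B.F (1, U5) * (j⁻¹ * k)⁻¹ = j⁻¹ * (k * B.F (1, U5) * k⁻¹) * j by group, hk, ← e]; group
  rcases E.involution_cases hy hy2 hy1 with ⟨q, hq, e, q2, h⟩ | ⟨j, -, e | e⟩
  · refine ⟨q, hq, e, q2, ?_⟩
    rcases h with ⟨h1, h2, h3, -⟩ | ⟨h1, h2, h3, -⟩ | ⟨-, -, -, j, -, hj⟩ | ⟨-, j, -, hj⟩
    · exact Or.inl ⟨h1, h2, h3⟩
    · exact Or.inr ⟨h1, h2, h3⟩
    · exact absurd (back hj) (E.t_not_u _)
    · refine absurd ?_ (E.u_not_sig (j⁻¹ * k)⁻¹)
      rw [← back hj]; group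
  · exact absurd (back e) (E.u_not_mixed _).1
  · exact absurd (back e) (E.u_not_mixed _).2

theorem F_V : B.F (1, V5) = B.φ pk := B.F_right V5

theorem mem_of_stab_u {y : G} (hu : Commute y (B.F (1, U5))) (hv : Commute y (B.F (1, V5))) : y ∈ E.H := by
  obtain ⟨-, -, -, -, -, -, -, -, -, -, hf, hk, -⟩ := around_u_five
  have hh : B.φ ph ∈ E.H := E.P_le_H (E.φ_mem_P ph)
  have hm : B.φ ph * y * (B.φ ph)⁻¹ ∈ B.CV := by
    refine B.mem_CV.2 ⟨?_, ?_⟩
    · rw [show B.φ pu = B.φ ph * B.φ pf * (B.φ ph)⁻¹ by rw [← map_inv, ← map_mul, ← map_mul, hf], ← B.F_pf]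
      exact commute_conj hu
    · rw [show B.φ pv = B.φ ph * B.φ pk * (B.φ ph)⁻¹ by rw [← map_inv, ← map_mul, ← map_mul, hk], ← E.F_V]
      exact commute_conj hv
  have := mul_mem (mul_mem (inv_mem hh) (E.CV_le hm)) hh
  rwa [show (B.φ ph)⁻¹ * (B.φ ph * y * (B.φ ph)⁻¹) * B.φ ph = y by group] at this

theorem mem_of_commute_u {x : G} (hx : Commute x (B.F (1, U5))) : x ∈ E.H := by
  classical
  obtain ⟨sk, sf, s2, nUV, neUV, wu, wv, cuv, u2, v2, -⟩ := around_u_five
  obtain ⟨sU, U2, U1, sV, V2, V1, VU, cU, sc, -, -, su, sv, -⟩ := basic_five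
  obtain ⟨uev, -⟩ := E.ev5_basic
  have vev : Ev5 ((1, V5) : P5) := ev5_even (map_one _) sV
  have hcomm : Commute (B.F (1, V5)) (B.F (1, U5)) := E.F_commute vev uev (Prod.ext rfl VU)
  have hσH : B.sig ∈ E.H := E.mem_of_commute_sig (Commute.refl _)
  have stab : ∀ y, Commute y (B.F (1, U5)) →
      (y * B.F (1, V5) * y⁻¹ = B.F (1, V5) ∨ y * B.F (1, V5) * y⁻¹ = B.F (1, U5) * B.F (1, V5)) → y ∈ E.H := by
    intro y hy hs
    rcases hs with e | e
    · exact E.mem_of_stab_u hy (EightThree.conj_eq_iff.1 e)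
    · have hconj : B.sig * B.F (1, V5) * B.sig⁻¹ = B.F (1, U5) * B.F (1, V5) := by
        rw [E.F_V, B.F_pf, ← map_inv, ← map_mul, ← map_mul, sk, map_mul]
      have h1 : Commute B.sig (B.F (1, U5)) := by rw [B.F_pf]; exact B.φ_commute sf
      have := E.mem_of_stab_u (h1.inv_left.mul_left hy) (EightThree.conj_eq_iff.1 (by
        rw [show B.sig⁻¹ * y * B.F (1, V5) * (B.sig⁻¹ * y)⁻¹ = B.sig⁻¹ * (y * B.F (1, V5) * y⁻¹) * B.sig by group, e,
          ← hconj]
        group))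
      have := mul_mem hσH this
      rwa [mul_inv_cancel_left] at this
  obtain ⟨k0, hk0, hk0e⟩ : ∃ k, k ∈ E.H ∧ k * B.F (1, U5) * k⁻¹ = B.F (1, V5) := by
    obtain ⟨k, hk, he⟩ := (involution_five V5 V2 V1).1 sV
    exact ⟨_, E.F_mem_H (ev5_even (map_one _) hk : Ev5 ((1, k) : P5)), by
      rw [← E.F_conj (ev5_even (map_one _) hk) uev]; exact congrArg B.F (Prod.ext (by simp) he)⟩
  refine centralizer_le_of_isolated E.F_U_sq E.F_U_ne (E.F_sq vev (Prod.ext (one_mul _) V2)) hcomm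
    (fun e => V1 (congrArg Prod.snd (E.F_inj vev ev5_one (e.trans B.F_one.symm))))
    (fun e => neUV (congrArg Prod.snd (E.F_inj vev uev e)).symm) stab ?_ ?_ hx
  · intro n hn hs
    set w' := n * B.F (1, V5) * n⁻¹ with hw'
    have hwu : Commute w' (B.F (1, U5)) := (hn.mul_left hcomm).mul_left hn.inv_left
    have hwH : w' ∈ E.H := stab w' hwu hs
    obtain ⟨⟨a, b⟩, hp, he, hsq, hcase⟩ := E.u_class hwH (n * k0) (by rw [← conj_conj_eq, hk0e])
    rcases hcase with ⟨rfl, hb, sb⟩ | ⟨rfl, ha, sa⟩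
    · have hbU : b * U5 = U5 * b := congrArg Prod.snd (E.F_inj (ev5_mul hp uev) (ev5_mul uev hp)
        (by rw [E.F_mul hp uev, E.F_mul uev hp, ← he]; exact hwu.eq))
      rcases even_in_eight b sb (congrArg Prod.snd hsq) hb hbU with rfl | rfl | rfl
      · exfalso
        refine neUV (congrArg Prod.snd (E.F_inj vev uev ?_)).symm
        calc B.F (1, V5) = n⁻¹ * (n * B.F (1, V5) * n⁻¹) * n := by group
          _ = B.F (1, U5) := by rw [← hw', he, mul_assoc, ← hn.eq, inv_mul_cancel_left]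
      · exact Or.inl he
      · exact Or.inr (by rw [← E.F_mul uev vev, he, Prod.mk_mul_mk, one_mul])
    · exfalso
      have hk1 : B.φ psig * k0 * B.F (1, U5) * (B.φ psig * k0)⁻¹ = B.F (1, U5) * B.F (1, V5) := by
        rw [← conj_conj_eq, hk0e, E.F_V, B.F_pf, ← map_inv, ← map_mul, ← map_mul, sk, map_mul]
      have hev : Ev5 ((a, U5) : P5) := ev5_even sa sU
      have h1 : n * (B.φ psig * k0) * B.F (1, U5) * (n * (B.φ psig * k0))⁻¹ = B.F (a, U5) := by
        rw [← conj_conj_eq, hk1, ← conj_mul, hn.eq, mul_inv_cancel_right, ← hw', he, ← E.F_mul uev hp,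
          Prod.mk_mul_mk, one_mul, mul_one]
      obtain ⟨q, hq, hqe, -, hc⟩ := E.u_class (E.F_mem_H hev) _ h1
      obtain rfl := E.F_inj hev hq hqe
      rcases hc with ⟨e, -, -⟩ | ⟨e, -, -⟩
      exacts [ha e, U1 e]
  · intro K hK hKn hodd
    have hodd' : ∀ k ∈ K, Odd (orderOf k) := fun k hk => hodd.of_dvd_nat (Subgroup.orderOf_dvd_natCard _ hk)
    have conjK : ∀ {p : P5}, Ev5 p → p.2 * U5 = U5 * p.2 → ∀ k ∈ K, B.F p * k * (B.F p)⁻¹ ∈ K :=
      fun {p} hp h k hk => hKn _ (E.F_commute hp uev (Prod.ext (by simp) h)) k hk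
    have conjI : ∀ {p : P5}, Ev5 p → p.2 * U5 = U5 * p.2 → p * p = 1 → ∀ k ∈ K, B.F p * k * B.F p ∈ K :=
      fun {p} hp h h2 k hk => by
        have := conjK hp h k hk
        rwa [inv_eq_of_mul_eq_one_left (E.F_sq hp h2)] at this
    let incl : alternatingGroup (Fin 5) →* G := B.M1.comp (alternatingGroup (Fin 5)).subtype
    haveI hN : (K.comap incl).Normal := ⟨fun a ha e => by
      have h := conjK (p := ((e : S5), 1)) (ev5_even (Perm.mem_alternatingGroup.1 e.2) (map_one _))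
        (by simp) _ (mem_comap.1 ha)
      rw [B.F_left (Perm.mem_alternatingGroup.1 e.2)] at h
      refine mem_comap.2 ?_
      show incl (e * a * e⁻¹) ∈ K
      rw [map_mul, map_mul, map_inv]
      exact h⟩
    have hbotA : K.comap incl = ⊥ := by
      haveI : IsSimpleGroup (alternatingGroup (Fin 5)) := alternatingGroup.isSimpleGroup (by rw [Nat.card_fin])
      refine hN.eq_bot_or_eq_top.resolve_right fun e => ?_
      have hUK : B.F (U5, 1) ∈ K := by
        rw [B.F_left sU]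
        have hm : (⟨U5, Perm.mem_alternatingGroup.2 sU⟩ : alternatingGroup (Fin 5)) ∈ K.comap incl := by
          rw [e]; exact mem_top _
        exact mem_comap.1 hm
      have h1 := CfsgLib.ZStar.eq_one_of_odd_of_sq (hodd' _ hUK)
        (by rw [pow_two]; exact E.F_sq E.ev5_basic.2.1 (Prod.ext U2 (one_mul _)))
      exact U1 (congrArg Prod.fst (E.F_inj E.ev5_basic.2.1 ev5_one (h1.trans B.F_one.symm)))
    have inside : ∀ k ∈ K, k ∈ E.H → k = 1 := by
      intro k hk hkH
      obtain ⟨⟨a, b⟩, hp, hb, rfl⟩ := E.of_mem_H_commute_u hkH (hK k hk)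
      have h8 : B.F (a, b) ^ 8 = B.F (a ^ 8, 1) := by
        calc B.F (a, b) ^ 8 = E.ψ ((⟨(a, b), mem_K2.2 hp⟩ : K2) ^ 8) := (map_pow E.ψ ⟨(a, b), mem_K2.2 hp⟩ 8).symm
          _ = B.F (a ^ 8, 1) := by
            show B.F ((a, b) ^ 8) = _
            rw [Prod.pow_mk, pow_eight b hb]
      have hs8 : Perm.sign (a ^ 8) = 1 := by
        rw [map_pow]
        rcases Int.units_eq_one_or (Perm.sign a) with e | e <;> rw [e] <;> decide
      have h1 : B.F (a, b) ^ 8 = 1 := by
        rw [h8, B.F_left hs8]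
        have hm : (⟨a ^ 8, Perm.mem_alternatingGroup.2 hs8⟩ : alternatingGroup (Fin 5)) ∈ K.comap incl := by
          refine mem_comap.2 ?_
          show B.M1 (a ^ 8) ∈ K
          rw [← B.F_left hs8, ← h8]; exact pow_mem hk 8
        rw [hbotA, mem_bot] at hm
        rw [show a ^ 8 = 1 from congrArg Subtype.val hm, map_one]
      have hco : Nat.Coprime (orderOf (B.F (a, b))) 8 := by
        rw [show (8 : ℕ) = 2 ^ 3 from rfl]
        exact Nat.Coprime.pow_right 3 (Nat.coprime_two_right.2 (hodd' _ hk))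
      exact orderOf_eq_one_iff.1 (Nat.eq_one_of_dvd_coprimes hco dvd_rfl (orderOf_dvd_of_pow_eq_one h1))
    have euev : Ev5 ((pu.2, 1) : P5) := ev5_even su (map_one _)
    have evev : Ev5 ((pv.2, 1) : P5) := ev5_even sv (map_one _)
    have wev : Ev5 ((W, 1) : P5) := ev5_even even_facts.1 (map_one _)
    rw [A4_core_trivial hodd (v := B.F (1, V5)) (e1 := B.F (pu.2, 1)) (e2 := B.F (pv.2, 1)) (Z := B.F (W, 1))
      (E.F_sq vev (Prod.ext (one_mul _) V2)) (E.F_sq euev (Prod.ext u2 (one_mul _)))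
      (E.F_sq evev (Prod.ext v2 (one_mul _))) (E.F_commute euev evev (Prod.ext cuv rfl))
      (by rw [B.F_z]; exact B.z_cube)
      (by rw [← E.F_conj wev euev]; exact congrArg B.F (Prod.ext wu (by simp)))
      (by rw [← E.F_conj wev evev, ← E.F_mul euev evev]; exact congrArg B.F (Prod.ext wv (by simp)))
      (conjI vev VU (Prod.ext (one_mul _) V2)) (conjI euev (by simp) (Prod.ext u2 (one_mul _)))
      (conjK wev (by simp))
      (fun k hk hc => inside k hk (E.mem_of_commute_z (B.F_z ▸ hc)))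
      (fun k hk hc => inside k hk (E.mem_of_stab_u (hK k hk) hc))
      (fun k hk h1 h2 => inside k hk (E.mem_of_cg (E.CV_le (B.mem_CV.2 ⟨?_, ?_⟩))))]
    · exact bot_le
    · rw [B.F_left su] at h1
      rw [B.cg_commute_iff]; exact h1
    · rw [B.F_left sv] at h2
      rw [B.cg_commute_iff]; exact h2

theorem mem_of_commute_x {x : G} (hx : Commute x B.xx) : x ∈ E.H := by
  refine E.mem_of_cg (E.mem_of_commute_u ?_)
  rw [B.F_pf, ← E.hB]; exact B.cg_commute hx

theorem mem_of_commute_t {y : G} (hy : Commute y (B.F (U5, U5))) : y ∈ E.H := by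
  classical
  obtain ⟨uev, xev, tev, sev⟩ := E.ev5_basic
  obtain ⟨sU, U2, U1, -, -, -, -, cU, -, sne, -⟩ := basic_five
  have tx : B.F (U5, U5) * B.F (U5, 1) = B.F (1, U5) := by
    rw [← E.F_mul tev xev, Prod.mk_mul_mk, U2, mul_one]
  have gu : B.g * B.F (1, U5) * B.g⁻¹ = B.F (U5, 1) := by
    rw [B.g_inv, ← Base.cg_apply, E.cg_F uev]
  have t2 := E.F_sq tev (Prod.ext U2 U2)
  have t1 : B.F (U5, U5) ≠ 1 := fun e => U1 (congrArg Prod.fst (E.F_inj tev ev5_one (e.trans B.F_one.symm)))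
  have hxt : Commute (B.F (U5, 1)) (B.F (U5, U5)) := E.F_commute xev tev (Prod.ext rfl (by simp))
  have stab : ∀ y, Commute y (B.F (U5, U5)) →
      (y * B.F (U5, 1) * y⁻¹ = B.F (U5, 1) ∨ y * B.F (U5, 1) * y⁻¹ = B.F (U5, U5) * B.F (U5, 1)) → y ∈ E.H := by
    intro y _ hs
    rcases hs with e | e
    · exact E.mem_of_commute_x (E.F_xx ▸ EightThree.conj_eq_iff.1 e)
    · rw [tx, ← gu, conj_conj_eq] at e
      have := mul_mem (E.mem_of_commute_u (EightThree.conj_eq_iff.1 e)) E.g_mem_H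
      rwa [mul_assoc, B.g2, mul_one] at this
  refine centralizer_le_of_isolated t2 t1 (E.F_sq xev (Prod.ext U2 (one_mul _))) hxt
    (fun e => U1 (congrArg Prod.fst (E.F_inj xev ev5_one (e.trans B.F_one.symm))))
    (fun e => U1 (congrArg Prod.snd (E.F_inj xev tev e)).symm) stab ?_ ?_ hy
  · intro n hn hs
    set x' := n * B.F (U5, 1) * n⁻¹ with hx'
    have hxH : x' ∈ E.H := stab x' ((hn.mul_left hxt).mul_left hn.inv_left) hs
    have h1 : B.F (U5, U5) * x' = n * B.F (1, U5) * n⁻¹ := by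
      rw [← tx, ← conj_mul, hn.eq, mul_inv_cancel_right]
    obtain ⟨⟨a, b⟩, hp, he, -, hcase⟩ := E.u_class hxH (n * B.g) (by rw [← conj_conj_eq, gu])
    have hev : Ev5 ((U5 * a, U5 * b) : P5) := ev5_mul tev hp
    obtain ⟨q, hq, hqe, -, hc⟩ := E.u_class (E.F_mem_H hev) n (by
      rw [← h1, he, ← E.F_mul tev hp, Prod.mk_mul_mk])
    obtain rfl := E.F_inj hev hq hqe
    have eU : ∀ {c : S5}, U5 * c = 1 → c = U5 := fun {c} h => by
      calc c = U5 * (U5 * c) := by rw [← mul_assoc, U2, one_mul]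
        _ = U5 := by rw [h, mul_one]
    rcases hcase with ⟨rfl, hb, -⟩ | ⟨rfl, ha, -⟩
    · rcases hc with ⟨e, -⟩ | ⟨e, -⟩
      · exact absurd (by rwa [mul_one] at e) U1
      · obtain rfl := eU e
        exact Or.inr (he.trans tx.symm)
    · rcases hc with ⟨e, -⟩ | ⟨e, -⟩
      · obtain rfl := eU e
        exact Or.inl he
      · exact absurd (by rwa [mul_one] at e) U1
  · intro K hK hKn hodd
    set a := B.sig with hadef
    set b := B.F (U5, 1) with hbdef
    have aa : a * a = 1 := B.sig_sq'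
    have bb : b * b = 1 := E.F_sq xev (Prod.ext U2 (one_mul _))
    have cab : Commute a b := by
      rw [hadef, ← B.F_sig]; exact E.F_commute sev xev (Prod.ext cU (by simp))
    let A : Subgroup G :=
      { carrier := {y | y = 1 ∨ y = a ∨ y = b ∨ y = a * b}
        one_mem' := Or.inl rfl
        mul_mem' := by
          have hba : b * a = a * b := cab.symm.eq
          have h1 : a * (a * b) = b := by rw [← mul_assoc, aa, one_mul]
          have h2 : a * b * b = a := by rw [mul_assoc, bb, mul_one]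
          have h3 : b * (a * b) = a := by rw [← mul_assoc, hba, h2]
          have h4 : a * b * a = b := by rw [mul_assoc, hba, h1]
          have h5 : a * b * (a * b) = 1 := by rw [← mul_assoc, h4, bb]
          rintro x y (rfl | rfl | rfl | rfl) (rfl | rfl | rfl | rfl) <;>
            simp [aa, bb, hba, h1, h2, h3, h4, h5]
        inv_mem' := by
          rintro y (rfl | rfl | rfl | rfl)
          · exact Or.inl inv_one
          · exact Or.inr (Or.inl (inv_eq_of_mul_eq_one_left aa))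
          · exact Or.inr (Or.inr (Or.inl (inv_eq_of_mul_eq_one_left bb)))
          · refine Or.inr (Or.inr (Or.inr ?_))
            rw [mul_inv_rev, inv_eq_of_mul_eq_one_left aa, inv_eq_of_mul_eq_one_left bb, cab.eq] }
    have amem : ∀ {y}, y ∈ A ↔ y = 1 ∨ y = a ∨ y = b ∨ y = a * b := Iff.rfl
    have key : ∀ p, p ∈ A → Commute p a ∧ Commute p b := by
      intro p hp
      rcases amem.1 hp with rfl | rfl | rfl | rfl
      · exact ⟨Commute.one_left _, Commute.one_left _⟩
      · exact ⟨Commute.refl _, cab⟩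
      · exact ⟨cab.symm, Commute.refl _⟩
      · exact ⟨(Commute.refl a).mul_left cab.symm, cab.mul_left (Commute.refl b)⟩
    haveI : IsMulCommutative A := ⟨⟨by
      rintro ⟨p, hp⟩ ⟨q, hq⟩
      apply Subtype.ext
      rcases amem.1 hq with e | e | e | e <;> subst e
      · simp
      · exact (key p hp).1.eq
      · exact (key p hp).2.eq
      · exact ((key p hp).1.mul_right (key p hp).2).eq⟩⟩
    have na : a ≠ 1 := B.sig_ne_one
    have nb : b ≠ 1 := fun e => U1 (congrArg Prod.fst (E.F_inj xev ev5_one (e.trans B.F_one.symm)))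
    have hab1 : a ≠ b := by
      rw [hadef, ← B.F_sig]
      exact fun e => sne (congrArg Prod.snd (E.F_inj sev xev e))
    have hA4 : Nat.card A = 4 := by
      have e : (A : Set G) = {1, a, b, a * b} := by
        ext y; exact amem
      have nab : a * b ≠ 1 := fun h => hab1 (by
        rw [← inv_eq_of_mul_eq_one_left bb]; exact eq_inv_of_mul_eq_one_left h)
      rw [← SetLike.coe_sort_coe, e, Nat.card_coe_set_eq]
      rw [Set.ncard_insert_of_notMem (by simp [na.symm, nb.symm, nab.symm]) (Set.toFinite _),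
        Set.ncard_eq_three.2 ⟨a, b, a * b, hab1, fun e => nb (left_eq_mul.1 e), fun e => na (right_eq_mul.1 e), rfl⟩]
    have hncyc : ¬ IsCyclic A := by
      intro hc
      obtain ⟨⟨p, hp⟩, hgen⟩ := hc.exists_ofOrder_eq_natCard
      rw [hA4, orderOf_mk] at hgen
      have h2 : orderOf p ∣ 2 := orderOf_dvd_of_pow_eq_one (by
        rw [pow_two]
        rcases amem.1 hp with rfl | rfl | rfl | rfl
        · exact one_mul 1
        · exact aa
        · exact bb
        · rw [cab.symm.mul_mul_mul_comm, aa, bb, one_mul])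
      rw [hgen] at h2
      norm_num at h2
    have hat : Commute a (B.F (U5, U5)) := by
      rw [hadef, ← B.F_sig]; exact E.F_commute sev tev (Prod.ext cU cU)
    have hAK : A ≤ normalizer (K : Set G) := by
      intro p hp
      refine map_conj_normalizer fun k hk => hKn p ?_ k hk
      rcases amem.1 hp with rfl | rfl | rfl | rfl
      · exact Commute.one_left _
      · exact hat
      · exact hxt
      · exact hat.mul_left hxt
    have hcop : (Nat.card A).Coprime (Nat.card K) := by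
      rw [hA4, show (4 : ℕ) = 2 ^ 2 from rfl]
      exact Nat.Coprime.pow_left 2 (Nat.coprime_two_left.2 hodd)
    rw [← Cfsg.Agent.S0058.result A K hncyc hAK hcop]
    refine iSup₂_le ?_
    rintro p ⟨hp, hp1⟩ z ⟨-, hzc⟩
    have hcz : Commute z p := mem_centralizer_singleton_iff.1 hzc
    rcases amem.1 hp with rfl | rfl | rfl | rfl
    · exact absurd rfl hp1
    · exact E.mem_of_commute_sig hcz
    · exact E.mem_of_commute_x (E.F_xx ▸ hcz)
    · have hconj : B.cg (B.φ ph) * B.sig * (B.cg (B.φ ph))⁻¹ = a * b := by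
        conv_lhs => rw [← B.cg_sig]
        rw [hadef, hbdef, E.F_xx, ← map_inv B.cg, ← map_mul, ← map_mul, ← map_inv, ← map_mul, ← map_mul,
          around_u_five.2.2.2.2.2.2.2.2.2.2.2.2, B.cg_ps E.hB, map_mul]
      exact E.centralizer_conj_le (fun w hw => E.mem_of_commute_sig hw)
        (E.P_le_H (E.cg_mem_P (E.φ_mem_P ph))) (hconj.symm ▸ hcz)

theorem eq_top : E.H = ⊤ := by
  refine eq_top_iff.2 fun n _ => ?_
  set x' := n * B.sig * n⁻¹ with hx'
  suffices hxH : x' ∈ E.H by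
    have hx2 : x' * x' = 1 := conj_sq B.sig_sq'
    have hx1 : x' ≠ 1 := fun e => B.sig_ne_one (conj_eq_one_iff.1 e)
    have back : ∀ {j a : G}, j * a * j⁻¹ = x' → j⁻¹ * n * B.sig * (j⁻¹ * n)⁻¹ = a := fun {j a} e => by
      rw [show j⁻¹ * n * B.sig * (j⁻¹ * n)⁻¹ = j⁻¹ * (n * B.sig * n⁻¹) * j by group, ← hx', ← e]; group
    rcases E.involution_cases hxH hx2 hx1 with ⟨q, hq, e, q2, h⟩ | ⟨j, -, e | e⟩
    · rcases h with ⟨-, -, -, j, -, hj⟩ | ⟨-, -, -, j, -, hj⟩ | ⟨-, -, -, j, -, hj⟩ | ⟨-, j, hjH, hj⟩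
      · exact absurd (back hj) (E.u_not_sig _)
      · exact absurd (back hj) (E.u_not_sig _)
      · exact absurd (back hj) (E.t_not_sig _)
      · have := mul_mem hjH (E.mem_of_commute_sig (EightThree.conj_eq_iff.1 (back hj)))
        rwa [mul_inv_cancel_left] at this
    · exact absurd (back e) (E.sig_not_mixed _).1
    · exact absurd (back e) (E.sig_not_mixed _).2
  rcases pair_cases E.F_U_sq (conj_sq (k := n) B.sig_sq') with ⟨k, hk⟩ | ⟨r, hr2, hr1, hru, hrx, -⟩
  · refine absurd ?_ (E.u_not_sig (k⁻¹ * n))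
    rw [← conj_conj_eq, ← hk]; group
  have hrH := E.mem_of_commute_u hru
  rcases E.involution_cases hrH hr2 hr1 with ⟨q, hq, e, q2, h⟩ | ⟨j, hj, he⟩
  · rcases h with ⟨-, -, -, j, hjH, hj⟩ | ⟨-, -, -, j, hjH, hj⟩ | ⟨-, -, -, j, hjH, hj⟩ | ⟨-, j, hjH, hj⟩
    · exact E.centralizer_conj_le (fun w hw => E.mem_of_commute_u hw) hjH (hj.symm ▸ hrx.symm)
    · exact E.centralizer_conj_le (fun w hw => E.mem_of_commute_u hw) hjH (hj.symm ▸ hrx.symm)
    · exact E.centralizer_conj_le (fun w hw => E.mem_of_commute_t hw) hjH (hj.symm ▸ hrx.symm)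
    · exact E.centralizer_conj_le (fun w hw => E.mem_of_commute_sig hw) hjH (hj.symm ▸ hrx.symm)
  · exfalso
    obtain ⟨p, hp, -, rfl⟩ := E.of_mem_H_commute_u hrH hru
    have inv : ∀ a : G, j * a * j⁻¹ = B.F p → a ∈ E.P := fun a ha => by
      have := E.conj_mem_P (inv_mem hj) (E.F_mem hp)
      rwa [← ha, inv_inv, show j⁻¹ * (j * a * j⁻¹) * j = a by group] at this
    rcases he with e | e
    · exact E.g_notin_P (inv _ e)
    · refine E.g_notin_P ((Subgroup.mul_mem_cancel_right _ ?_).1 (inv _ e))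
      rw [← B.F_sig]; exact E.F_mem E.ev5_basic.2.2.2

/-! ### The structure of the group -/

theorem card_G : Nat.card G = 14400 := by
  rw [← E.card_H, E.eq_top, card_top]

/-- The embedding of `A₅ × A₅`. -/
def χ : alternatingGroup (Fin 5) × alternatingGroup (Fin 5) →* G where
  toFun p := B.F ((p.1 : S5), (p.2 : S5))
  map_one' := B.F_one
  map_mul' p q := E.F_mul (p := ((p.1 : S5), (p.2 : S5))) (q := ((q.1 : S5), (q.2 : S5)))
    (ev5_even (Perm.mem_alternatingGroup.1 p.1.2) (Perm.mem_alternatingGroup.1 p.2.2))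
    (ev5_even (Perm.mem_alternatingGroup.1 q.1.2) (Perm.mem_alternatingGroup.1 q.2.2))

theorem χ_injective : Function.Injective E.χ := by
  intro p q h
  have := E.F_inj (ev5_even (Perm.mem_alternatingGroup.1 p.1.2) (Perm.mem_alternatingGroup.1 p.2.2))
    (ev5_even (Perm.mem_alternatingGroup.1 q.1.2) (Perm.mem_alternatingGroup.1 q.2.2)) h
  exact Prod.ext (Subtype.ext (congrArg Prod.fst this)) (Subtype.ext (congrArg Prod.snd this))

theorem mem_N {y : G} : y ∈ E.χ.range ↔ ∃ a b : S5, Perm.sign a = 1 ∧ Perm.sign b = 1 ∧ B.F (a, b) = y := by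
  constructor
  · rintro ⟨p, rfl⟩
    exact ⟨p.1, p.2, Perm.mem_alternatingGroup.1 p.1.2, Perm.mem_alternatingGroup.1 p.2.2, rfl⟩
  · rintro ⟨a, b, ha, hb, rfl⟩
    exact ⟨(⟨a, Perm.mem_alternatingGroup.2 ha⟩, ⟨b, Perm.mem_alternatingGroup.2 hb⟩), rfl⟩

theorem N_normal : E.χ.range.Normal := ⟨fun y hy k => by
  obtain ⟨a, b, ha, hb, rfl⟩ := E.mem_N.1 hy
  have hab : Ev5 ((a, b) : P5) := ev5_even ha hb
  obtain ⟨⟨c, d⟩, hq, e | e⟩ := E.exists_of_mem_H (E.eq_top.symm ▸ mem_top k : k ∈ E.H) <;> subst e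
  · rw [← E.F_conj hq hab]
    refine E.mem_N.2 ⟨_, _, ?_, ?_, rfl⟩ <;> simp [ha, hb, map_mul, map_inv]
  · rw [show B.g * B.F (c, d) * B.F (a, b) * (B.g * B.F (c, d))⁻¹ =
      B.g * (B.F (c, d) * B.F (a, b) * (B.F (c, d))⁻¹) * B.g by rw [mul_inv_rev, B.g_inv]; group,
      ← E.F_conj hq hab, ← Base.cg_apply, E.cg_F (ev5_mul (ev5_mul hq hab) (ev5_inv hq))]
    refine E.mem_N.2 ⟨_, _, ?_, ?_, rfl⟩ <;> simp [ha, hb, map_mul, map_inv]⟩

theorem N_index : E.χ.range.index = 4 := by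
  have h60 : Nat.card (alternatingGroup (Fin 5)) = 60 := by
    have := two_mul_nat_card_alternatingGroup (α := Fin 5)
    rw [Nat.card_perm, Nat.card_fin, show Nat.factorial 5 = 120 by decide] at this
    omega
  have h := E.χ.range.card_mul_index
  rw [← Nat.card_congr (MonoidHom.ofInjective E.χ_injective).toEquiv, Nat.card_prod, h60, E.card_G] at h
  omega

theorem sq_mem_N (k : G) : k ^ 2 ∈ E.χ.range := by
  obtain ⟨⟨c, d⟩, hq, e | e⟩ := E.exists_of_mem_H (E.eq_top.symm ▸ mem_top k : k ∈ E.H) <;> subst e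
  · rw [pow_two, ← E.F_mul hq hq]
    refine E.mem_N.2 ⟨c * c, d * d, ?_, ?_, rfl⟩ <;> rw [map_mul, Int.units_mul_self]
  · rw [pow_two, show B.g * B.F (c, d) * (B.g * B.F (c, d)) = B.g * B.F (c, d) * B.g * B.F (c, d) by group,
      ← Base.cg_apply, E.cg_F hq, ← E.F_mul (ev5_swap hq) hq]
    refine E.mem_N.2 ⟨d * c, c * d, ?_, ?_, rfl⟩ <;>
      rw [map_mul, show Perm.sign c = Perm.sign d from hq, Int.units_mul_self]

theorem N_minimal (K : Subgroup G) (hKn : K.Normal) (hKle : K ≤ E.χ.range) : K = ⊥ ∨ K = E.χ.range := by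
  classical
  refine or_iff_not_imp_left.2 fun hK => le_antisymm hKle ?_
  haveI : IsSimpleGroup (alternatingGroup (Fin 5)) := alternatingGroup.isSimpleGroup (by rw [Nat.card_fin])
  have hswap : ∀ {a b : S5}, Ev5 (a, b) → B.F (a, b) ∈ K → B.F (b, a) ∈ K := fun {a b} h hm => by
    have h' := hKn.conj_mem _ hm B.g
    rwa [B.g_inv, ← Base.cg_apply, E.cg_F h] at h'
  set f : alternatingGroup (Fin 5) →* G :=
    E.χ.comp (MonoidHom.inl (alternatingGroup (Fin 5)) (alternatingGroup (Fin 5))) with hf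
  haveI : (K.comap f).Normal := hKn.comap f
  have hne : K.comap f ≠ ⊥ := by
    intro hb
    obtain ⟨y, hyK, hy1⟩ : ∃ y ∈ K, y ≠ 1 := by
      by_contra hcon
      push Not at hcon
      exact hK ((eq_bot_iff_forall K).2 hcon)
    obtain ⟨a, b, ha, hb', rfl⟩ := E.mem_N.1 (hKle hyK)
    have found : ∀ (c : S5), Perm.sign c = 1 → c ≠ 1 → B.F (c, 1) ∈ K → False := by
      intro c hc hc1 hm
      have : (⟨c, Perm.mem_alternatingGroup.2 hc⟩ : alternatingGroup (Fin 5)) ∈ K.comap f := hm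
      rw [hb, mem_bot] at this
      exact hc1 (congrArg Subtype.val this)
    by_cases h1 : a = 1
    · subst h1
      have hb1 : b ≠ 1 := fun e => hy1 (by rw [e]; exact B.F_one)
      exact found b hb' hb1 (hswap (ev5_even (map_one _) hb') hyK)
    · obtain ⟨e, he, hne⟩ := even_noncentral a ha h1
      have hee : Ev5 ((e, 1) : P5) := ev5_even he (map_one _)
      have hab : Ev5 ((a, b) : P5) := ev5_even ha hb'
      refine found (e * a * e⁻¹ * a⁻¹) (by simp [map_mul, map_inv, he, ha])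
        (fun h => hne (mul_inv_eq_iff_eq_mul.1 (mul_inv_eq_one.1 h))) ?_
      have := mul_mem (hKn.conj_mem _ hyK (B.F (e, 1))) (inv_mem hyK)
      rw [← E.F_conj hee hab, ← E.F_inv hab, ← E.F_mul (ev5_mul (ev5_mul hee hab) (ev5_inv hee)) (ev5_inv hab)] at this
      simpa using this
  have htop : K.comap f = ⊤ := (Subgroup.Normal.eq_bot_or_eq_top inferInstance).resolve_left hne
  intro y hy
  obtain ⟨a, b, ha, hb, rfl⟩ := E.mem_N.1 hy
  have hl : ∀ c : S5, Perm.sign c = 1 → B.F (c, 1) ∈ K := fun c hc =>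
    mem_comap.1 (htop ▸ mem_top (⟨c, Perm.mem_alternatingGroup.2 hc⟩ : alternatingGroup (Fin 5)))
  have := mul_mem (hl a ha) (hswap (ev5_even hb (map_one _)) (hl b hb))
  rwa [← E.F_mul (ev5_even ha (map_one _)) (ev5_even (map_one _) hb), Prod.mk_mul_mk, mul_one, one_mul] at this

theorem centralizer_N : centralizer (E.χ.range : Set G) = ⊥ := by
  refine (eq_bot_iff_forall _).2 fun y hy => ?_
  have hc : ∀ {a b : S5}, Perm.sign a = 1 → Perm.sign b = 1 → Commute y (B.F (a, b)) := fun {a b} ha hb =>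
    (mem_centralizer_iff.1 hy _ (E.mem_N.2 ⟨a, b, ha, hb, rfl⟩)).symm
  have hz : Commute y B.z := B.F_z ▸ hc even_facts.1 (map_one _)
  have hw : Commute y B.w := B.F_w ▸ hc (map_one _) even_facts.1
  obtain ⟨p, hp, rfl⟩ := B.exists_of_commute_zw hz hw
  have hx : Commute (B.φ p) B.xx := E.F_xx ▸ hc basic_five.1 (map_one _)
  have hf : Commute (B.φ p) (B.φ pf) := B.F_pf ▸ hc (map_one _) basic_five.1
  have hu : Commute (B.φ p) (B.φ pu) :=
    (show B.F (1, pu.2) = B.φ pu from B.F_right pu.2) ▸ hc (map_one _) basic_five.2.2.2.2.2.2.2.2.2.2.2.1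
  rw [eighteen_center p hp (B.of_φ_commute hx) (B.of_φ_commute hf) (B.of_φ_commute hu), map_one]

theorem gFitting_eq : Cfsg.generalizedFittingSubgroup G = E.χ.range := by
  haveI := E.N_normal
  have hC := E.centralizer_N
  have hcomm : ⁅E.χ.range, E.χ.range⁆ ≠ ⊥ := by
    intro h
    have hle := commutator_eq_bot_iff_le_centralizer.1 h
    rw [hC] at hle
    have := E.N_index
    rw [le_bot_iff.1 hle, index_bot, E.card_G] at this
    omega
  have hlay : E.χ.range ≤ Cfsg.layer G :=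
    CfsgLib.Components.minimal_normal_le_layer E.N_normal E.N_minimal hcomm
  refine le_antisymm (sup_le (CfsgLib.Components.layer_le_iff.2 fun L hL => ?_) ?_)
    (hlay.trans CfsgLib.Components.layer_le_gFitting)
  · rcases CfsgLib.Components.component_le_or_commutes hL E.N_normal.isSubnormal with h | h
    · exact h
    · exfalso
      refine CfsgLib.Components.IsComponent.ne_bot hL (le_bot_iff.1 ?_)
      rw [← hC]
      exact commutator_eq_bot_iff_le_centralizer.1 h
  · have h : ⁅Cfsg.fittingSubgroup G, E.χ.range⁆ = ⊥ := le_bot_iff.1 (by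
      rw [commutator_comm, ← CfsgLib.Components.layer_commutes_fitting (G := G)]
      exact commutator_mono hlay le_rfl)
    exact (commutator_eq_bot_iff_le_centralizer.1 h).trans (hC.le.trans bot_le)

end CaseB

/-- The second case of the characterisation. -/
theorem exists_A5A5 (B : Base G) (hB : B.cg B.xx = B.φ pf) (ρ : normalizer (B.D9 : Set G) →* DihedralGroup 4)
    (hρs : Function.Surjective ρ)
    (hρk : ∀ x : normalizer (B.D9 : Set G), ρ x = 1 ↔ (x : G) ∈ centralizer (B.D9 : Set G)) :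
    ∃ N : Subgroup G, N.Normal ∧ Cfsg.generalizedFittingSubgroup G = N ∧
      Nonempty (N ≃* alternatingGroup (Fin 5) × alternatingGroup (Fin 5)) ∧
      (∀ K : Subgroup G, K.Normal → K ≤ N → K = ⊥ ∨ K = N) ∧
      N.index = 4 ∧ ∀ g : G, g ^ 2 ∈ N := by
  obtain E := B.nonempty_caseB hB ρ hρs hρk
  exact ⟨_, E.N_normal, E.gFitting_eq, ⟨(MonoidHom.ofInjective E.χ_injective).symm⟩, E.N_minimal, E.N_index,
    E.sq_mem_N⟩

end CfsgLib.Recog.EightThreeSym
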