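import Cfsg.Agent.Lib.Recog.EightThreeSym.Start
import Cfsg.Agent.S3333

/-!
Owner: helper10. The centraliser of the transposition centralising the Sylow 3-subgroup: it normalises that
subgroup or is the extension of the symmetric group of degree six by the transposition.
-/

set_option autoImplicit false
set_option linter.all false
set_option synthInstance.maxSize 1000

namespace CfsgLib.Recog.EightThreeSym

open Subgroup Equiv Cfsg CfsgLib.Recog.EightThree
open scoped Pointwise

universe u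

theorem norm9_of_psig : ∀ p : Pair, p * pz = pz * p → p * psig = psig * p → Norm9 p := by decide +kernel

variable {G : Type u} [Group G] [Finite G]

namespace Base

variable (B : Base G)

include B

theorem g_normalizer : B.g ∈ normalizer (B.D9 : Set G) := by
  refine map_conj_normalizer fun x hx => ?_
  obtain ⟨r, hr, rfl⟩ := hx
  rw [B.g_inv, ← cg_apply]
  have hz := B.w_mem_D9
  have hw := B.z_mem_D9
  have key : ∀ r ∈ nine, B.cg (B.φ r) ∈ B.D9 := by
    intro r hr
    have h1 : B.cg (B.φ pz) ∈ B.D9 := by rw [B.cg_z]; exact hz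
    have h2 : B.cg (B.φ pw) ∈ B.D9 := by rw [B.cg_w]; exact hw
    rcases nine_gens r hr with rfl | rfl | rfl | rfl | rfl | rfl | rfl | rfl | rfl <;>
      (try simp only [map_one, map_mul]) <;>
      first
        | exact one_mem _
        | exact h1
        | exact h2
        | exact mul_mem h1 h1
        | exact mul_mem h2 h2
        | exact mul_mem h1 h2
        | exact mul_mem (mul_mem h1 h1) h2
        | exact mul_mem h1 (mul_mem h2 h2)
        | exact mul_mem (mul_mem h1 h1) (mul_mem h2 h2)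
  exact key r hr

theorem commute_sig_of_normalizer {n : G} (hn : n ∈ normalizer (B.D9 : Set G)) : Commute n B.sig := by
  obtain ⟨sz, sw, s2, s1, -⟩ := basic_pairs
  have hmem : ∀ x ∈ B.D9, Commute (n * B.sig * n⁻¹) x := by
    intro x hx
    have hx' : n⁻¹ * x * n ∈ B.D9 := by
      refine (mem_normalizer_iff.1 hn _).2 ?_
      rwa [show n * (n⁻¹ * x * n) * n⁻¹ = x by group]
    obtain ⟨r, hr, hre⟩ := hx'
    have hc : Commute B.sig (n⁻¹ * x * n) := by
      rw [← hre]
      exact B.φ_commute (by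
        have : ∀ q ∈ nine, psig * q = q * psig := by decide +kernel
        exact this r hr)
    have := commute_conj (k := n) hc
    rwa [show n * (n⁻¹ * x * n) * n⁻¹ = x by group] at this
  obtain ⟨p, hp, he⟩ := B.exists_of_commute_zw (hmem _ B.z_mem_D9) (hmem _ B.w_mem_D9)
  have hp2 : p * p = 1 := B.inj (by rw [map_mul, he, conj_sq (by rw [← map_mul, s2, map_one]), map_one])
  rcases (eighteen_facts.2 p hp).2.1 hp2 with rfl | rfl
  · rw [map_one] at he
    exact absurd (B.inj ((conj_eq_one_iff.1 he.symm).trans (map_one B.φ).symm)) s1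
  · exact conj_eq_iff.1 he.symm

/-- The two possible centralisers of the transposition. -/
theorem sigma_cases (ρ : normalizer (B.D9 : Set G) →* DihedralGroup 4) (hρs : Function.Surjective ρ)
    (hρk : ∀ x : normalizer (B.D9 : Set G), ρ x = 1 ↔ (x : G) ∈ centralizer (B.D9 : Set G)) :
    (∀ c : G, Commute c B.sig → c ∈ normalizer (B.D9 : Set G)) ∨
      ∃ π : centralizer ({B.sig} : Set G) →* S6, Function.Surjective π ∧
        ∀ c : centralizer ({B.sig} : Set G), π c = 1 ↔ ((c : G) = 1 ∨ (c : G) = B.sig) := by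
  classical
  haveI := Fact.mk Nat.prime_three
  obtain ⟨sz, sw, s2, s1, -⟩ := basic_pairs
  set C := centralizer ({B.sig} : Set G) with hC
  have mC : ∀ {x : G}, Commute x B.sig → x ∈ C := fun h => mem_centralizer_singleton_iff.2 h.eq
  have cC : ∀ x : C, Commute (x : G) B.sig := fun x => (mem_centralizer_singleton_iff.1 x.2 :)
  have hσ2 : B.sig * B.sig = 1 := by rw [← map_mul, s2, map_one]
  have hσ1 : B.sig ≠ 1 := fun e => s1 (B.inj (e.trans (map_one B.φ).symm))
  set σC : C := ⟨B.sig, mC (Commute.refl _)⟩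
  haveI hn : (zpowers σC).Normal := ⟨fun n hn a => by
    obtain ⟨i, rfl⟩ := mem_zpowers_iff.1 hn
    have : Commute a σC := Subtype.ext (cC a).eq
    rw [(this.zpow_right i).eq, mul_inv_cancel_right]
    exact zpow_mem (mem_zpowers _) i⟩
  set q := QuotientGroup.mk' (zpowers σC)
  have hσC2 : σC * σC = 1 := Subtype.ext hσ2
  have hker : ∀ a : C, q a = 1 ↔ (a : G) = 1 ∨ (a : G) = B.sig := by
    intro a
    constructor
    · intro ha
      obtain ⟨i, rfl⟩ := mem_zpowers_iff.1 ((QuotientGroup.eq_one_iff a).1 ha)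
      rcases Int.even_or_odd i with ⟨j, rfl⟩ | ⟨j, rfl⟩
      · left; rw [zpow_add, ← (Commute.refl σC).mul_zpow, hσC2, one_zpow]; rfl
      · right; rw [two_mul, zpow_add_one, zpow_add, ← (Commute.refl σC).mul_zpow, hσC2, one_zpow, one_mul]
    · rintro (e | e)
      · rw [show a = 1 from Subtype.ext e, map_one]
      · rw [show a = σC from Subtype.ext e]; exact (QuotientGroup.eq_one_iff _).2 (mem_zpowers _)
  have hD9le : B.D9 ≤ C := by
    rintro _ ⟨r, hr, rfl⟩
    refine mC (B.φ_commute ?_)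
    have : ∀ q ∈ nine, q * psig = psig * q := by decide +kernel
    exact this r hr
  have hNle : normalizer (B.D9 : Set G) ≤ C := fun n hn => mC (B.commute_sig_of_normalizer hn)
  set S := (B.D9.subgroupOf C).map q with hS
  have hcube : ∀ d ∈ B.D9, d ^ 3 = 1 := by
    rintro _ ⟨r, hr, rfl⟩
    have : ∀ r ∈ nine, r ^ 3 = 1 := by decide +kernel
    rw [← map_pow, this r hr, map_one]
  have exact_of : ∀ a d : G, d ∈ B.D9 → a ^ 3 = 1 → Commute d B.sig → (a * d⁻¹ = 1 ∨ a * d⁻¹ = B.sig) → a = d := by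
    intro a d hd ha hds h
    rcases h with h | h
    · exact mul_inv_eq_one.1 h
    · exfalso
      rw [mul_inv_eq_iff_eq_mul] at h
      rw [h, hds.symm.mul_pow, hcube d hd, mul_one, pow_succ, pow_two, hσ2, one_mul] at ha
      exact hσ1 ha
  have hSmem : ∀ {a : C}, q a ∈ S ↔ ∃ d ∈ B.D9, (a : G) * d⁻¹ = 1 ∨ (a : G) * d⁻¹ = B.sig := by
    intro a
    constructor
    · rintro ⟨d, hd, he⟩
      refine ⟨d, hd, (hker (a * d⁻¹)).1 ?_⟩
      rw [map_mul, map_inv, he, mul_inv_cancel]
    · rintro ⟨d, hd, he⟩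
      refine ⟨⟨d, hD9le hd⟩, hd, ?_⟩
      have h1 : q (a * (⟨d, hD9le hd⟩ : C)⁻¹) = 1 := (hker _).2 he
      rw [map_mul, map_inv, mul_inv_eq_one] at h1
      exact h1.symm
  have hScard : Nat.card S = 9 := by
    let r : B.D9.subgroupOf C →* S := (q.comp (B.D9.subgroupOf C).subtype).codRestrict S fun y => ⟨y, y.2, rfl⟩
    have hb : Function.Bijective r := by
      refine ⟨fun a b he => ?_, ?_⟩
      · have he' : q (a : C) = q (b : C) := congrArg Subtype.val he
        apply Subtype.ext; apply Subtype.ext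
        refine exact_of _ _ (mem_subgroupOf.1 b.2) (hcube _ (mem_subgroupOf.1 a.2)) (cC _) ((hker ((a : C) * (b : C)⁻¹)).1 ?_)
        rw [show ((a : C) * (b : C)⁻¹ : C) = _ from rfl, map_mul, map_inv, he', mul_inv_cancel]
      · rintro ⟨_, y, hy, rfl⟩
        exact ⟨⟨y, hy⟩, rfl⟩
    rw [← Nat.card_congr (MulEquiv.ofBijective r hb).toEquiv, Nat.card_congr (subgroupOfEquivOfLe hD9le).toEquiv,
      B.card_D9]
  have hfac : (Nat.card (C ⧸ zpowers σC)).factorization 3 = 2 := by
    have hne : Nat.card (C ⧸ zpowers σC) ≠ 0 := Nat.card_pos.ne'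
    have h1 : 3 ^ 2 ∣ Nat.card (C ⧸ zpowers σC) := by
      rw [show (3 : ℕ) ^ 2 = 9 from rfl, ← hScard]; exact S.card_subgroup_dvd_card
    have h2 := (Nat.prime_three.pow_dvd_iff_le_factorization hne).1 h1
    by_contra h3
    exact B.not27 (((Nat.prime_three.pow_dvd_iff_le_factorization (k := 3) hne).2 (by omega)).trans
      ((zpowers σC).card_quotient_dvd_card.trans C.card_subgroup_dvd_card))
  set P : Sylow 3 (C ⧸ zpowers σC) := Sylow.ofCard S (by rw [hScard, hfac]; rfl) with hP
  have lift_commute : ∀ (c : C) (d : G) (hd : d ∈ B.D9), q c * q ⟨d, hD9le hd⟩ = q ⟨d, hD9le hd⟩ * q c →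
      Commute (c : G) d := by
    intro c d hd e
    have e' : q (c * ⟨d, hD9le hd⟩ * c⁻¹ * (⟨d, hD9le hd⟩ : C)⁻¹) = 1 := by
      rw [map_mul, map_mul, map_mul, map_inv, map_inv, e, mul_inv_cancel_right, mul_inv_cancel]
    refine conj_eq_iff.1 (exact_of _ d hd ?_ ?_ ((hker _).1 e'))
    · rw [conj_pow, hcube d hd]; group
    · exact cC ⟨d, hD9le hd⟩
  have hself : centralizer (S : Set (C ⧸ zpowers σC)) = S := by
    refine le_antisymm (fun a ha => ?_) (fun a ha => mem_centralizer_iff.2 ?_)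
    · obtain ⟨c, rfl⟩ := QuotientGroup.mk'_surjective (zpowers σC) a
      have hc : ∀ d ∈ B.D9, Commute (c : G) d := fun d hd =>
        lift_commute c d hd (((mem_centralizer_iff.1 ha) _ ⟨⟨d, hD9le hd⟩, hd, rfl⟩).symm)
      obtain ⟨p, hp, he⟩ := B.exists_of_commute_zw (hc _ B.z_mem_D9) (hc _ B.w_mem_D9)
      rcases Finset.mem_union.1 hp with hp | hp
      · exact hSmem.2 ⟨_, ⟨p, hp, rfl⟩, Or.inl (by rw [he, mul_inv_cancel])⟩
      · obtain ⟨r, hr, rfl⟩ := Finset.mem_image.1 hp
        refine hSmem.2 ⟨_, ⟨r, hr, rfl⟩, Or.inr ?_⟩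
        rw [← he, map_mul]
        have : ∀ q ∈ nine, q * psig = psig * q := by decide +kernel
        rw [show B.φ r * B.φ psig = B.φ psig * B.φ r from (B.φ_commute (this r hr)).eq, mul_inv_cancel_right]
    · intro b hb
      obtain ⟨x, hx, rfl⟩ := ha
      obtain ⟨y, hy, rfl⟩ := hb
      rw [← map_mul, ← map_mul]
      haveI := B.D9_isMulCommutative
      exact congrArg q (Subtype.ext (congrArg Subtype.val
        (mul_comm' (⟨(y : G), hy⟩ : B.D9) ⟨(x : G), hx⟩) : (y : G) * x = x * y))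
  -- the normaliser
  set NS := normalizer (S : Set (C ⧸ zpowers σC)) with hNS
  have hto : ∀ n : (normalizer (B.D9 : Set G)), q ⟨n, hNle n.2⟩ ∈ NS := by
    intro n
    refine map_conj_normalizer fun y hy => ?_
    obtain ⟨d, hd, rfl⟩ := hy
    rw [← map_inv, ← map_mul, ← map_mul]
    exact ⟨_, mem_subgroupOf.2 ((mem_normalizer_iff.1 n.2 _).1 hd), rfl⟩
  have hback : ∀ c : C, q c ∈ NS → (c : G) ∈ (normalizer (B.D9 : Set G)) := by
    intro c hc
    refine map_conj_normalizer fun d hd => ?_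
    have h1 : q c * q ⟨d, hD9le hd⟩ * (q c)⁻¹ ∈ S :=
      (mem_normalizer_iff.1 hc _).1 ⟨⟨d, hD9le hd⟩, hd, rfl⟩
    rw [← map_inv, ← map_mul, ← map_mul] at h1
    obtain ⟨d', hd', he⟩ := hSmem.1 h1
    have e : (c : G) * d * (c : G)⁻¹ = d' := exact_of _ _ hd' (by rw [conj_pow, hcube d hd]; group)
      (cC ⟨d', hD9le hd'⟩) he
    rw [e]; exact hd'
  let i0 : (normalizer (B.D9 : Set G)) →* NS :=
    { toFun := fun n => ⟨q ⟨n, hNle n.2⟩, hto n⟩
      map_one' := Subtype.ext (map_one q)
      map_mul' := fun a b => Subtype.ext (by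
        show q ⟨(a * b : G), _⟩ = q ⟨a, _⟩ * q ⟨b, _⟩
        rw [← map_mul]; rfl) }
  set r1 : (normalizer (B.D9 : Set G)) →* NS ⧸ S.subgroupOf NS := (QuotientGroup.mk' (S.subgroupOf NS)).comp i0 with hr1
  have hr1s : Function.Surjective r1 := by
    intro a
    obtain ⟨⟨b, hb⟩, rfl⟩ := QuotientGroup.mk'_surjective (S.subgroupOf NS) a
    obtain ⟨c, rfl⟩ := QuotientGroup.mk'_surjective (zpowers σC) b
    exact ⟨⟨c, hback c hb⟩, rfl⟩
  have hkeq : r1.ker = ρ.ker := by
    ext n
    rw [MonoidHom.mem_ker, MonoidHom.mem_ker, hρk, hr1, MonoidHom.comp_apply,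
      show ((QuotientGroup.mk' (S.subgroupOf NS)) (i0 n) = 1) ↔ i0 n ∈ S.subgroupOf NS from QuotientGroup.eq_one_iff _,
      mem_subgroupOf]
    show q ⟨n, hNle n.2⟩ ∈ S ↔ _
    constructor
    · intro h
      rw [← hself] at h
      exact mem_centralizer_iff.2 fun d hd => (lift_commute ⟨n, hNle n.2⟩ d hd
        (((mem_centralizer_iff.1 h) _ ⟨⟨d, hD9le hd⟩, hd, rfl⟩).symm)).eq.symm
    · intro h
      rw [← hself]
      refine mem_centralizer_iff.2 ?_
      rintro _ ⟨d, hd, rfl⟩
      rw [← map_mul, ← map_mul]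
      exact congrArg q (Subtype.ext (mem_centralizer_iff.1 h _ hd))
  let eQ : NS ⧸ S.subgroupOf NS ≃* DihedralGroup 4 :=
    ((QuotientGroup.quotientKerEquivOfSurjective r1 hr1s).symm.trans (QuotientGroup.quotientMulEquivOfEq hkeq)).trans
      (QuotientGroup.quotientKerEquivOfSurjective ρ hρs)
  have hcent : ∀ x ∈ S, x ≠ 1 → centralizer ({x} : Set (C ⧸ zpowers σC)) ≤ NS := by
    rintro _ ⟨⟨d, hdC⟩, hd, rfl⟩ hx a ha
    obtain ⟨c, rfl⟩ := QuotientGroup.mk'_surjective (zpowers σC) a
    have hcd : Commute (c : G) d := lift_commute c d hd (mem_centralizer_singleton_iff.1 ha)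
    suffices hc : (c : G) ∈ (normalizer (B.D9 : Set G)) by
      have := hto ⟨c, hc⟩
      exact this
    obtain ⟨r, hr, hre⟩ := id (mem_subgroupOf.1 hd)
    simp only at hre
    have viaz : ∀ y : G, Commute y B.z → Commute y B.sig → y ∈ (normalizer (B.D9 : Set G)) := by
      intro y hy hys
      obtain ⟨p, hp, rfl⟩ := B.exists_of_commute_z hy
      exact B.D9_normalizer (norm9_of_psig p hp (B.of_φ_commute hys))
    rw [← hre] at hcd
    rcases nine_cases r hr with e | e | e | e
    · exact absurd (show q ⟨d, hdC⟩ = 1 by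
        rw [show (⟨d, hdC⟩ : C) = 1 from Subtype.ext (by show d = 1; rw [← hre, e, map_one]), map_one]) hx
    · refine viaz _ ?_ (cC c)
      rcases zline_wline_link.1 r e with rfl | rfl
      · exact hcd
      · rw [map_inv] at hcd; exact Commute.inv_right_iff.1 hcd
    · have hcw : Commute (c : G) B.w := by
        rcases zline_wline_link.2.1 r e with rfl | rfl
        · exact hcd
        · rw [map_inv] at hcd; exact Commute.inv_right_iff.1 hcd
      have h1 := viaz (B.cg c) (by rw [B.cg_commute_iff, B.cg_z]; exact hcw)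
        (by rw [B.cg_commute_iff, B.cg_sig]; exact cC c)
      have h2 := mul_mem (mul_mem B.g_normalizer h1) B.g_normalizer
      rwa [← cg_apply, B.cg_cg] at h2
    · exact map_conj_normalizer fun y hy => B.conj_D9_of_mixed e hcd hy
  rcases Cfsg.Agent.S3333.result P S rfl hScard hself eQ hcent with h | h
  · refine Or.inl fun c hc => hback ⟨c, mC hc⟩ ?_
    rw [hNS, normalizer_eq_top_iff.2 h]; exact mem_top _
  · obtain ⟨e⟩ := h
    refine Or.inr ⟨e.toMonoidHom.comp q, e.surjective.comp (QuotientGroup.mk'_surjective _), fun c => ?_⟩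
    rw [MonoidHom.comp_apply, MulEquiv.coe_toMonoidHom, e.map_eq_one_iff]
    exact hker c

end Base

end CfsgLib.Recog.EightThreeSym
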