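import Cfsg.Agent.Lib.Recog.EightThreeSym.Sigma
import Cfsg.Agent.Lib.Recog.EightThreeSym.ModelB
import Cfsg.Agent.Lib.Recog.EightThreeSym.ModelSix

/-!
Owner: helper10. The case in which the transposition of the first factor goes to a product of two transpositions
of the second: the two alternating groups of degree five commute.
-/

set_option autoImplicit false
set_option linter.all false
set_option synthInstance.maxSize 1000
set_option maxHeartbeats 1600000

namespace CfsgLib.Recog.EightThreeSym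

open Subgroup Equiv CfsgLib.Recog.EightThree
open scoped Pointwise

universe u

theorem sign_five {b : S5} (h : b * b * b * b * b = 1) : Perm.sign b = 1 := by
  have h1 := congrArg Perm.sign h
  simp only [map_mul, map_one] at h1
  rcases Int.units_eq_one_or (Perm.sign b) with e | e
  · exact e
  · rw [e] at h1; exact absurd h1 (by decide)

theorem even_facts : Perm.sign W = 1 ∧ W * W * W = 1 ∧ W ≠ 1 ∧ Perm.sign pf.2 = 1 ∧ pf.2 * pf.2 = 1 ∧
    pf.2 ≠ (1 : S5) := by decide +kernel

/-- A subgroup of `S₅` containing `W`, `pf.2` and an element of order five contains every even permutation. -/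
theorem even_mem {A : Subgroup S5} (hW : W ∈ A) (hq : pf.2 ∈ A) {b5 : S5} (hb : b5 ∈ A)
    (h5 : b5 * b5 * b5 * b5 * b5 = 1) (h1 : b5 ≠ 1) {a : S5} (ha : Perm.sign a = 1) : a ∈ A := by
  classical
  haveI := Fact.mk Nat.prime_three
  haveI : Fact (Nat.Prime 5) := ⟨by norm_num⟩
  obtain ⟨wS, w3, w1, qS, q2, q1⟩ := even_facts
  set A' := A.subgroupOf (alternatingGroup (Fin 5)) with hA
  have key : ∀ {p : ℕ} [Fact p.Prime] (x : S5), Perm.sign x = 1 → x ∈ A → x ^ p = 1 → x ≠ 1 → p ∣ Nat.card A' := by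
    intro p _ x hs hx hp hne
    have hxa : x ∈ alternatingGroup (Fin 5) := Perm.mem_alternatingGroup.2 hs
    have := Subgroup.orderOf_dvd_natCard A' (x := ⟨x, hxa⟩) (mem_subgroupOf.2 hx)
    rwa [orderOf_mk, orderOf_eq_prime hp hne] at this
  have d3 := key (p := 3) W wS hW (by rw [pow_succ, pow_two]; exact w3) w1
  have d2 := key (p := 2) pf.2 qS hq (by rw [pow_two]; exact q2) q1
  have d5 := key (p := 5) b5 (sign_five h5) hb (by simp only [pow_succ, pow_zero, one_mul]; exact h5) h1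
  have h30 : 30 ∣ Nat.card A' :=
    Nat.Coprime.mul_dvd_of_dvd_of_dvd (by norm_num : Nat.Coprime 6 5)
      (Nat.Coprime.mul_dvd_of_dvd_of_dvd (by norm_num : Nat.Coprime 2 3) d2 d3) d5
  have h60 : Nat.card (alternatingGroup (Fin 5)) = 60 := by
    have := two_mul_nat_card_alternatingGroup (α := Fin 5)
    rw [Nat.card_perm, Nat.card_fin, show Nat.factorial 5 = 120 by decide] at this
    omega
  have h2 := A'.card_mul_index
  rw [h60] at h2
  obtain ⟨j, hj⟩ := h30
  rw [hj, mul_assoc] at h2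
  have h4 : j * A'.index = 2 := by omega
  have htop : A' = ⊤ := by
    have h5' : A'.index ≤ 2 := Nat.le_of_dvd two_pos ⟨j, by rw [← h4]; ring⟩
    have : A'.index ≠ 0 := index_ne_zero_of_finite
    rcases Nat.lt_or_ge A'.index 2 with h6 | h6
    · exact index_eq_one.1 (by omega)
    · haveI := normal_of_index_eq_two (H := A') (by omega)
      haveI : IsSimpleGroup (alternatingGroup (Fin 5)) := alternatingGroup.isSimpleGroup (by rw [Nat.card_fin])
      refine (Subgroup.Normal.eq_bot_or_eq_top (H := A') inferInstance).resolve_left fun e => ?_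
      rw [e, Subgroup.card_bot] at d2
      norm_num at d2
  exact mem_subgroupOf.1 (htop ▸ mem_top (⟨a, Perm.mem_alternatingGroup.2 ha⟩ : alternatingGroup (Fin 5)))

variable {G : Type u} [Group G] [Finite G]

theorem conj_invol_iff {p x : G} (hp : p * p = 1) : p * x * p⁻¹ = p * x * p := by
  rw [inv_eq_of_mul_eq_one_left hp]

namespace Base

variable (B : Base G)

include B

/-- The second factor. -/
def M2 : S5 →* G := B.φ.comp (MonoidHom.inr S3 S5)

/-- Its conjugate under `g`. -/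
def M1 : S5 →* G := B.cg.comp B.M2

theorem M2_apply (a : S5) : B.M2 a = B.φ (1, a) := rfl
theorem M1_apply (a : S5) : B.M1 a = B.cg (B.φ (1, a)) := rfl
theorem cg_M2 (a : S5) : B.cg (B.M2 a) = B.M1 a := rfl
theorem cg_M1 (a : S5) : B.cg (B.M1 a) = B.M2 a := B.cg_cg _
theorem M1_W : B.M1 W = B.z := B.cg_w
theorem M2_W : B.M2 W = B.w := rfl
theorem M1_c : B.M1 (swap 0 1) = B.sig := B.cg_sig
theorem M2_c : B.M2 (swap 0 1) = B.sig := rfl

theorem M1_commute_w (a : S5) : Commute (B.M1 a) B.w := by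
  rw [M1_apply, B.cg_commute_iff, B.cg_w]
  exact B.φ_commute (Prod.ext (by simp [pz]) (by simp [pz]))

theorem M2_commute_z (a : S5) : Commute (B.M2 a) B.z :=
  B.φ_commute (Prod.ext (by simp [pz]) (by simp [pz]))

theorem sig_ne_one : B.sig ≠ 1 := fun e => basic_pairs.2.2.2.1 (B.inj (e.trans (map_one B.φ).symm))
theorem sig_sq' : B.sig * B.sig = 1 := by rw [← map_mul, basic_pairs.2.2.1, map_one]
theorem xx_sq' : B.xx * B.xx = 1 := by rw [← map_mul, basic_pairs.2.2.2.2.1, map_one]

theorem cg_pf (hB : B.cg B.xx = B.φ pf) : B.cg (B.φ pf) = B.xx := by rw [← hB, B.cg_cg]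

theorem M1_pf (hB : B.cg B.xx = B.φ pf) : B.M1 pf.2 = B.xx := B.cg_pf hB

theorem cg_ps (hB : B.cg B.xx = B.φ pf) : B.cg (B.φ ps) = B.φ (psig * pxx) := by
  rw [show ps = psig * pf by decide +kernel, map_mul, map_mul, B.cg_sig, B.cg_pf hB, map_mul]

theorem sig_not_CV : B.sig ∉ B.CV := fun h => psig_four (B.of_φ_mem_CV h).1

/-- The projection to the second factor of the elements of `C(⟨pu, pv⟩)` centralising `w`. -/
def KC : Subgroup S5 where
  carrier := {b | ∃ a : S3, a * c3 = c3 * a ∧ B.cg (B.φ (a, b)) ∈ B.CV}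
  one_mem' := ⟨1, by rw [one_mul, mul_one], by rw [show ((1, 1) : Pair) = 1 from rfl, map_one, map_one]; exact one_mem _⟩
  mul_mem' := by
    rintro b b' ⟨a, ha, h⟩ ⟨a', ha', h'⟩
    refine ⟨a * a', (show Commute a c3 from ha).mul_left ha', ?_⟩
    rw [show ((a * a', b * b') : Pair) = (a, b) * (a', b') from rfl, map_mul, map_mul]
    exact mul_mem h h'
  inv_mem' := by
    rintro b ⟨a, ha, h⟩
    refine ⟨a⁻¹, (show Commute a c3 from ha).inv_left, ?_⟩
    rw [show ((a⁻¹, b⁻¹) : Pair) = (a, b)⁻¹ from rfl, map_inv, map_inv]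
    exact inv_mem h

theorem mem_KC {b : S5} : b ∈ B.KC ↔ ∃ a : S3, a * c3 = c3 * a ∧ B.cg (B.φ (a, b)) ∈ B.CV := Iff.rfl

theorem W_mem_KC : W ∈ B.KC := ⟨1, by rw [one_mul, mul_one], by
  rw [show ((1, W) : Pair) = pw from rfl, show B.cg (B.φ pw) = B.z from B.cg_w]; exact B.z_mem_CV⟩

theorem q_mem_KC (hB : B.cg B.xx = B.φ pf) : pf.2 ∈ B.KC := ⟨1, by rw [one_mul, mul_one], by
  rw [show ((1, pf.2) : Pair) = pf from rfl, B.cg_pf hB]; exact B.xx_mem_CV⟩

theorem c_notin_KC : swap 0 1 ∉ B.KC := by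
  rintro ⟨a, ha, h⟩
  refine B.sig_not_CV ?_
  have := pow_mem h 3
  rw [← map_pow, ← map_pow] at this
  rw [show ((a, swap 0 1) : Pair) ^ 3 = psig from Prod.ext
    (by rw [Prod.pow_fst, pow_succ, pow_two]; exact (sign_commute_c3 a ha).2)
    (by rw [Prod.pow_snd]; simp [pow_succ, psig]), B.cg_sig] at this
  exact this

theorem M1_mem_of_five {a : S3} {b : S5} (ha : a * c3 = c3 * a) (h5 : b * b * b * b * b = 1)
    (h : B.cg (B.φ (a, b)) ∈ B.CV) : B.M1 b ∈ B.CV := by
  have := pow_mem h 6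
  rw [← map_pow, ← map_pow] at this
  rwa [show ((a, b) : Pair) ^ 6 = (1, b) from Prod.ext
    (by rw [Prod.pow_fst]; simp only [pow_succ, pow_zero, one_mul]
        calc a * a * a * a * a * a = (a * a * a) * (a * a * a) := by group
          _ = 1 := by rw [(sign_commute_c3 a ha).2, one_mul])
    (by rw [Prod.pow_snd]; simp only [pow_succ, pow_zero, one_mul]; rw [h5, one_mul])] at this

/-- Either the centraliser of the four group is small, or it contains the first alternating group. -/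
theorem CV_dichotomy (hB : B.cg B.xx = B.φ pf) :
    B.CV ≤ B.φ.range ∨ ∀ a : S5, Perm.sign a = 1 → B.M1 a ∈ B.CV := by
  classical
  by_cases hK : ∀ b ∈ B.KC, b ∈ six
  · refine Or.inl (B.CV_le_of _ (fun c _ hz => ?_) fun c hc hw => ?_)
    · obtain ⟨p, -, rfl⟩ := B.exists_of_commute_z hz
      exact ⟨p, rfl⟩
    · obtain ⟨p, hp, rfl⟩ := B.exists_of_commute_w hw
      have hpa : p.1 * c3 = c3 * p.1 := congrArg Prod.fst hp
      have hb6 := hK p.2 ⟨p.1, hpa, hc⟩
      have hR : B.M1 p.2 ∈ B.CV ⊓ B.φ.range := by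
        have hzm : B.M1 W ∈ B.CV ⊓ B.φ.range := by rw [B.M1_W]; exact ⟨B.z_mem_CV, pz, rfl⟩
        have hxm : B.M1 pf.2 ∈ B.CV ⊓ B.φ.range := by rw [B.M1_pf hB]; exact ⟨B.xx_mem_CV, pxx, rfl⟩
        rcases six_shape p.2 hb6 with e | e | e | e | e | e <;> rw [e] <;>
          first
            | (rw [map_one]; exact one_mem _)
            | exact hzm
            | exact hxm
            | (rw [map_mul]; exact mul_mem hzm hzm)
            | (rw [map_mul]; exact mul_mem hxm hzm)
            | (rw [map_mul, map_mul]; exact mul_mem hxm (mul_mem hzm hzm))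
      have hsplit : B.cg (B.φ p) = B.cg (B.φ (p.1, 1)) * B.M1 p.2 := by
        rw [M1_apply, ← map_mul B.cg, ← map_mul B.φ]
        congr 2
      have hp1 : p.1 = 1 := by
        have h1 : B.cg (B.φ (p.1, 1)) ∈ B.CV := by
          rw [hsplit] at hc
          exact (Subgroup.mul_mem_cancel_right _ hR.1).1 hc
        rcases commute_pz p.1 hpa with e | e | e
        · exact e
        · exfalso
          rw [e, show ((c3, 1) : Pair) = pz from rfl, show B.cg (B.φ pz) = B.φ pw from B.cg_z] at h1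
          exact wline_not_four.1 (B.of_φ_mem_CV h1).1
        · exfalso
          rw [e, show ((c3 * c3, 1) : Pair) = pz * pz from rfl, map_mul, map_mul,
            show B.cg (B.φ pz) = B.φ pw from B.cg_z, ← map_mul] at h1
          exact wline_not_four.2 (B.of_φ_mem_CV h1).1
      rw [hsplit, hp1, show ((1, 1) : Pair) = 1 from rfl, map_one, map_one, one_mul]
      exact hR.2
  · push Not at hK
    obtain ⟨b, hb, hb6⟩ := hK
    refine Or.inr fun a ha => ?_
    obtain ⟨x, hx, hxp⟩ := List.any_eq_true.1 (six_words b hb6)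
    have hxK : x ∈ B.KC := by
      have hW := B.W_mem_KC
      have hq := B.q_mem_KC hB
      simp only [words, List.mem_cons, List.not_mem_nil, or_false] at hx
      rcases hx with rfl | rfl | rfl | rfl | rfl | rfl | rfl <;>
        repeat' first | exact hb | exact hW | exact hq | apply mul_mem
    rcases of_decide_eq_true hxp with rfl | ⟨h5, h1⟩
    · exact absurd hxK B.c_notin_KC
    · obtain ⟨a', ha', hx'⟩ := hxK
      exact even_mem (A := B.CV.comap B.M1) (mem_comap.2 (by rw [B.M1_W]; exact B.z_mem_CV))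
        (mem_comap.2 (by rw [B.M1_pf hB]; exact B.xx_mem_CV)) (mem_comap.2 (B.M1_mem_of_five ha' h5 hx')) h5 h1 ha

/-- The properties of the extra involution of an `S₆`-centraliser. -/
structure IsY (y : G) : Prop where
  sq : y * y = 1
  ne : y ≠ 1
  csig : Commute y B.sig
  cxx : Commute y B.xx
  prod : y * (B.w * y * B.w⁻¹) * (B.w * B.w * y * (B.w * B.w)⁻¹) = 1

theorem w_cube : B.w * B.w * B.w = 1 := by
  rw [← map_mul, ← map_mul, show pw * pw * pw = 1 by decide +kernel, map_one]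

theorem isY_conj {y : G} (hy : B.IsY y) : B.IsY (B.w * y * B.w⁻¹) where
  sq := conj_sq hy.sq
  ne := fun e => hy.ne (conj_eq_one_iff.1 e)
  csig := by
    have := commute_conj (k := B.w) hy.csig
    rwa [show B.w * B.sig * B.w⁻¹ = B.sig by
      rw [(B.φ_commute basic_pairs.2.1.symm : Commute B.w B.sig).eq, mul_inv_cancel_right]] at this
  cxx := by
    have := commute_conj (k := B.w) hy.cxx
    rwa [show B.w * B.xx * B.w⁻¹ = B.xx by
      rw [(B.φ_commute basic_pairs.2.2.2.2.2.1.symm : Commute B.w B.xx).eq, mul_inv_cancel_right]] at this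
  prod := by
    have h := congrArg (fun t => B.w * t * B.w⁻¹) hy.prod
    simp only [mul_one, mul_inv_cancel] at h
    rw [← h]; group

theorem pk_conj (hB : B.cg B.xx = B.φ pf) :
    B.cg (B.φ pk) * B.cg (B.φ pk) = 1 ∧ Commute (B.cg (B.φ pk)) B.w ∧ Commute (B.cg (B.φ pk)) B.xx ∧
      B.cg (B.φ pk) * B.sig * (B.cg (B.φ pk))⁻¹ = B.sig * B.xx := by
  obtain ⟨k2, kz, kf, ks, -⟩ := pk_facts
  refine ⟨by rw [← map_mul, ← map_mul, k2, map_one, map_one], ?_, ?_, ?_⟩
  · rw [← B.cg_z]; exact B.cg_commute (B.φ_commute kz)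
  · rw [← B.cg_pf hB]; exact B.cg_commute (B.φ_commute kf)
  · conv_lhs => rw [← B.cg_sig]
    rw [← map_inv B.cg, ← map_mul, ← map_mul, ← map_inv, ← map_mul, ← map_mul, ks, B.cg_ps hB, map_mul]

/-- The centraliser of the transposition. -/
abbrev CS : Subgroup G := centralizer ({B.sig} : Set G)

/-- In the `S₆`-case the extra involution can be chosen centralised by the image of `pk`. -/
theorem exists_Y (hB : B.cg B.xx = B.φ pf) (π : B.CS →* S6)
    (hπs : Function.Surjective π)
    (hπk : ∀ c : B.CS, π c = 1 ↔ ((c : G) = 1 ∨ (c : G) = B.sig)) :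
    ∃ y, B.IsY y ∧ Commute y (B.cg (B.φ pk)) := by
  classical
  have mC : ∀ {x : G}, Commute x B.sig → x ∈ B.CS := fun h => mem_centralizer_singleton_iff.2 h.eq
  have cC : ∀ x : B.CS, Commute (x : G) B.sig := fun x => (mem_centralizer_singleton_iff.1 x.2 :)
  have hsw : Commute B.w B.sig := B.φ_commute basic_pairs.2.1.symm
  have hsx : Commute B.xx B.sig := B.φ_commute basic_pairs.2.2.2.2.2.2.2.1
  have hwx : Commute B.w B.xx := B.φ_commute basic_pairs.2.2.2.2.2.1.symm
  set wC : B.CS := ⟨B.w, mC hsw⟩ with hwC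
  set xC : B.CS := ⟨B.xx, mC hsx⟩ with hxC
  set σC : B.CS := ⟨B.sig, mC (Commute.refl _)⟩ with hσC
  have hσk : π σC = 1 := (hπk σC).2 (Or.inr rfl)
  have hw3 : π wC * π wC * π wC = 1 := by
    rw [← map_mul, ← map_mul, show wC * wC * wC = 1 from Subtype.ext B.w_cube, map_one]
  have hw1 : π wC ≠ 1 := fun e => by
    rcases (hπk wC).1 e with r | r
    · exact absurd (B.inj (r.trans (map_one B.φ).symm)) (by decide +kernel)
    · exact absurd (B.inj r) (by decide +kernel)
  have hx2 : π xC * π xC = 1 := by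
    rw [← map_mul, show xC * xC = 1 from Subtype.ext B.xx_sq', map_one]
  have hx1 : π xC ≠ 1 := fun e => by
    rcases (hπk xC).1 e with r | r
    · exact absurd (B.inj (r.trans (map_one B.φ).symm)) (by decide +kernel)
    · exact absurd (B.inj r) (by decide +kernel)
  have hxw : π xC * π wC = π wC * π xC := by
    rw [← map_mul, ← map_mul, show xC * wC = wC * xC from Subtype.ext hwx.symm.eq]
  obtain ⟨nosq, ⟨y6, y2, y1, yY⟩, uniq⟩ := six_three hw3 hw1 hx2 hx1 hxw
  obtain ⟨p2, pw', px', pσ⟩ := B.pk_conj hB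
  set p0 := B.cg (B.φ pk) with hp0
  have pi : p0⁻¹ = p0 := inv_eq_of_mul_eq_one_left p2
  -- conjugation by `p0` inside the centralisers of `σ` and `x`
  have pback : ∀ {a : G}, Commute a B.sig → Commute a B.xx → Commute (p0 * a * p0) B.sig := by
    intro a h1 h2
    have := commute_conj (k := p0) (h1.mul_right h2)
    rw [show p0 * (B.sig * B.xx) * p0⁻¹ = B.sig by
      rw [← pσ, pi]
      calc p0 * (p0 * B.sig * p0) * p0 = (p0 * p0) * B.sig * (p0 * p0) := by group
        _ = B.sig := by rw [p2, one_mul, mul_one], pi] at this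
    exact this
  obtain ⟨c, hc⟩ := hπs y6
  obtain ⟨ycomm, yprod⟩ := yY
  have hprod0 : π (c * (wC * c * wC⁻¹) * (wC * wC * c * (wC * wC)⁻¹)) = 1 := by
    simp only [map_mul, map_inv, hc]; exact yprod
  -- `c` centralises `x`
  have hcx : Commute (c : G) B.xx := by
    have h : π (c * xC * c⁻¹ * xC⁻¹) = 1 := by
      rw [map_mul, map_mul, map_mul, map_inv, map_inv, hc, ycomm, mul_inv_cancel_right, mul_inv_cancel]
    rcases (hπk _).1 h with e | e
    · exact conj_eq_iff.1 (mul_inv_eq_one.1 e)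
    · exfalso
      have e' : (c : G) * B.xx * (c : G)⁻¹ = B.sig * B.xx := mul_inv_eq_iff_eq_mul.1 e
      have hcs := cC c
      have key : ∀ d : G, d * B.xx * d⁻¹ = B.sig * B.xx → ∀ k : G, Commute k B.sig → Commute k B.xx →
          k * d * k⁻¹ * B.xx * (k * d * k⁻¹)⁻¹ = B.sig * B.xx := by
        intro d hd k k1 k2
        calc k * d * k⁻¹ * B.xx * (k * d * k⁻¹)⁻¹ = k * (d * (k⁻¹ * B.xx * k) * d⁻¹) * k⁻¹ := by group
          _ = k * (B.sig * B.xx) * k⁻¹ := by rw [mul_assoc k⁻¹, ← k2.eq, inv_mul_cancel_left, hd]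
          _ = B.sig * B.xx := by rw [(k1.mul_right k2).eq, mul_inv_cancel_right]
      set d1 := B.w * (c : G) * B.w⁻¹
      set d2 := B.w * B.w * (c : G) * (B.w * B.w)⁻¹
      have e1 := key _ e' B.w hsw hwx
      have e2 := key _ e' (B.w * B.w) (hsw.mul_left hsw) (hwx.mul_left hwx)
      have hd1 : Commute d1 B.sig := by
        have := cC (wC * c * wC⁻¹); exact this
      have hsig : ∀ d : G, Commute d B.sig → d * B.sig * d⁻¹ = B.sig := fun d h => by
        rw [h.eq, mul_inv_cancel_right]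
      have h3 : ((c : G) * d1 * d2) * B.xx * ((c : G) * d1 * d2)⁻¹ = B.sig * B.xx := by
        calc ((c : G) * d1 * d2) * B.xx * ((c : G) * d1 * d2)⁻¹
            = (c : G) * (d1 * (d2 * B.xx * d2⁻¹) * d1⁻¹) * (c : G)⁻¹ := by group
          _ = (c : G) * ((d1 * B.sig * d1⁻¹) * (d1 * B.xx * d1⁻¹)) * (c : G)⁻¹ := by rw [e2]; group
          _ = (c : G) * (B.sig * (B.sig * B.xx)) * (c : G)⁻¹ := by rw [e1, hsig _ hd1]
          _ = B.sig * B.xx := by rw [← mul_assoc B.sig, B.sig_sq', one_mul, e']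
      have h4 : Commute ((c : G) * d1 * d2) B.xx := by
        rcases (hπk _).1 hprod0 with r | r
        · rw [show (c : G) * d1 * d2 = 1 from r]; exact Commute.one_left _
        · rw [show (c : G) * d1 * d2 = B.sig from r]; exact hsx.symm
      rw [h4.eq, mul_inv_cancel_right] at h3
      exact B.sig_ne_one (right_eq_mul.1 h3)
  -- `c` is an involution
  have hc2 : (c : G) * c = 1 := by
    have h : π (c * c) = 1 := by rw [map_mul, hc, y2]
    rcases (hπk _).1 h with e | e
    · exact e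
    · exfalso
      have hd : Commute (p0 * (c : G) * p0) B.sig := pback (cC c) hcx
      refine nosq (π ⟨_, mC hd⟩) ?_
      rw [← map_mul]
      have : (⟨_, mC hd⟩ * ⟨_, mC hd⟩ : B.CS) = σC * xC := Subtype.ext (by
        show p0 * (c : G) * p0 * (p0 * (c : G) * p0) = B.sig * B.xx
        calc p0 * (c : G) * p0 * (p0 * (c : G) * p0) = p0 * ((c : G) * (p0 * p0) * c) * p0 := by group
          _ = B.sig * B.xx := by rw [p2, mul_one, show (c : G) * c = B.sig from e, ← pσ, pi])
      rw [this, map_mul, hσk, one_mul]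
  -- the distinguished lift
  obtain ⟨c', hc', hY⟩ : ∃ c' : B.CS, π c' = y6 ∧ B.IsY c' := by
    have hne : ∀ c' : B.CS, π c' = y6 → (c' : G) ≠ 1 := fun c' h e => y1 (by
      rw [← h, show c' = 1 from Subtype.ext e, map_one])
    rcases (hπk _).1 hprod0 with e | e
    · exact ⟨c, hc, hc2, hne c hc, cC c, hcx, e⟩
    · have hπ : π (σC * c) = y6 := by rw [map_mul, hσk, one_mul, hc]
      refine ⟨σC * c, hπ, ?_, hne _ hπ, cC _, hsx.symm.mul_left hcx, ?_⟩
      · show B.sig * (c : G) * (B.sig * (c : G)) = 1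
        rw [(cC c).mul_mul_mul_comm, B.sig_sq', hc2, one_mul]
      · set d1 := B.w * (c : G) * B.w⁻¹
        set d2 := B.w * B.w * (c : G) * (B.w * B.w)⁻¹
        have hd1 : Commute d1 B.sig := cC (wC * c * wC⁻¹)
        have e1 : B.w * (B.sig * (c : G)) * B.w⁻¹ = B.sig * d1 := by
          rw [← mul_assoc B.w, hsw.eq, mul_assoc B.sig, mul_assoc B.sig]
        have e2 : B.w * B.w * (B.sig * (c : G)) * (B.w * B.w)⁻¹ = B.sig * d2 := by
          rw [← mul_assoc (B.w * B.w), (hsw.mul_left hsw).eq, mul_assoc B.sig, mul_assoc B.sig]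
        show B.sig * (c : G) * (B.w * (B.sig * (c : G)) * B.w⁻¹) *
          (B.w * B.w * (B.sig * (c : G)) * (B.w * B.w)⁻¹) = 1
        rw [e1, e2, (cC c).mul_mul_mul_comm B.sig d1, B.sig_sq', one_mul, ← mul_assoc,
          (((cC c).mul_left hd1)).eq, mul_assoc, show (c : G) * d1 * d2 = B.sig from e, B.sig_sq']
  -- uniqueness
  have huniq : ∀ y', B.IsY y' → y' = (c' : G) ∨ y' = B.w * c' * B.w⁻¹ ∨ y' = B.w * B.w * c' * (B.w * B.w)⁻¹ := by
    intro y' h'
    set d : B.CS := ⟨y', mC h'.csig⟩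
    have hd1 : π d ≠ 1 := fun e => by
      rcases (hπk d).1 e with r | r
      · exact h'.ne r
      · have h := h'.prod
        rw [show y' = B.sig from r, show B.w * B.sig * B.w⁻¹ = B.sig by rw [hsw.eq, mul_inv_cancel_right],
          show B.w * B.w * B.sig * (B.w * B.w)⁻¹ = B.sig by rw [(hsw.mul_left hsw).eq, mul_inv_cancel_right],
          B.sig_sq', one_mul] at h
        exact B.sig_ne_one h
    have hd2 : π d * π d = 1 := by rw [← map_mul, show d * d = 1 from Subtype.ext h'.sq, map_one]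
    have hdY : YSet (π wC) (π xC) (π d) := by
      refine ⟨by rw [← map_mul, ← map_mul, show d * xC = xC * d from Subtype.ext h'.cxx.eq], ?_⟩
      simp only [← map_inv, ← map_mul]
      rw [show d * (wC * d * wC⁻¹) * (wC * wC * d * (wC * wC)⁻¹) = 1 from Subtype.ext h'.prod, map_one]
    have fix : ∀ (e : B.CS) (hYe : B.IsY (e : G)), π d = π e → y' = (e : G) := by
      intro e hYe he
      have h : π (d * e⁻¹) = 1 := by rw [map_mul, map_inv, he, mul_inv_cancel]
      rcases (hπk _).1 h with r | r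
      · exact mul_inv_eq_one.1 r
      · exfalso
        have hy' : y' = B.sig * (e : G) := mul_inv_eq_iff_eq_mul.1 r
        have h := h'.prod
        rw [hy'] at h
        have hd1 : Commute (B.w * (e : G) * B.w⁻¹) B.sig := (B.isY_conj hYe).csig
        have e1 : B.w * (B.sig * (e : G)) * B.w⁻¹ = B.sig * (B.w * (e : G) * B.w⁻¹) := by
          rw [← mul_assoc B.w, hsw.eq, mul_assoc B.sig, mul_assoc B.sig]
        have e2 : B.w * B.w * (B.sig * (e : G)) * (B.w * B.w)⁻¹ = B.sig * (B.w * B.w * (e : G) * (B.w * B.w)⁻¹) := by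
          rw [← mul_assoc (B.w * B.w), (hsw.mul_left hsw).eq, mul_assoc B.sig, mul_assoc B.sig]
        rw [e1, e2, (cC e).mul_mul_mul_comm B.sig, B.sig_sq', one_mul, ← mul_assoc,
          ((cC e).mul_left hd1).eq, mul_assoc, hYe.prod, mul_one] at h
        exact B.sig_ne_one h
    have hYw2 := B.isY_conj (B.isY_conj hY)
    rw [show B.w * (B.w * (c' : G) * B.w⁻¹) * B.w⁻¹ = B.w * B.w * (c' : G) * (B.w * B.w)⁻¹ by group] at hYw2
    rcases (uniq y6 y2 y1 ⟨ycomm, yprod⟩).2 _ hd2 hd1 hdY with r | r | r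
    · exact Or.inl (fix c' hY (r.trans hc'.symm))
    · exact Or.inr (Or.inl (fix (wC * c' * wC⁻¹) (B.isY_conj hY) (by simp only [map_mul, map_inv, hc', r])))
    · exact Or.inr (Or.inr (fix (wC * wC * c' * (wC * wC)⁻¹) hYw2 (by simp only [map_mul, map_inv, hc', r])))
  refine ⟨c', hY, ?_⟩
  have hYp : B.IsY (p0 * c' * p0) := by
    have hpcw : p0 * B.w * p0 = B.w := by rw [pw'.eq, mul_assoc, p2, mul_one]
    refine ⟨?_, fun e => hY.ne ?_, pback hY.csig hY.cxx, ?_, ?_⟩
    · calc p0 * (c' : G) * p0 * (p0 * c' * p0) = p0 * ((c' : G) * (p0 * p0) * c') * p0 := by group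
        _ = 1 := by rw [p2, mul_one, hY.sq, mul_one, p2]
    · rw [← conj_invol_iff p2] at e; exact conj_eq_one_iff.1 e
    · rw [← conj_invol_iff p2]
      have := commute_conj (k := p0) hY.cxx
      rwa [px'.eq, mul_inv_cancel_right] at this
    · have h1 : ∀ a : G, B.w * (p0 * a * p0) * B.w⁻¹ = p0 * (B.w * a * B.w⁻¹) * p0 := fun a => by
        rw [← conj_invol_iff p2, ← conj_invol_iff p2]
        calc B.w * (p0 * a * p0⁻¹) * B.w⁻¹ = (B.w * p0) * a * (B.w * p0)⁻¹ := by group
          _ = p0 * (B.w * a * B.w⁻¹) * p0⁻¹ := by rw [← pw'.eq]; group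
      rw [show B.w * B.w * (p0 * (c' : G) * p0) * (B.w * B.w)⁻¹ = B.w * (B.w * (p0 * c' * p0) * B.w⁻¹) * B.w⁻¹ by group,
        h1, h1]
      calc p0 * (c' : G) * p0 * (p0 * (B.w * c' * B.w⁻¹) * p0) * (p0 * (B.w * (B.w * c' * B.w⁻¹) * B.w⁻¹) * p0)
          = p0 * ((c' : G) * (p0 * p0) * (B.w * c' * B.w⁻¹) * (p0 * p0) *
              (B.w * B.w * c' * (B.w * B.w)⁻¹)) * p0 := by group
        _ = 1 := by rw [p2, mul_one, mul_one, hY.prod, mul_one, p2]
  have hfree : ¬ Commute B.w (c' : G) := fun h => (uniq y6 y2 y1 ⟨ycomm, yprod⟩).1 (by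
    rw [← hc']
    simp only [← map_inv, ← map_mul]
    rw [show wC * c' * wC⁻¹ = c' from Subtype.ext (by
      show B.w * (c' : G) * B.w⁻¹ = c'
      rw [h.eq, mul_inv_cancel_right])])
  -- `p0` acts as a power of `w`, hence trivially
  have hback : ∀ i : G, Commute p0 i → p0 * (c' : G) * p0 = i * c' * i⁻¹ → Commute (i * i) (c' : G) := by
    intro i hi he
    refine conj_eq_iff.1 ?_
    calc i * i * (c' : G) * (i * i)⁻¹ = i * (i * c' * i⁻¹) * i⁻¹ := by group
      _ = i * (p0 * c' * p0) * i⁻¹ := by rw [he]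
      _ = (i * p0) * c' * (i * p0)⁻¹ := by rw [← conj_invol_iff p2]; group
      _ = p0 * (i * c' * i⁻¹) * p0⁻¹ := by rw [← hi.eq]; group
      _ = c' := by
        rw [← he, conj_invol_iff p2]
        calc p0 * (p0 * (c' : G) * p0) * p0 = (p0 * p0) * c' * (p0 * p0) := by group
          _ = c' := by rw [p2, one_mul, mul_one]
  rcases huniq _ hYp with e | e | e
  · refine (conj_eq_iff.1 ?_).symm
    rw [conj_invol_iff p2]; exact e
  · refine absurd ?_ hfree
    have h := hback B.w pw' e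
    have h2 := h.mul_left h
    rwa [show B.w * B.w * (B.w * B.w) = (B.w * B.w * B.w) * B.w by group, B.w_cube, one_mul] at h2
  · refine absurd ?_ hfree
    have h := hback (B.w * B.w) (pw'.mul_right pw') e
    rwa [show B.w * B.w * (B.w * B.w) = (B.w * B.w * B.w) * B.w by group, B.w_cube, one_mul] at h

theorem mul_M2 {v : S5} (hv : v ∈ four) : B.φ (1, v) ∈ B.CV :=
  B.φ_mem_CV (four_mul.2.2.2.1 v hv).1 (four_mul.2.2.2.1 v hv).2

theorem commute_four_M1 (hall : ∀ a : S5, Perm.sign a = 1 → B.M1 a ∈ B.CV) {v : S5} (hv : v ∈ four) {a : S5}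
    (ha : Perm.sign a = 1) : Commute (B.φ (1, v)) (B.M1 a) := by
  obtain ⟨h1, h2⟩ := B.mem_CV.1 (hall a ha)
  have key : ∀ v ∈ four, ((1, v) : Pair) = 1 ∨ ((1, v) : Pair) = pu ∨ ((1, v) : Pair) = pv ∨
      ((1, v) : Pair) = pu * pv := by decide +kernel
  rcases key v hv with e | e | e | e <;> rw [e]
  · rw [map_one]; exact Commute.one_left _
  · exact h1.symm
  · exact h2.symm
  · rw [map_mul]; exact h1.symm.mul_left h2.symm

/-- In the second case of the dichotomy, the centraliser of the four group is its product with the first factor. -/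
theorem CV_product (hB : B.cg B.xx = B.φ pf) (hall : ∀ a : S5, Perm.sign a = 1 → B.M1 a ∈ B.CV) {x : G}
    (hx : x ∈ B.CV) : ∃ v ∈ four, ∃ a : S5, Perm.sign a = 1 ∧ B.φ (1, v) * B.M1 a = x := by
  classical
  let F : Subgroup G :=
    { carrier := {x | ∃ v ∈ four, ∃ a : S5, Perm.sign a = 1 ∧ B.φ (1, v) * B.M1 a = x}
      one_mem' := ⟨1, four_mul.1, 1, map_one _, by
        rw [show ((1, 1) : Pair) = 1 from rfl, map_one, map_one, one_mul]⟩
      mul_mem' := by
        rintro _ _ ⟨v, hv, a, ha, rfl⟩ ⟨v', hv', a', ha', rfl⟩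
        refine ⟨v * v', four_mul.2.1 v hv v' hv', a * a', by rw [map_mul, ha, ha', one_mul], ?_⟩
        rw [show ((1, v * v') : Pair) = (1, v) * (1, v') from Prod.ext (one_mul 1).symm rfl, map_mul, map_mul,
          (B.commute_four_M1 hall hv' ha).symm.mul_mul_mul_comm]
      inv_mem' := by
        rintro _ ⟨v, hv, a, ha, rfl⟩
        refine ⟨v⁻¹, four_mul.2.2.1 v hv, a⁻¹, by rw [map_inv, ha, inv_one], ?_⟩
        rw [show ((1, v⁻¹) : Pair) = (1, v)⁻¹ from Prod.ext inv_one.symm rfl, map_inv, map_inv, mul_inv_rev]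
        exact (B.commute_four_M1 hall hv ha).inv_inv.eq }
  refine B.CV_le_of F ?_ ?_ hx
  · intro c hc hz
    obtain ⟨p, hp1, hp2, rfl⟩ := B.exists_of_CV_commute_z hc hz
    have hsplit : B.φ p = B.φ (1, p.2) * B.φ (p.1, 1) := by
      rw [← map_mul]
      exact congrArg _ (Prod.ext (one_mul _).symm (mul_one _).symm)
    have hz' : B.φ (c3, 1) = B.M1 W := B.M1_W.symm
    refine ⟨p.2, hp2, ?_⟩
    rcases hp1 with e | e | e
    · exact ⟨1, map_one _, by rw [hsplit, e, show ((1, 1) : Pair) = 1 from rfl, map_one B.φ, map_one]⟩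
    · exact ⟨W, even_facts.1, by rw [hsplit, e, hz']⟩
    · exact ⟨W * W, by rw [map_mul, even_facts.1, one_mul], by
        rw [hsplit, e, show ((c3 * c3, 1) : Pair) = (c3, 1) * (c3, 1) from rfl, map_mul B.φ, hz', map_mul]⟩
  · intro c hc hw
    obtain ⟨p, hp, rfl⟩ := B.exists_of_commute_w hw
    have hpa : p.1 * c3 = c3 * p.1 := congrArg Prod.fst hp
    have hA : ∀ a : S5, Perm.sign a = 1 → a ∈ B.KC := fun a ha => ⟨1, by rw [one_mul, mul_one], hall a ha⟩
    have hev : Perm.sign p.2 = 1 := by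
      by_contra hod
      refine B.c_notin_KC ?_
      have h1 := (Int.units_eq_one_or (Perm.sign p.2)).resolve_left hod
      have hK : p.2 ∈ B.KC := ⟨p.1, hpa, hc⟩
      have := mul_mem (hA (swap 0 1 * p.2⁻¹) (by
        rw [map_mul, map_inv, h1, Perm.sign_swap (by decide)]; decide)) hK
      rwa [inv_mul_cancel_right] at this
    have hsplit : B.cg (B.φ p) = B.cg (B.φ (p.1, 1)) * B.M1 p.2 := by
      rw [M1_apply, ← map_mul B.cg, ← map_mul B.φ]
      congr 2
    have h1 : B.cg (B.φ (p.1, 1)) ∈ B.CV := by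
      rw [hsplit] at hc
      exact (Subgroup.mul_mem_cancel_right _ (hall _ hev)).1 hc
    refine ⟨1, four_mul.1, p.2, hev, ?_⟩
    rw [hsplit, show ((1, 1) : Pair) = 1 from rfl, map_one B.φ]
    rcases commute_pz p.1 hpa with e | e | e
    · rw [e, show ((1, 1) : Pair) = 1 from rfl, map_one B.φ, map_one]
    · exfalso
      rw [e, show ((c3, 1) : Pair) = pz from rfl, show B.cg (B.φ pz) = B.φ pw from B.cg_z] at h1
      exact wline_not_four.1 (B.of_φ_mem_CV h1).1
    · exfalso
      rw [e, show ((c3 * c3, 1) : Pair) = pz * pz from rfl, map_mul, map_mul,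
        show B.cg (B.φ pz) = B.φ pw from B.cg_z, ← map_mul] at h1
      exact wline_not_four.2 (B.of_φ_mem_CV h1).1

/-- The centraliser of the transposition normalises `⟨z, w⟩`. -/
theorem commute_sig_normalizer (hB : B.cg B.xx = B.φ pf) (ρ : normalizer (B.D9 : Set G) →* DihedralGroup 4)
    (hρs : Function.Surjective ρ)
    (hρk : ∀ x : normalizer (B.D9 : Set G), ρ x = 1 ↔ (x : G) ∈ centralizer (B.D9 : Set G))
    {c : G} (hc : Commute c B.sig) : c ∈ normalizer (B.D9 : Set G) := by
  classical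
  rcases B.sigma_cases ρ hρs hρk with h | ⟨π, hπs, hπk⟩
  · exact h c hc
  exfalso
  obtain ⟨y, hy, hyp⟩ := B.exists_Y hB π hπs hπk
  obtain ⟨-, -, -, -, hz, hx, hf, hk, hs⟩ := pk_facts
  set y' := B.φ ph * B.cg y * (B.φ ph)⁻¹ with hy'
  have conj_φ : ∀ {q r : Pair}, ph * q * ph⁻¹ = r → B.φ ph * B.φ q * (B.φ ph)⁻¹ = B.φ r := fun {q r} e => by
    rw [← map_inv, ← map_mul, ← map_mul, e]
  have cs : Commute y' (B.φ ps) := by
    rw [← conj_φ hs]
    refine commute_conj ?_
    show Commute (B.cg y) B.sig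
    rw [← B.cg_sig]; exact B.cg_commute hy.csig
  have cu : Commute y' (B.φ pu) := by
    rw [← conj_φ hf, ← hB]; exact commute_conj (B.cg_commute hy.cxx)
  have cv : Commute y' (B.φ pv) := by
    rw [← conj_φ hk]
    have h := B.cg_commute hyp
    rw [B.cg_cg] at h
    exact commute_conj h
  have hz2 : y' * y' = 1 := conj_sq (by rw [← map_mul, hy.sq, map_one])
  have hy1 : y' ≠ 1 := fun e => hy.ne (by
    have := conj_eq_one_iff.1 e
    rw [← B.cg_cg y, this, map_one])
  have hpr : y' * (B.z * y' * B.z⁻¹) * (B.z * B.z * y' * (B.z * B.z)⁻¹) = 1 := by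
    have hzp : Commute B.z (B.φ ph) := B.φ_commute hz.symm
    have e1 : B.z * y' * B.z⁻¹ = B.φ ph * (B.z * B.cg y * B.z⁻¹) * (B.φ ph)⁻¹ := by
      calc B.z * y' * B.z⁻¹ = (B.z * B.φ ph) * B.cg y * (B.z * B.φ ph)⁻¹ := by rw [hy']; group
        _ = _ := by rw [hzp.eq]; group
    have e2 : B.z * B.z * y' * (B.z * B.z)⁻¹ = B.φ ph * (B.z * B.z * B.cg y * (B.z * B.z)⁻¹) * (B.φ ph)⁻¹ := by
      calc B.z * B.z * y' * (B.z * B.z)⁻¹ = (B.z * B.z * B.φ ph) * B.cg y * (B.z * B.z * B.φ ph)⁻¹ := by rw [hy']; group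
        _ = _ := by rw [(hzp.mul_left hzp).eq]; group
    rw [e1, e2, hy', conj_mul, conj_mul, show B.z = B.cg B.w from B.cg_w.symm, ← map_inv B.cg, ← map_mul, ← map_mul,
      ← map_mul B.cg B.w B.w, ← map_inv B.cg, ← map_mul, ← map_mul, ← map_mul, ← map_mul, hy.prod, map_one, mul_one,
      mul_inv_cancel]
  have hmem : y' ∈ B.CV := B.mem_CV.2 ⟨cu, cv⟩
  rcases B.CV_dichotomy hB with hsm | hall
  · obtain ⟨p, hp⟩ := hsm hmem
    obtain ⟨h1, h2⟩ := B.of_φ_mem_CV (hp ▸ hmem)
    refine z_relation_small p ?_ (B.inj (by rw [map_mul, hp, hz2, map_one]))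
      (fun e => hy1 (by rw [← hp, e, map_one])) (B.inj ?_)
    · have key : ∀ p : Pair, p * pu = pu * p → p * pv = pv * p → p.2 ∈ four := by decide +kernel
      exact key p h1 h2
    · simp only [map_mul, map_inv, hp, map_one]; exact hpr
  · obtain ⟨v, hv, a, ha, hva⟩ := B.CV_product hB hall hmem
    set a' := a * (W * a * W⁻¹) * (W * W * a * (W * W)⁻¹) with ha'
    have hev : ∀ k : S5, Perm.sign (k * a * k⁻¹) = 1 := fun k => by
      rw [map_mul, map_mul, ha, mul_one, map_inv, mul_inv_cancel]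
    have hM : B.φ (1, v) * B.φ (1, v) * B.φ (1, v) * B.M1 a' = 1 := by
      have hzv : Commute B.z (B.φ (1, v)) := (B.M2_commute_z v).symm
      have e1 : B.z * y' * B.z⁻¹ = B.φ (1, v) * B.M1 (W * a * W⁻¹) := by
        rw [← hva, ← mul_assoc B.z, hzv.eq, map_mul, map_mul, map_inv, B.M1_W]; group
      have e2 : B.z * B.z * y' * (B.z * B.z)⁻¹ = B.φ (1, v) * B.M1 (W * W * a * (W * W)⁻¹) := by
        rw [← hva, ← mul_assoc (B.z * B.z), (hzv.mul_left hzv).eq, map_mul, map_mul, map_inv, map_mul, B.M1_W]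
        group
      have c1 := B.commute_four_M1 hall hv ha
      have c2 := B.commute_four_M1 hall hv (hev W)
      rw [e1, e2, ← hva, c1.symm.mul_mul_mul_comm,
        ((c1.symm.mul_left c2.symm)).mul_mul_mul_comm] at hpr
      rw [ha', map_mul, map_mul]
      exact hpr
    have hcw : Commute (B.φ ((1, v) * (1, v) * (1, v))) B.w := by
      rw [map_mul, map_mul, eq_inv_of_mul_eq_one_left hM]
      exact (B.M1_commute_w a').inv_left
    have hv3 : ((1, v) : Pair) * (1, v) * (1, v) = (1, v) := by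
      have : ∀ v ∈ four, ((1, v) : Pair) * (1, v) * (1, v) = (1, v) := by decide +kernel
      exact this v hv
    rw [hv3] at hcw
    have hv1 : v = 1 := four_mul.2.2.2.2 v hv (congrArg Prod.snd (B.of_φ_commute hcw))
    subst hv1
    rw [show ((1, 1) : Pair) = 1 from rfl, map_one B.φ] at hM hva
    rw [one_mul] at hva
    simp only [one_mul] at hM
    have M1inj : Function.Injective B.M1 := fun p q e => by
      have := congrArg B.cg e
      rw [M1_apply, M1_apply, B.cg_cg, B.cg_cg] at this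
      exact congrArg Prod.snd (B.inj this)
    refine z_relation_big a ha (M1inj (by rw [map_mul, hva, hz2, map_one]))
      (fun e => hy1 (by rw [← hva, e, map_one])) ?_ (M1inj (hM.trans (map_one _).symm))
    have : Commute (B.φ (1, a)) (B.φ (psig * pxx)) := by
      rw [← B.cg_ps hB, ← B.cg_commute_iff]
      exact hva ▸ cs
    have h2 := congrArg Prod.snd (B.of_φ_commute this)
    simpa [psig, pxx] using h2

theorem eq_g_φ {n : G} (hn : n ∈ normalizer (B.D9 : Set G)) : (∃ p, B.φ p = n) ∨ ∃ p, B.g * B.φ p = n := by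
  obtain ⟨r, hr, hre⟩ := (mem_normalizer_iff.1 hn B.z).1 B.z_mem_D9
  have hr1 : r ≠ 1 := fun e => B.z_ne_one (conj_eq_one_iff.1 (by rw [← hre, e, map_one]))
  have h360 : Nat.card (centralizer ({B.φ r} : Set G)) = 360 := by
    rw [hre, card_centralizer_conj, B.card_centralizer_z]
  rcases nine_cases r hr with e | e | e | e
  · exact absurd e hr1
  · left
    refine B.exists_of_normalizes ?_
    rcases zline_wline_link.1 r e with rfl | rfl
    · exact Or.inl hre.symm
    · exact Or.inr (by rw [← hre, map_inv])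
  · right
    obtain ⟨p, hp⟩ := B.exists_of_normalizes (x := B.g * n) (by
      have h : B.g * n * B.z * (B.g * n)⁻¹ = B.cg (n * B.z * n⁻¹) := by
        rw [cg_apply, mul_inv_rev, B.g_inv]; group
      rw [h, ← hre]
      rcases zline_wline_link.2.1 r e with rfl | rfl
      · exact Or.inl B.cg_w
      · exact Or.inr (by rw [map_inv, map_inv]; exact congrArg _ B.cg_w))
    exact ⟨p, by rw [hp, B.gg]⟩
  · rw [B.card_mixed e] at h360
    norm_num at h360

/-- The small case does not occur: the first factor centralises the four group. -/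
theorem M1_mem_CV (hB : B.cg B.xx = B.φ pf) (ρ : normalizer (B.D9 : Set G) →* DihedralGroup 4)
    (hρs : Function.Surjective ρ)
    (hρk : ∀ x : normalizer (B.D9 : Set G), ρ x = 1 ↔ (x : G) ∈ centralizer (B.D9 : Set G))
    {a0 : S5} (ha0 : Perm.sign a0 = 1) : B.M1 a0 ∈ B.CV := by
  classical
  rcases B.CV_dichotomy hB with hsm | hall
  swap
  · exact hall a0 ha0
  exfalso
  obtain ⟨-, -, -, -, hhz, hhx, hf, hk, hs⟩ := pk_facts
  obtain ⟨u2, v2, vsv, uv, wu, wv, su, sx, ux, vx⟩ := four_actions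
  set x := B.xx
  set u := B.φ pu with hu
  set v := B.φ pv with hv
  set s := B.φ ps with hsdef
  set h := B.φ ph with hh
  have xx2 : x * x = 1 := B.xx_sq'
  have uu : u * u = 1 := by rw [hu, ← map_mul, u2, map_one]
  have vv : v * v = 1 := by rw [hv, ← map_mul, v2, map_one]
  have ss : s * s = 1 := by rw [hsdef, ← map_mul, show ps * ps = 1 by decide +kernel, map_one]
  have cuv : Commute u v := B.φ_commute uv
  have csu : Commute s u := B.φ_commute su
  have csx : Commute s x := B.φ_commute sx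
  have cux : Commute u x := B.φ_commute ux
  have cvx : Commute v x := B.φ_commute vx
  have evsv : v * s * v = s * u := by rw [hv, hsdef, hu, ← map_mul, ← map_mul, vsv, map_mul]
  have conj_φ : ∀ {q r : Pair}, ph * q * ph⁻¹ = r → h * B.φ q * h⁻¹ = B.φ r := fun {q r} e => by
    rw [hh, ← map_inv, ← map_mul, ← map_mul, e]
  have hfu : h * B.φ pf * h⁻¹ = u := conj_φ hf
  have hss : h * B.sig * h⁻¹ = s := conj_φ hs
  have hxx : h * x * h⁻¹ = x := by
    rw [hh, (B.φ_commute hhx : Commute (B.φ ph) x).eq, mul_inv_cancel_right]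
  obtain ⟨p02, p0w, p0x, p0σ⟩ := B.pk_conj hB
  obtain ⟨p, hp⟩ : ∃ p, p = h * B.cg (B.φ pk) * h⁻¹ := ⟨_, rfl⟩
  have pp : p * p = 1 := hp ▸ conj_sq p02
  have cpx : Commute p x := by have := commute_conj (k := h) p0x; rw [hp]; rwa [hxx] at this
  have cpu : Commute p u := by
    rw [← hfu, hp]
    refine commute_conj ?_
    have := B.cg_commute (B.φ_commute (show pk * pxx = pxx * pk by decide +kernel))
    rwa [show B.cg (B.φ pxx) = B.φ pf from hB] at this
  have psp : p * s * p = s * x := by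
    rw [← conj_invol_iff pp, ← hss, hp,
      show h * B.cg (B.φ pk) * h⁻¹ * (h * B.sig * h⁻¹) * (h * B.cg (B.φ pk) * h⁻¹)⁻¹ =
        h * (B.cg (B.φ pk) * B.sig * (B.cg (B.φ pk))⁻¹) * h⁻¹ by group, p0σ, ← conj_mul, hxx]
  -- the centraliser of `x, u, s`
  have small3 : ∀ c : G, Commute c x → Commute c u → Commute c s → ∃ r, B.φ r = c := by
    intro c cx cu cs
    set c' := h⁻¹ * c * h with hc'
    have c's : Commute c' B.sig := commute_conj_iff.1 (hss.symm ▸ cs)
    rcases B.eq_g_φ (B.commute_sig_normalizer hB ρ hρs hρk c's) with ⟨r, hr⟩ | ⟨r, hr⟩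
    · exact ⟨ph * r * ph⁻¹, by rw [map_mul, map_mul, map_inv, hr, hc']; group; simp [hh]⟩
    · exfalso
      have c'x : Commute c' x := commute_conj_iff.1 (hxx.symm ▸ cx)
      have e : B.cg (B.φ (r * pxx * r⁻¹)) = B.cg (B.φ pf) := by
        rw [B.cg_pf hB, cg_apply, map_mul B.φ, map_mul B.φ, map_inv B.φ]
        calc B.g * (B.φ r * B.φ pxx * (B.φ r)⁻¹) * B.g = B.g * (B.φ r * x * (B.φ r)⁻¹) * B.g⁻¹ := by rw [B.g_inv]
          _ = c' * x * c'⁻¹ := by rw [← hr]; group
          _ = x := by rw [c'x.eq, mul_inv_cancel_right]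
      have h1 := congrArg B.cg e
      rw [B.cg_cg, B.cg_cg] at h1
      have h2 := congrArg Prod.fst (B.inj h1)
      simp only [Prod.fst_mul, Prod.fst_inv] at h2
      exact absurd (conj_eq_one_iff.1 (h2.trans (show pf.1 = 1 from rfl))) (by decide +kernel)
  have invol : ∀ {a b : G}, a * b * a = b → a * a = 1 → Commute a b := fun {a b} e ha => by
    show _ = _
    calc a * b = (a * b * a) * a := by rw [mul_assoc (a * b), ha, mul_one]
      _ = b * a := by rw [e]
  -- the commutator of `p` and `v`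
  obtain ⟨c, hc⟩ : ∃ c, c = p * v * p * v := ⟨_, rfl⟩
  have ecx : Commute c x := hc ▸ ((cpx.mul_left cvx).mul_left cpx).mul_left cvx
  have ecu : Commute c u := hc ▸ ((cpu.mul_left cuv.symm).mul_left cpu).mul_left cuv.symm
  have ecs : Commute c s := by
    refine conj_eq_iff.1 ?_
    have pinv : p⁻¹ = p := inv_eq_of_mul_eq_one_left pp
    have vinv : v⁻¹ = v := inv_eq_of_mul_eq_one_left vv
    calc c * s * c⁻¹ = p * (v * (p * (v * s * v) * p) * v) * p := by
          rw [hc, mul_inv_rev, mul_inv_rev, mul_inv_rev, pinv, vinv]; group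
      _ = p * (v * ((p * s * p) * (p * u * p)) * v) * p := by
          rw [evsv, show p * (s * u) * p = (p * s * p) * (p * u * p) by
            calc p * (s * u) * p = p * s * (p * p) * u * p := by rw [pp]; group
              _ = (p * s * p) * (p * u * p) := by group]
      _ = p * (v * (s * x * u) * v) * p := by rw [psp, cpu.eq, mul_assoc u, pp, mul_one]
      _ = p * ((v * s * v) * (x * u)) * p := by
          rw [show v * (s * x * u) * v = v * s * ((x * u) * v) by group, ((cvx.symm.mul_left cuv)).eq]; group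
      _ = p * (s * x) * p := by
          rw [evsv, cux.symm.eq]
          congr 2
          rw [mul_assoc, ← mul_assoc u, uu, one_mul]
      _ = (p * s * p) * (p * x * p) := by
          calc p * (s * x) * p = p * s * (p * p) * x * p := by rw [pp]; group
            _ = _ := by group
      _ = s := by rw [psp, cpx.eq, mul_assoc x, pp, mul_one, mul_assoc, xx2, mul_one]
  obtain ⟨r, hr⟩ := small3 c ecx ecu ecs
  have hrinv : v * c * v = c⁻¹ := by
    rw [hc, mul_inv_rev, mul_inv_rev, mul_inv_rev, inv_eq_of_mul_eq_one_left pp, inv_eq_of_mul_eq_one_left vv]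
    calc v * (p * v * p * v) * v = v * p * v * p * (v * v) := by group
      _ = v * (p * (v * p)) := by rw [vv]; group
  have hcase := commutant_cases r (B.of_φ_commute (hr ▸ ecx)) (B.of_φ_commute (hr ▸ ecu))
    (B.of_φ_commute (hr ▸ ecs)) (B.inj (by rw [map_mul, map_mul, map_inv, hr, ← hv, hrinv]))
  have hpvp : p * v * p = c * v := by rw [hc, mul_assoc _ v v, vv, mul_one]
  have svs : s * v * s = u * v := by
    calc s * v * s = s * (v * s * v) * v⁻¹ := by group
      _ = s * s * (u * v) := by rw [evsv, inv_eq_of_mul_eq_one_left vv]; group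
      _ = u * v := by rw [ss, one_mul]
  have pvs_conj : p * s * v * (p * s)⁻¹ = u * (p * v * p) := by
    calc p * s * v * (p * s)⁻¹ = p * (s * v * s⁻¹) * p⁻¹ := by group
      _ = u * (p * v * p) := by rw [conj_invol_iff ss, svs, conj_invol_iff pp, ← mul_assoc, cpu.eq]; group
  have not_in : ∀ {k : G}, Commute k u → Commute k v → k * s * k⁻¹ = s * x → False := by
    intro k c1 c2 e
    obtain ⟨q, hq⟩ := hsm (B.mem_CV.2 ⟨c1, c2⟩)
    refine no_shift q (B.inj ?_)
    rw [map_mul, map_mul, map_inv, hq, map_mul]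
    exact e
  have hpv2 : p * v * p = x * v ∨ p * v * p = x * (u * v) := by
    rcases hcase with rfl | rfl | rfl | rfl <;> (try simp only [map_one, map_mul] at hr) <;> rw [← hr] at hpvp
    · exfalso
      rw [one_mul] at hpvp
      exact not_in cpu (invol hpvp pp) (by rw [conj_invol_iff pp]; exact psp)
    · exfalso
      rw [← hu] at hpvp
      refine not_in (k := p * s) (cpu.mul_left csu) (conj_eq_iff.1 ?_) ?_
      · rw [pvs_conj, hpvp, ← mul_assoc, uu, one_mul]
      · calc p * s * s * (p * s)⁻¹ = p * s * p⁻¹ := by group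
          _ = s * x := by rw [conj_invol_iff pp, psp]
    · exact Or.inl hpvp
    · exact Or.inr (by rw [hpvp, mul_assoc])
  obtain ⟨k, kx, ku, kv⟩ : ∃ k, Commute k x ∧ Commute k u ∧ k * v * k⁻¹ = x * v := by
    rcases hpv2 with e | e
    · exact ⟨p, cpx, cpu, by rw [conj_invol_iff pp, e]⟩
    · refine ⟨p * s, cpx.mul_left csx, cpu.mul_left csu, ?_⟩
      rw [pvs_conj, e, ← mul_assoc u, ← cux.symm.eq, mul_assoc x, ← mul_assoc u, uu, one_mul]
  -- move `k` by `w`
  have wu' : B.w * u * B.w⁻¹ = v := by rw [hu, hv, ← map_inv, ← map_mul, ← map_mul, wu]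
  have wv' : B.w * v * B.w⁻¹ = u * v := by rw [hu, hv, ← map_inv, ← map_mul, ← map_mul, wv, map_mul]
  have wx' : B.w * x * B.w⁻¹ = x := by
    rw [(B.φ_commute basic_pairs.2.2.2.2.2.1.symm : Commute B.w x).eq, mul_inv_cancel_right]
  set k' := B.w * k * B.w⁻¹ with hk'
  have k'x : Commute k' x := by have := commute_conj (k := B.w) kx; rwa [wx'] at this
  have k'v : Commute k' v := by have := commute_conj (k := B.w) ku; rwa [wu'] at this
  have k'uv : k' * (u * v) * k'⁻¹ = x * (u * v) := by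
    have := congrArg (fun t => B.w * t * B.w⁻¹) kv
    rw [show B.w * (k * v * k⁻¹) * B.w⁻¹ = k' * (B.w * v * B.w⁻¹) * k'⁻¹ by rw [hk']; group,
      show B.w * (x * v) * B.w⁻¹ = (B.w * x * B.w⁻¹) * (B.w * v * B.w⁻¹) from conj_mul.symm, wx', wv'] at this
    exact this
  have k'u : k' * u * k'⁻¹ = x * u := by
    calc k' * u * k'⁻¹ = k' * (u * v) * k'⁻¹ * (k' * v * k'⁻¹)⁻¹ := by group
      _ = x * (u * v) * v⁻¹ := by rw [k'uv, k'v.eq, mul_inv_cancel_right]
      _ = x * u := by group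
  set r' := k' * s * k'⁻¹ with hr'
  have r'2 : r' * r' = 1 := conj_sq ss
  have r'x : Commute r' x := by
    have := commute_conj (k := k') csx; rwa [k'x.eq, mul_inv_cancel_right] at this
  have k'xu : k' * (x * u) * k'⁻¹ = u := by
    rw [← conj_mul, k'u, k'x.eq, mul_inv_cancel_right, ← mul_assoc, xx2, one_mul]
  have r'u : Commute r' u := by
    have := commute_conj (k := k') (csx.mul_right csu); rwa [k'xu] at this
  have r'v : r' * v * r'⁻¹ = x * (u * v) := by
    calc r' * v * r'⁻¹ = k' * (s * (k'⁻¹ * v * k') * s⁻¹) * k'⁻¹ := by rw [hr']; group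
      _ = k' * (u * v) * k'⁻¹ := by rw [mul_assoc k'⁻¹, ← k'v.eq, inv_mul_cancel_left, conj_invol_iff ss, svs]
      _ = x * (u * v) := k'uv
  have getq : ∀ {q0 : G}, Commute q0 x → Commute q0 u → q0 * v * q0⁻¹ = x * (u * v) →
      ∃ q : Pair, r' = q0 * B.φ q ∧ q * pxx = pxx * q ∧ q * pu = pu * q ∧ q * pv = pv * q := by
    intro q0 hx' hu' hv'
    have hm : q0⁻¹ * r' ∈ B.CV := by
      refine B.mem_CV.2 ⟨hu'.inv_left.mul_left r'u, conj_eq_iff.1 ?_⟩
      calc q0⁻¹ * r' * v * (q0⁻¹ * r')⁻¹ = q0⁻¹ * (r' * v * r'⁻¹) * q0 := by group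
        _ = q0⁻¹ * (q0 * v * q0⁻¹) * q0 := by rw [r'v, hv']
        _ = v := by group
    obtain ⟨q, hq⟩ := hsm hm
    refine ⟨q, by rw [hq, mul_inv_cancel_left], B.of_φ_commute ?_, B.of_φ_mem_CV (hq ▸ hm)⟩
    rw [hq]; exact hx'.inv_left.mul_left r'x
  -- the two possibilities for `q`
  have shape : ∀ {q0 : G}, Commute q0 x → Commute q0 u → q0 * v * q0⁻¹ = x * (u * v) →
      ∃ a ∈ ({1, pxx, pu, pxx * pu} : Finset Pair), (r' = q0 * B.φ a ∨ q0 * v * (q0 * v) = 1) ∧
        Commute q0 (B.φ a) ∧ B.φ a * B.φ a = 1 := by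
    intro q0 hx' hu' hv'
    obtain ⟨q, hq, qx, qu, qv⟩ := getq hx' hu' hv'
    obtain ⟨a, ha, hqa⟩ := centralize_eight q qx qu qv
    have ha' : Commute q0 (B.φ a) ∧ Commute (B.φ a) v ∧ B.φ a * B.φ a = 1 := by
      simp only [Finset.mem_insert, Finset.mem_singleton] at ha
      rcases ha with rfl | rfl | rfl | rfl
      · rw [map_one]; exact ⟨Commute.one_right _, Commute.one_left _, one_mul 1⟩
      · exact ⟨hx', cvx.symm, xx2⟩
      · exact ⟨hu', cuv, uu⟩
      · rw [map_mul]
        exact ⟨hx'.mul_right hu', cvx.symm.mul_left cuv, by rw [cux.mul_mul_mul_comm, xx2, uu, one_mul]⟩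
    refine ⟨a, ha, ?_, ha'.1, ha'.2.2⟩
    rcases hqa with e | e <;> rw [e] at hq
    · exact Or.inl hq
    · refine Or.inr ?_
      rw [map_mul, ← hv] at hq
      have hcm : Commute (q0 * v) (B.φ a) := ha'.1.mul_left ha'.2.1.symm
      calc q0 * v * (q0 * v) = (q0 * v * (q0 * v)) * (B.φ a * B.φ a) := by rw [ha'.2.2, mul_one]
        _ = (q0 * v * B.φ a) * (q0 * v * B.φ a) := (hcm.symm.mul_mul_mul_comm (q0 * v) (B.φ a)).symm
        _ = r' * r' := by rw [hq, mul_assoc q0 v, ← ha'.2.1.eq]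
        _ = 1 := r'2
  rcases hpv2 with hpvp | hpvp
  · -- `pvp = x v`
    have q0v : p * s * v * (p * s)⁻¹ = x * (u * v) := by
      rw [pvs_conj, hpvp, ← mul_assoc, cux.eq, mul_assoc]
    have q02 : p * s * (p * s) = x := by
      calc p * s * (p * s) = (p * s * p) * s := by group
        _ = x := by rw [psp, mul_assoc, csx.symm.eq, ← mul_assoc, ss, one_mul]
    obtain ⟨a, -, hra | hra, hc1, haa⟩ := shape (cpx.mul_left csx) (cpu.mul_left csu) q0v
    · have h2 := r'2
      rw [hra, hc1.symm.mul_mul_mul_comm, q02, haa, mul_one] at h2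
      exact absurd (B.inj (h2.trans (map_one B.φ).symm)) (by decide +kernel)
    · have h3 : u = 1 := by
        rw [← hra]
        calc u = (x * x) * u * (v * v) := by rw [xx2, vv, one_mul, mul_one]
          _ = x * (u * (x * v) * v) := by rw [← mul_assoc u, cux.eq]; group
          _ = x * (u * (v * x) * v) := by rw [cvx.eq]
          _ = (x * (u * v)) * x * v := by group
          _ = (p * s * v * (p * s)⁻¹) * (p * s * (p * s)) * v := by rw [q0v, q02]
          _ = p * s * v * (p * s * v) := by group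
      exact absurd (B.inj (h3.trans (map_one B.φ).symm)) (by decide +kernel)
  · -- `pvp = x u v`
    have q0v : p * v * p⁻¹ = x * (u * v) := by rw [conj_invol_iff pp, hpvp]
    obtain ⟨a, ha, hq, -, -⟩ := shape cpx cpu q0v
    replace hq : r' = p * B.φ a := by
      refine hq.resolve_right fun h4 => ?_
      rw [← mul_assoc, hpvp, mul_assoc x, mul_assoc u, vv, mul_one, hu, ← show B.φ pxx = x from rfl, ← map_mul] at h4
      exact absurd (B.inj (h4.trans (map_one B.φ).symm)) (by decide +kernel)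
    -- `r'` is a conjugate of the transposition
    obtain ⟨j, hj⟩ : ∃ j : G, j * B.sig * j⁻¹ = r' := ⟨k' * h, by rw [hr', ← hss]; group⟩
    obtain ⟨q', hq', hqe⟩ : ∃ q' ∈ ({pk, pk * pf, pk * pxx, pk * (pxx * pf)} : Finset Pair),
        h⁻¹ * r' * h = B.cg (B.φ q') := by
      have hpb : h⁻¹ * p * h = B.cg (B.φ pk) := by rw [hp]; group
      have hxb : h⁻¹ * x * h = B.cg (B.φ pf) := by
        rw [B.cg_pf hB]
        show h⁻¹ * x * h = x
        nth_rewrite 1 [← hxx]
        group
      have hub : h⁻¹ * u * h = B.cg (B.φ pxx) := by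
        rw [← hfu, show B.cg (B.φ pxx) = B.φ pf from hB]; group
      simp only [Finset.mem_insert, Finset.mem_singleton] at ha
      rw [hq]
      rcases ha with rfl | rfl | rfl | rfl
      · exact ⟨pk, by decide +kernel, by rw [map_one, mul_one, hpb]⟩
      · exact ⟨pk * pf, by decide +kernel, by rw [map_mul B.φ, map_mul, ← hpb, ← hxb, show B.φ pxx = x from rfl]; group⟩
      · exact ⟨pk * pxx, by decide +kernel, by rw [map_mul B.φ, map_mul, ← hpb, ← hub, ← hu]; group⟩
      · exact ⟨pk * (pxx * pf), by decide +kernel, by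
          rw [map_mul B.φ pxx, map_mul B.φ, map_mul B.φ, map_mul, map_mul, ← hpb, ← hxb, ← hub, ← hu,
            show B.φ pxx = x from rfl, cux.symm.eq]; group⟩
    have hjq : B.g * h⁻¹ * j * B.sig * (B.g * h⁻¹ * j)⁻¹ = B.φ q' := by
      calc B.g * h⁻¹ * j * B.sig * (B.g * h⁻¹ * j)⁻¹ = B.g * (h⁻¹ * (j * B.sig * j⁻¹) * h) * B.g⁻¹ := by group
        _ = B.φ q' := by rw [hj, hqe, B.g_inv, ← cg_apply, B.cg_cg]
    simp only [Finset.mem_insert, Finset.mem_singleton] at hq'
    rcases hq' with e | e | e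
    · obtain ⟨h1, h2⟩ := even_involution_three pk (by decide +kernel)
      exact B.not_conj_sig h1 h2 _ (e ▸ hjq)
    · obtain ⟨h1, h2⟩ := even_involution_three (pk * pf) (by decide +kernel)
      exact B.not_conj_sig h1 h2 _ (e ▸ hjq)
    · obtain ⟨m, hm⟩ := conj_to_xu q' (by rcases e with rfl | rfl <;> simp)
      obtain ⟨h1, h2⟩ := even_involution_three pv (by decide +kernel)
      refine B.not_conj_sig h1 h2 (k⁻¹ * B.w⁻¹ * B.w⁻¹ * (B.φ m * (B.g * h⁻¹ * j))) ?_
      calc k⁻¹ * B.w⁻¹ * B.w⁻¹ * (B.φ m * (B.g * h⁻¹ * j)) * B.sig *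
            (k⁻¹ * B.w⁻¹ * B.w⁻¹ * (B.φ m * (B.g * h⁻¹ * j)))⁻¹
          = k⁻¹ * (B.w⁻¹ * (B.w⁻¹ * (B.φ m * (B.g * h⁻¹ * j * B.sig * (B.g * h⁻¹ * j)⁻¹) * (B.φ m)⁻¹) * B.w) *
              B.w) * k := by simp only [mul_inv_rev, inv_inv, mul_assoc]
        _ = k⁻¹ * (B.w⁻¹ * (B.w⁻¹ * (x * u) * B.w) * B.w) * k := by
            rw [hjq, ← map_inv B.φ m, ← map_mul, ← map_mul, hm, map_mul]
        _ = k⁻¹ * (x * v) * k := by
            have hww : B.w * (B.w * (x * v) * B.w⁻¹) * B.w⁻¹ = x * u := by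
              have cm : ∀ a b : G, B.w * (a * b) * B.w⁻¹ = (B.w * a * B.w⁻¹) * (B.w * b * B.w⁻¹) :=
                fun a b => conj_mul.symm
              rw [cm x v, wx', wv', cm x (u * v), wx', cm u v, wu', wv', ← mul_assoc v, cuv.symm.eq, mul_assoc u,
                vv, mul_one]
            rw [← hww]; group
        _ = v := by rw [← kv]; group

/-- The two alternating groups commute. -/
theorem commute_M1_M2 (hB : B.cg B.xx = B.φ pf) (ρ : normalizer (B.D9 : Set G) →* DihedralGroup 4)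
    (hρs : Function.Surjective ρ)
    (hρk : ∀ x : normalizer (B.D9 : Set G), ρ x = 1 ↔ (x : G) ∈ centralizer (B.D9 : Set G))
    {a b : S5} (ha : Perm.sign a = 1) (hb : Perm.sign b = 1) : Commute (B.M1 a) (B.M2 b) := by
  classical
  let L : Subgroup S5 :=
    { carrier := {b | ∀ a, Perm.sign a = 1 → Commute (B.M1 a) (B.M2 b)}
      one_mem' := fun a _ => by rw [map_one]; exact Commute.one_right _
      mul_mem' := fun h h' a ha => by rw [map_mul]; exact (h a ha).mul_right (h' a ha)
      inv_mem' := fun h a ha => by rw [map_inv]; exact (h a ha).inv_right }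
  have hW : W ∈ L := fun a _ => B.M1_commute_w a
  have hq : pf.2 ∈ L := fun a _ => by
    show Commute (B.cg (B.φ (1, a))) (B.φ pf)
    rw [← hB]
    exact B.cg_commute (B.φ_commute (Prod.ext (by simp [pxx]) (by simp [pxx])))
  have hu : pu.2 ∈ L := fun a ha => (B.mem_CV.1 (B.M1_mem_CV hB ρ hρs hρk ha)).1
  exact even_mem (A := L) hW hq (mul_mem (mul_mem hq hu) hW) (by decide +kernel) (by decide +kernel) hb a ha

end Base

end CfsgLib.Recog.EightThreeSym
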