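import Cfsg.Agent.Lib.Recog.EightThreeSym.CentV

/-!
Owner: helper10. From the hypotheses of the 3-local characterisation of `S₈` to the normalised data.
-/

set_option autoImplicit false
set_option linter.all false
set_option synthInstance.maxSize 1000

namespace CfsgLib.Recog.EightThreeSym

open Subgroup Equiv CfsgLib.Recog.EightThree
open scoped Pointwise

universe u

theorem norm9_nine {q : Pair} (hq : Norm9 q) : ∀ r ∈ nine, q * r * q⁻¹ ∈ nine := by
  intro r hr
  have hmz := hq.1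
  have hmw := hq.2
  rcases nine_gens r hr with rfl | rfl | rfl | rfl | rfl | rfl | rfl | rfl | rfl
  · rw [mul_one, mul_inv_cancel]; decide +kernel
  · exact hmz
  · rw [← conj_mul]; exact (nine_mul _ hmz _ hmz).1
  · exact hmw
  · rw [← conj_mul]; exact (nine_mul _ hmw _ hmw).1
  · rw [← conj_mul]; exact (nine_mul _ hmz _ hmw).1
  · rw [← conj_mul, ← conj_mul]; exact (nine_mul _ (nine_mul _ hmz _ hmz).1 _ hmw).1
  · rw [← conj_mul, ← conj_mul]; exact (nine_mul _ hmz _ (nine_mul _ hmw _ hmw).1).1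
  · rw [← conj_mul, ← conj_mul, ← conj_mul]
    exact (nine_mul _ (nine_mul _ hmz _ hmz).1 _ (nine_mul _ hmw _ hmw).1).1

variable {G : Type u} [Group G] [Finite G]

theorem map_conj_normalizer {k : G} {H : Subgroup G} (h : ∀ x ∈ H, k * x * k⁻¹ ∈ H) :
    k ∈ normalizer (H : Set G) := by
  have hmap : H.map (MulAut.conj k).toMonoidHom = H := by
    refine eq_of_le_of_card_ge ?_ ?_
    · rintro _ ⟨x, hx, rfl⟩; exact h x hx
    · rw [card_map_of_injective (f := (MulAut.conj k).toMonoidHom) (MulAut.conj k).injective]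
  refine mem_normalizer_iff.2 fun x => ⟨h x, fun hx => ?_⟩
  rw [← hmap] at hx
  obtain ⟨x', hx', he⟩ := hx
  simp only [MulEquiv.coe_toMonoidHom, MulAut.conj_apply, mul_left_inj, mul_right_inj] at he
  exact he ▸ hx'

theorem Base.D9_normalizer (B : Base G) {p : Pair} (hp : Norm9 p) : B.φ p ∈ normalizer (B.D9 : Set G) :=
  map_conj_normalizer fun x hx => by
    obtain ⟨r, hr, rfl⟩ := hx
    exact ⟨p * r * p⁻¹, norm9_nine hp r hr, by rw [map_mul, map_mul, map_inv]⟩

/-- The hypotheses yield normalised data. -/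
theorem exists_base (P : Sylow 3 G) (D : Subgroup G) (hDP : D = P) (y z : G) (hgen : closure {y, z} = D)
    (hcomm : IsMulCommutative D) (hcard : Nat.card D = 9) (hexp : ∀ a ∈ D, a ^ 3 = 1)
    (hC : Nat.card (centralizer (D : Set G)) = 18)
    (eN : normalizer (D : Set G) ⧸ D.subgroupOf (normalizer (D : Set G)) ≃* DihedralGroup 4 × Multiplicative (ZMod 2))
    [hcn : ((centralizer (D : Set G)).subgroupOf (normalizer (D : Set G))).Normal]
    (eNC : normalizer (D : Set G) ⧸ (centralizer (D : Set G)).subgroupOf (normalizer (D : Set G)) ≃* DihedralGroup 4)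
    (hycard : Nat.card (centralizer ({y} : Set G)) = 36)
    (eL : normalizer (zpowers z : Set G) ≃* Perm (Fin 3) × Perm (Fin 5)) :
    ∃ B : Base G, (B.cg B.xx = B.φ ps ∨ B.cg B.xx = B.φ pf) ∧
      ∃ ρ : normalizer (B.D9 : Set G) →* DihedralGroup 4, Function.Surjective ρ ∧
        ∀ x : normalizer (B.D9 : Set G), ρ x = 1 ↔ (x : G) ∈ centralizer (B.D9 : Set G) := by
  classical
  haveI := Fact.mk Nat.prime_three
  have hyD : y ∈ D := hgen ▸ subset_closure (Or.inl rfl)
  have hzD : z ∈ D := hgen ▸ subset_closure (Or.inr rfl)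
  have habel : ∀ a ∈ D, ∀ b ∈ D, a * b = b * a := fun a ha b hb =>
    congrArg Subtype.val (mul_comm' (⟨a, ha⟩ : D) ⟨b, hb⟩)
  have hzone : z ≠ 1 := by
    intro e
    have hle : D ≤ zpowers y := by
      rw [← hgen, closure_le]
      rintro a (rfl | rfl)
      · exact mem_zpowers _
      · rw [e]; exact one_mem _
    have h1 := Nat.le_of_dvd Nat.card_pos (card_dvd_of_le hle)
    have h2 := Nat.le_of_dvd (by norm_num) (orderOf_dvd_of_pow_eq_one (hexp y hyD))
    rw [Nat.card_zpowers, hcard] at h1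
    omega
  set N := normalizer (zpowers z : Set G) with hNdef
  have hzN : z ∈ N := le_normalizer (mem_zpowers z)
  have hyN : y ∈ N := map_conj_normalizer fun x hx => by
    obtain ⟨i, rfl⟩ := mem_zpowers_iff.1 hx
    rw [habel y hyD _ (D.zpow_mem hzD i), mul_inv_cancel_right]
    exact zpow_mem (mem_zpowers _) i
  set p : Pair := eL ⟨y, hyN⟩ with hp
  set q : Pair := eL ⟨z, hzN⟩ with hq
  have cube : ∀ {a : G} (haN : a ∈ N), a ∈ D → (eL ⟨a, haN⟩ : Pair) * eL ⟨a, haN⟩ * eL ⟨a, haN⟩ = 1 := by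
    intro a haN haD
    have : (⟨a, haN⟩ : N) * ⟨a, haN⟩ * ⟨a, haN⟩ = 1 := by
      refine Subtype.ext ?_
      show a * a * a = 1
      rw [← pow_two, ← pow_succ]; exact hexp a haD
    rw [← map_mul, ← map_mul, this, map_one]
  have hp3 : p * p * p = 1 := cube hyN hyD
  have hq3 : q * q * q = 1 := cube hzN hzD
  have hq1 : q ≠ 1 := fun e => hzone (congrArg Subtype.val (eL.map_eq_one_iff.1 e))
  have hnormq : ∀ r : Pair, r * q * r⁻¹ = q ∨ r * q * r⁻¹ = q * q := by
    intro r
    have hr : ((eL.symm r : N) : G) * z * ((eL.symm r : N) : G)⁻¹ ∈ zpowers z :=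
      (mem_normalizer_iff.1 (eL.symm r).2 z).1 (mem_zpowers z)
    obtain ⟨k, hk⟩ := mem_zpowers_iff.1 hr
    have hk' : r * q * r⁻¹ = q ^ k := by
      have : (eL.symm r) * ⟨z, hzN⟩ * (eL.symm r)⁻¹ = (⟨z, hzN⟩ : N) ^ k := Subtype.ext (by
        rw [SubgroupClass.coe_zpow]; exact hk.symm)
      have := congrArg eL this
      rwa [map_mul, map_mul, map_inv, MulEquiv.apply_symm_apply, map_zpow] at this
    have ho : orderOf q = 3 := orderOf_eq_three hq3 hq1
    rw [hk', ← zpow_mod_orderOf, ho]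
    have h0 := Int.emod_nonneg k (show ((3 : ℕ) : ℤ) ≠ 0 by norm_num)
    have h3 := Int.emod_lt_of_pos k (show (0 : ℤ) < ((3 : ℕ) : ℤ) by norm_num)
    obtain e | e | e : k % ((3 : ℕ) : ℤ) = 0 ∨ k % ((3 : ℕ) : ℤ) = 1 ∨ k % ((3 : ℕ) : ℤ) = 2 := by omega
    · exfalso
      rw [← zpow_mod_orderOf, ho, e, zpow_zero] at hk'
      exact hq1 (conj_eq_one_iff.1 hk')
    · exact Or.inl (by rw [e, zpow_one])
    · exact Or.inr (by rw [e, show (2 : ℤ) = ((2 : ℕ) : ℤ) from rfl, zpow_natCast, pow_two])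
  have hzl : q ∈ zline := normal_three q hq3 hq1 fun r _ => hnormq r
  have hpq : p * pz = pz * p := by
    have hc : p * q = q * p := by
      rw [hp, hq, ← map_mul, ← map_mul]
      exact congrArg eL (Subtype.ext (habel y hyD z hzD))
    rcases zline_wline_link.1 q hzl with e | e <;> rw [e] at hc
    · exact hc
    · exact (Commute.inv_right_iff.1 (show Commute p pz⁻¹ from hc)).eq
  have hp2 : p.2 ≠ 1 := by
    intro e
    obtain ⟨-, hcases⟩ := second_ne_one p hpq hp3 e
    have hmem : p ∈ zpowers q := by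
      have hzq : zpowers q = zpowers pz := by
        rcases zline_wline_link.1 q hzl with e | e <;> rw [e]
        rw [zpowers_inv]
      rw [hzq]
      rcases hcases with e | e | e <;> rw [e]
      exacts [one_mem _, mem_zpowers _, mul_mem (mem_zpowers _) (mem_zpowers _)]
    obtain ⟨k, hk⟩ := mem_zpowers_iff.1 hmem
    have hk' : z ^ k = y := by
      have := congrArg (fun r => ((eL.symm r : N) : G)) hk
      simpa [hp, hq, map_zpow] using this
    have hle : D ≤ zpowers z := by
      rw [← hgen, closure_le]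
      rintro a (rfl | rfl)
      · exact mem_zpowers_iff.2 ⟨k, hk'⟩
      · exact mem_zpowers _
    have h1 := Nat.le_of_dvd Nat.card_pos (card_dvd_of_le hle)
    have h2 := Nat.le_of_dvd (by norm_num) (orderOf_dvd_of_pow_eq_one (hexp z hzD))
    rw [Nat.card_zpowers, hcard] at h1
    omega
  obtain ⟨π, hπ⟩ := conj_three_cycle p.2 (congrArg Prod.snd hp3) hp2
  set pπ : Pair := (1, π) with hpπ
  set φ : Pair →* G := (N.subtype.comp eL.symm.toMonoidHom).comp (MulAut.conj pπ⁻¹).toMonoidHom with hφdef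
  have hφ : Function.Injective φ :=
    (N.subtype_injective.comp eL.symm.injective).comp (MulAut.conj pπ⁻¹).injective
  have hφr : φ.range = N := by
    ext x
    constructor
    · rintro ⟨r, rfl⟩; exact (eL.symm _).2
    · intro hx; exact ⟨MulAut.conj pπ (eL ⟨x, hx⟩), by simp [hφdef, mul_assoc]⟩
  have hback : ∀ (a : G) (haN : a ∈ N), φ (pπ * (eL ⟨a, haN⟩ : Pair) * pπ⁻¹) = a := fun a haN => by
    simp [hφdef, mul_assoc]
  set p' : Pair := pπ * p * pπ⁻¹ with hp'
  have hyφ : φ p' = y := hback y hyN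
  have hp'2 : p'.2 = W := by simpa [hp', hpπ] using hπ
  have hzφ : φ q = z := by
    have e : pπ * q * pπ⁻¹ = q := Prod.ext (by simp [hpπ]) (by simp [hpπ, (zline_fst q hzl).1])
    rw [← e]; exact hback z hzN
  have hp'n : p' ∈ nine := by
    have h1 : p' * p' * p' = 1 := by rw [hp', conj_mul, conj_mul, hp3, mul_one, mul_inv_cancel]
    have h2 : p'.1 * c3 = c3 * p'.1 := by
      have := congrArg Prod.fst hpq
      simpa [hp', hpπ, pz] using this
    have key : ∀ a : S3, a * c3 = c3 * a → ((a, W) : Pair) ∈ nine := by decide +kernel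
    rw [show p' = (p'.1, W) from Prod.ext rfl hp'2]
    exact key _ h2
  have hzz : zpowers z = zpowers (φ pz) := by
    rw [← hzφ]
    rcases zline_wline_link.1 q hzl with e | e <;> rw [e]
    rw [map_inv, zpowers_inv]
  have hnorm : normalizer (zpowers (φ pz) : Set G) = φ.range := by rw [← hzz, hφr]
  have not27 : ¬ 27 ∣ Nat.card G := by
    intro h27
    have hf := (Nat.prime_three.pow_dvd_iff_le_factorization (k := 3) Nat.card_pos.ne').1 h27
    have hPc := P.card_eq_multiplicity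
    rw [← hDP, hcard, show (9 : ℕ) = 3 ^ 2 from rfl] at hPc
    have := Nat.pow_right_injective (le_refl 2 |>.trans (by norm_num)) hPc
    omega
  -- `D` is the image of `nine`
  have hnineinv : ∀ r ∈ nine, r⁻¹ ∈ nine := by decide +kernel
  have hDmem : ∀ x, x ∈ D ↔ ∃ r ∈ nine, φ r = x := by
    set D1 : Subgroup G :=
      { carrier := {x | ∃ r ∈ nine, φ r = x}
        one_mem' := ⟨1, by decide +kernel, map_one _⟩
        mul_mem' := by
          rintro _ _ ⟨a, ha, rfl⟩ ⟨b, hb, rfl⟩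
          exact ⟨a * b, (nine_mul a ha b hb).1, map_mul _ _ _⟩
        inv_mem' := by
          rintro _ ⟨a, ha, rfl⟩
          exact ⟨a⁻¹, hnineinv a ha, map_inv _ _⟩ } with hD1
    have hD1c : Nat.card D1 = 9 := by
      have h1 : (D1 : Set G) = ↑(nine.image φ) := by ext x; simp [hD1]
      rw [← SetLike.coe_sort_coe, h1, Nat.card_coe_set_eq, Set.ncard_coe_finset,
        Finset.card_image_of_injective _ hφ, nine_card]
    have hle : D ≤ D1 := by
      rw [← hgen, closure_le]
      rintro a (rfl | rfl)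
      · exact ⟨p', hp'n, hyφ⟩
      · refine ⟨q, ?_, hzφ⟩
        have : ∀ r ∈ zline, r ∈ nine := by decide +kernel
        exact this q hzl
    have heq : D = D1 := eq_of_le_of_card_ge hle (by rw [hcard, hD1c])
    intro x; rw [heq]; rfl
  have hN144 : Nat.card (normalizer (D : Set G)) = 144 := by
    have hle : centralizer (D : Set G) ≤ normalizer (D : Set G) := centralizer_le_normalizer _
    have h1 := ((centralizer (D : Set G)).subgroupOf (normalizer (D : Set G))).card_mul_index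
    rw [Nat.card_congr (subgroupOfEquivOfLe hle).toEquiv, hC, index_eq_card, Nat.card_congr eNC.toEquiv,
      DihedralGroup.nat_card] at h1
    omega
  set cc : Pair → ℕ := fun r => Nat.card (centralizer ({φ r} : Set G)) with hcc
  have hinvc : ∀ r, cc r⁻¹ = cc r := fun r => by simp only [hcc, map_inv, card_centralizer_inv]
  have hconjc : ∀ r s : Pair, cc (r * s * r⁻¹) = cc s := fun r s => by
    simp only [hcc, map_mul, map_inv, card_centralizer_conj]
  have hmix : ∀ r ∈ mixed, cc r = cc pm := by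
    intro r hr
    rcases mixed_link r hr with rfl | rfl | rfl | rfl
    · rfl
    · exact hconjc _ _
    · exact hinvc _
    · exact (hinvc _).trans (hconjc _ _)
  have hzline : ∀ r ∈ zline, cc r = cc pz := fun r hr => by
    rcases zline_wline_link.1 r hr with rfl | rfl
    exacts [rfl, hinvc _]
  have hwline : ∀ r ∈ wline, cc r = cc pw := fun r hr => by
    rcases zline_wline_link.2.1 r hr with rfl | rfl
    exacts [rfl, hinvc _]
  have h360 : 360 ≤ cc pz := by
    rw [← count_commute_pz, ← Set.ncard_coe_finset, hcc]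
    simp only
    rw [← SetLike.coe_sort_coe, Nat.card_coe_set_eq]
    refine Set.ncard_le_ncard_of_injOn φ ?_ hφ.injOn (Set.toFinite _)
    intro r hr
    simp only [Finset.coe_filter, Finset.mem_univ, true_and, Set.mem_setOf_eq] at hr
    exact mem_centralizer_singleton_iff.2 (by rw [← map_mul, ← map_mul, hr])
  -- the stabiliser of the line of `z`
  set N1 := normalizer (D : Set G) with hN1
  set St : Subgroup G := N1 ⊓ φ.range with hSt
  have hNorm : ∀ r, Norm9 r → φ r ∈ N1 := fun r hr => map_conj_normalizer fun x hx => by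
    obtain ⟨s, hs, rfl⟩ := (hDmem x).1 hx
    exact (hDmem _).2 ⟨r * s * r⁻¹, norm9_nine hr s hs, by rw [map_mul, map_mul, map_inv]⟩
  have hof : ∀ r, φ r ∈ N1 → Norm9 r := by
    intro r hr
    have key : ∀ s ∈ nine, r * s * r⁻¹ ∈ nine := by
      intro s hs
      obtain ⟨s', hs', he⟩ := (hDmem _).1 ((mem_normalizer_iff.1 hr (φ s)).1 ((hDmem _).2 ⟨s, hs, rfl⟩))
      rw [← map_inv, ← map_mul, ← map_mul] at he
      exact hφ he ▸ hs'
    exact ⟨key pz (by decide +kernel), key pw (by decide +kernel)⟩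
  have hStc : Nat.card St = 72 := by
    have hStset : (St : Set G) = ↑((Finset.univ.filter Norm9).image φ) := by
      ext x
      rw [Finset.mem_coe, Finset.mem_image]
      constructor
      · rintro ⟨hx1, r, rfl⟩
        exact ⟨r, Finset.mem_filter.2 ⟨Finset.mem_univ _, hof r hx1⟩, rfl⟩
      · rintro ⟨r, hr, rfl⟩
        exact ⟨hNorm r (Finset.mem_filter.1 hr).2, r, rfl⟩
    rw [← SetLike.coe_sort_coe, hStset, Nat.card_coe_set_eq, Set.ncard_coe_finset,
      Finset.card_image_of_injective _ hφ, count_norm9]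
  obtain ⟨g, hgN, hgS⟩ : ∃ g ∈ N1, g ∉ φ.range := by
    by_contra hc
    push Not at hc
    have : N1 ≤ St := fun x hx => ⟨hx, hc x hx⟩
    have := Nat.le_of_dvd Nat.card_pos (card_dvd_of_le this)
    omega
  have hconjD : ∀ r ∈ nine, ∃ r' ∈ nine, φ r' = g * φ r * g⁻¹ := fun r hr =>
    (hDmem _).1 ((mem_normalizer_iff.1 hgN (φ r)).1 ((hDmem _).2 ⟨r, hr, rfl⟩))
  have hcg : ∀ r r', φ r' = g * φ r * g⁻¹ → cc r' = cc r := fun r r' he => by
    simp only [hcc]; rw [he, card_centralizer_conj]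
  have hez1 : φ pz ≠ 1 := fun e => absurd (hφ (e.trans (map_one φ).symm)) (by decide +kernel)
  obtain ⟨a, ha, hae⟩ := hconjD pz (by decide +kernel)
  obtain ⟨b, hb, hbe⟩ := hconjD pw (by decide +kernel)
  have ha1 : a ≠ 1 := by
    intro e1; rw [e1, map_one] at hae; exact hez1 (conj_eq_one_iff.1 hae.symm)
  have hb1 : b ≠ 1 := by
    intro e1; rw [e1, map_one] at hbe
    exact absurd (hφ ((conj_eq_one_iff.1 hbe.symm).trans (map_one φ).symm)) (show pw ≠ 1 by decide +kernel)
  have hanz : a ∉ zline := by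
    intro hz'
    refine hgS ?_
    rw [← hnorm]
    refine map_conj_normalizer fun x hx => ?_
    obtain ⟨i, rfl⟩ := mem_zpowers_iff.1 hx
    rw [← conj_zpow, ← hae]
    refine zpow_mem ?_ _
    rcases zline_wline_link.1 a hz' with rfl | rfl
    · exact mem_zpowers _
    · rw [map_inv]; exact inv_mem (mem_zpowers _)
  have hanm : a ∉ mixed := by
    intro ham
    have hidx : (St.subgroupOf N1).index = 2 := by
      have := (St.subgroupOf N1).card_mul_index
      rw [Nat.card_congr (subgroupOfEquivOfLe (inf_le_left : St ≤ N1)).toEquiv, hStc, hN144] at this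
      omega
    haveI := normal_of_index_eq_two hidx
    have hpfSt : φ pf ∈ St := ⟨hNorm _ norm9_basic.1, pf, rfl⟩
    have hmem : g⁻¹ * φ pf * g ∈ St := by
      have := Subgroup.Normal.conj_mem this (⟨φ pf, hpfSt.1⟩ : N1) (mem_subgroupOf.2 hpfSt) (⟨g, hgN⟩ : N1)⁻¹
      simpa [mem_subgroupOf, mul_assoc] using this
    obtain ⟨r, hr⟩ := hmem.2
    have h1 : φ (pf * a * pf⁻¹) = g * φ (r * pz * r⁻¹) * g⁻¹ := by
      simp only [map_mul, map_inv, hr, hae]; group
    rcases norm_pz r with e | e <;> rw [e] at h1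
    · rw [← hae] at h1; exact (pf_moves a ham).1 (hφ h1)
    · rw [map_mul φ pz pz, ← conj_mul, ← hae, ← map_mul] at h1
      exact (pf_moves a ham).2 (hφ h1)
  have haw : a ∈ wline := by
    rcases nine_cases a ha with e | e | e | e
    exacts [absurd e ha1, absurd e hanz, e, absurd e hanm]
  have hccw : cc pw = cc pz := (hwline a haw).symm.trans (hcg _ _ hae)
  have hccm : cc pm = 36 := by
    have hy36 : cc p' = 36 := by simp only [hcc, hyφ]; exact hycard
    rcases mixed_or_wline p' hp'n hp'2 with e | e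
    · have := hwline p' e; omega
    · rw [← hmix p' e]; exact hy36
  have hbz : b ∈ zline := by
    rcases nine_cases b hb with r | r | r | r
    · exact absurd r hb1
    · exact r
    · exfalso
      have hinj' : ∀ u v : G, g * u * g⁻¹ = g * v * g⁻¹ → u = v := fun u v e =>
        mul_left_cancel (mul_right_cancel e)
      rcases zline_wline_link.2.1 a haw with e1 | e1 <;> rcases zline_wline_link.2.1 b r with e2 | e2 <;>
        rw [e1] at hae <;> rw [e2] at hbe
      · exact absurd (hφ (hinj' _ _ (hae.symm.trans hbe))) (by decide +kernel)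
      · have h' : g * φ pz⁻¹ * g⁻¹ = g * φ pw * g⁻¹ := by rw [← hbe, map_inv, map_inv, ← conj_inv, ← hae]
        exact absurd (hφ (hinj' _ _ h')) (show pz⁻¹ ≠ pw by decide +kernel)
      · have h' : g * φ pz⁻¹ * g⁻¹ = g * φ pw * g⁻¹ := by
          rw [← hbe, map_inv φ pz, ← conj_inv, ← hae, map_inv, inv_inv]
        exact absurd (hφ (hinj' _ _ h')) (show pz⁻¹ ≠ pw by decide +kernel)
      · exact absurd (hφ (hinj' _ _ (hae.symm.trans hbe))) (by decide +kernel)
    · exfalso
      have h1 : cc b = 36 := (hmix b r).trans hccm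
      rw [hcg _ _ hbe] at h1
      omega
  obtain ⟨-, -, f1, f2, b1, b2⟩ := zline_wline_link
  -- normalise the images of `z` and `w`
  obtain ⟨g1, hg1N, hg1z, hg1w⟩ : ∃ g1 ∈ N1, g1 * φ pz * g1⁻¹ = φ pw ∧ g1 * φ pw * g1⁻¹ = φ pz := by
    have hb' : g * φ pw * g⁻¹ = φ pz ∨ g * φ pw * g⁻¹ = (φ pz)⁻¹ := by
      rcases zline_wline_link.1 b hbz with e | e <;> rw [e] at hbe
      exacts [Or.inl hbe.symm, Or.inr (by rw [← hbe, map_inv])]
    obtain ⟨g', hg'N, e1, e2⟩ : ∃ g' ∈ N1, g' * φ pz * g'⁻¹ = φ pw ∧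
        (g' * φ pw * g'⁻¹ = φ pz ∨ g' * φ pw * g'⁻¹ = (φ pz)⁻¹) := by
      rcases zline_wline_link.2.1 a haw with e | e <;> rw [e] at hae
      · exact ⟨g, hgN, hae.symm, hb'⟩
      · refine ⟨φ pb * g, mul_mem (hNorm _ norm9_basic.2.2.2.2) hgN, ?_, ?_⟩
        · rw [show φ pb * g * φ pz * (φ pb * g)⁻¹ = φ pb * (g * φ pz * g⁻¹) * (φ pb)⁻¹ by group, ← hae]
          simp only [← map_inv, ← map_mul]
          rw [← conj_inv, b2, inv_inv]
        · rw [show φ pb * g * φ pw * (φ pb * g)⁻¹ = φ pb * (g * φ pw * g⁻¹) * (φ pb)⁻¹ by group]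
          rcases hb' with r | r <;> rw [r]
          · refine Or.inr ?_
            simp only [← map_inv, ← map_mul]
            rw [b1]
          · refine Or.inl ?_
            simp only [← map_inv, ← map_mul]
            rw [← conj_inv, b1, inv_inv]
    rcases e2 with e2 | e2
    · exact ⟨g', hg'N, e1, e2⟩
    · refine ⟨g' * φ pf, mul_mem hg'N (hNorm _ norm9_basic.1), ?_, ?_⟩
      · rw [show g' * φ pf * φ pz * (g' * φ pf)⁻¹ = g' * (φ pf * φ pz * (φ pf)⁻¹) * g'⁻¹ by group, ← map_inv φ pf,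
          ← map_mul, ← map_mul, f1]
        exact e1
      · rw [show g' * φ pf * φ pw * (g' * φ pf)⁻¹ = g' * (φ pf * φ pw * (φ pf)⁻¹) * g'⁻¹ by group, ← map_inv φ pf,
          ← map_mul, ← map_mul, f2, map_inv, ← conj_inv, e2, inv_inv]
  -- conjugation by `g1` is an involution on `⟨z, w⟩`
  have hex : ∀ x : G, Commute x (φ pz) → ∃ r : Pair, r * pz = pz * r ∧ φ r = x := by
    intro x hx
    obtain ⟨r, rfl⟩ : x ∈ φ.range := by
      rw [← hnorm]
      refine map_conj_normalizer fun y hy => ?_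
      obtain ⟨i, rfl⟩ := mem_zpowers_iff.1 hy
      rw [(hx.zpow_right i).eq, mul_inv_cancel_right]
      exact zpow_mem (mem_zpowers _) i
    exact ⟨r, hφ (by rw [map_mul, map_mul]; exact hx.eq), rfl⟩
  have hsqz : Commute (g1 * g1) (φ pz) ∧ Commute (g1 * g1) (φ pw) := by
    refine ⟨?_, ?_⟩ <;> show _ = _
    · calc g1 * g1 * φ pz = g1 * (g1 * φ pz * g1⁻¹) * g1 := by group
        _ = (g1 * φ pw * g1⁻¹) * (g1 * g1) := by rw [hg1z]; group
        _ = φ pz * (g1 * g1) := by rw [hg1w]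
    · calc g1 * g1 * φ pw = g1 * (g1 * φ pw * g1⁻¹) * g1 := by group
        _ = (g1 * φ pz * g1⁻¹) * (g1 * g1) := by rw [hg1w]; group
        _ = φ pw * (g1 * g1) := by rw [hg1z]
  obtain ⟨c, hcz, hce⟩ := hex _ hsqz.1
  have hc18 : c ∈ eighteen := centralize_nine18 c hcz (hφ (by rw [map_mul, map_mul, hce]; exact hsqz.2.eq))
  set x0 := φ pxx with hx0
  have hx0N : x0 ∈ N1 := hNorm _ norm9_basic.2.1
  obtain ⟨r, hrz, hre⟩ := hex (g1 * x0 * g1⁻¹) (by
    have : Commute x0 (φ pw) := by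
      show _ = _
      rw [hx0, ← map_mul, ← map_mul, basic_pairs.2.2.2.2.2.1]
    have := this.map (MulAut.conj g1).toMonoidHom
    simp only [MulEquiv.coe_toMonoidHom, MulAut.conj_apply, hg1w] at this
    exact this)
  have hr2 : r * r = 1 := hφ (by
    rw [map_mul, hre, conj_mul, hx0, ← map_mul, basic_pairs.2.2.2.2.1, map_one, mul_one, mul_inv_cancel])
  have hrw : r * pw * r⁻¹ = pw⁻¹ := hφ (by
    rw [map_mul, map_mul, map_inv, map_inv, hre, ← hg1z, conj_inv, conj_inv, conj_mul, conj_mul]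
    congr 2
    rw [hx0, ← map_inv, ← map_mul, ← map_mul, ← map_inv, basic_pairs.2.2.2.2.2.2.1])
  -- `g1 * g1` lies in `D`
  have hcnine : c ∈ nine := by
    by_contra hcn
    set qD : N1 →* N1 ⧸ D.subgroupOf N1 := QuotientGroup.mk' _ with hqD
    set gb : N1 := ⟨g1, hg1N⟩
    set xb : N1 := ⟨x0, hx0N⟩
    have hmemD : ∀ v : N1, qD v = 1 → ∃ s ∈ nine, φ s = (v : G) := fun v hv =>
      (hDmem _).1 (mem_subgroupOf.1 ((QuotientGroup.eq_one_iff v).1 hv))
    have e1 : ((gb * gb : N1) : G) = φ c := hce.symm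
    have e2 : ((gb * xb * (gb * xb) : N1) : G) = φ (r * c * pxx) := by
      show g1 * x0 * (g1 * x0) = _
      rw [map_mul, map_mul, hre, hce]; group
      rw [hx0]
    have hsgn : Perm.sign (r * c * pxx).1 = -1 := by
      rw [Prod.fst_mul, Prod.fst_mul, map_mul, map_mul, fst_sign.2.2.1 c hc18,
        fst_sign.1 r.1 (congrArg Prod.fst hrz), show pxx.1 = s3 from rfl, fst_sign.2.1, mul_one, one_mul]
    have hA : qD gb * qD gb ≠ 1 := by
      intro h
      rw [← map_mul] at h
      obtain ⟨s, hs, he⟩ := hmemD _ h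
      rw [e1] at he
      exact hcn (hφ he ▸ hs)
    have hB : qD (gb * xb) * qD (gb * xb) ≠ 1 := by
      intro h
      rw [← map_mul] at h
      obtain ⟨s, hs, he⟩ := hmemD _ h
      rw [e2] at he
      rw [← hφ he, fst_sign.2.2.2 s hs] at hsgn
      exact absurd hsgn (by decide)
    have heq : qD (gb * gb) = qD (gb * xb * (gb * xb)) := by
      have h := dihedral_unique_square (eN (qD gb)) (eN (qD (gb * xb)))
        (fun h => hA (eN.map_eq_one_iff.1 (by rw [map_mul]; exact h)))
        (fun h => hB (eN.map_eq_one_iff.1 (by rw [map_mul]; exact h)))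
      apply eN.injective
      rw [map_mul qD gb gb, map_mul qD (gb * xb) (gb * xb), map_mul eN, map_mul eN]
      exact h
    obtain ⟨s, hs, he⟩ := hmemD ((gb * gb)⁻¹ * (gb * xb * (gb * xb))) (by rw [map_mul, map_inv, heq, inv_mul_cancel])
    rw [Subgroup.coe_mul, Subgroup.coe_inv, e1, e2, ← map_inv, ← map_mul] at he
    have := congrArg (fun t : Pair => Perm.sign t.1) (hφ he)
    simp only [Prod.fst_mul, Prod.fst_inv, map_mul, map_inv, fst_sign.2.2.2 s hs, fst_sign.2.2.1 c hc18,
      inv_one, one_mul] at this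
    rw [fst_sign.1 r.1 (congrArg Prod.fst hrz), show pxx.1 = s3 from rfl, fst_sign.2.1] at this
    exact absurd this (by decide)
  -- make `g1` an involution
  set g2 := g1 * (g1 * g1) with hg2
  have hg22 : g2 * g2 = 1 := by
    have h6 : (g1 * g1) ^ 3 = 1 := by
      rw [← hce, ← map_pow]
      have : ∀ s ∈ nine, s ^ 3 = 1 := by decide +kernel
      rw [this c hcnine, map_one]
    calc g2 * g2 = (g1 * g1) ^ 3 := by rw [hg2]; simp only [pow_succ, pow_zero, one_mul]; group
      _ = 1 := h6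
  have hg2i : g2⁻¹ = g2 := inv_eq_of_mul_eq_one_left hg22
  have hg2z : g2 * φ pz * g2 = φ pw := by
    calc g2 * φ pz * g2 = g2 * φ pz * g2⁻¹ := by rw [hg2i]
      _ = g1 * ((g1 * g1) * φ pz * (g1 * g1)⁻¹) * g1⁻¹ := by rw [hg2]; group
      _ = φ pw := by rw [hsqz.1.eq, mul_inv_cancel_right, hg1z]
  set B0 : Base G := ⟨φ, hφ, hnorm, g2, hg22, hg2z, not27, hccm⟩ with hB0
  -- the image of the transposition of the first factor
  have hxw : Commute (B0.cg B0.xx) B0.z := by
    rw [B0.cg_commute_iff, B0.cg_z]; exact B0.φ_commute basic_pairs.2.2.2.2.2.1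
  obtain ⟨r2, hr2z, hr2e⟩ := B0.exists_of_commute_z hxw
  have hr2sq : r2 * r2 = 1 := B0.inj (by
    rw [map_mul, hr2e, ← map_mul, ← map_mul, basic_pairs.2.2.2.2.1, map_one, map_one])
  have hr2w : r2 * pw * r2⁻¹ = pw⁻¹ := B0.inj (by
    rw [map_mul, map_mul, map_inv, map_inv, hr2e, show B0.φ pw = B0.cg B0.z from B0.cg_z.symm, ← map_inv,
      ← map_mul, ← map_mul, ← map_inv]
    congr 1
    rw [← map_inv, ← map_mul, ← map_mul, ← map_inv, basic_pairs.2.2.2.2.2.2.1])
  have hr21 : r2.1 = 1 := fix_c3 r2.1 (congrArg Prod.fst hr2z) (congrArg Prod.fst hr2sq)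
  obtain ⟨k, hk, hkb⟩ := inverts_cases r2.2 (congrArg Prod.snd hr2sq) (congrArg Prod.snd hr2w)
  set kk : G := φ (1, k) with hkk
  have hkpz : ((1, k) : Pair) * pz = pz * (1, k) ∧ ((1, k) : Pair) * pw = pw * (1, k) ∧
      ((1, k) : Pair)⁻¹ * pxx * (1, k) = pxx := by
    simp only [Finset.mem_insert, Finset.mem_singleton] at hk
    rcases hk with rfl | rfl | rfl <;> decide +kernel
  have hg3 : kk * g2 * kk⁻¹ * (kk * g2 * kk⁻¹) = 1 := conj_sq hg22
  have hg3z : kk * g2 * kk⁻¹ * φ pz * (kk * g2 * kk⁻¹) = φ pw := by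
    have h1 : kk⁻¹ * φ pz * kk = φ pz := by
      rw [hkk, ← map_inv, ← map_mul, ← map_mul, mul_assoc, ← hkpz.1, inv_mul_cancel_left]
    have h2 : kk * φ pw * kk⁻¹ = φ pw := by
      rw [hkk, ← map_inv, ← map_mul, ← map_mul, hkpz.2.1, mul_inv_cancel_right]
    calc kk * g2 * kk⁻¹ * φ pz * (kk * g2 * kk⁻¹) = kk * (g2 * (kk⁻¹ * φ pz * kk) * g2) * kk⁻¹ := by group
      _ = φ pw := by rw [h1, hg2z, h2]
  set B : Base G := ⟨φ, hφ, hnorm, kk * g2 * kk⁻¹, hg3, hg3z, not27, hccm⟩ with hB
  have hxx : B.cg B.xx = φ ((1, k) * r2 * (1, k)⁻¹) := by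
    have h1 : kk⁻¹ * φ pxx * kk = φ pxx := by
      rw [hkk, ← map_inv, ← map_mul, ← map_mul, hkpz.2.2]
    rw [Base.cg_apply]
    show kk * g2 * kk⁻¹ * φ pxx * (kk * g2 * kk⁻¹) = _
    rw [show kk * g2 * kk⁻¹ * φ pxx * (kk * g2 * kk⁻¹) = kk * (g2 * (kk⁻¹ * φ pxx * kk) * g2) * kk⁻¹ by group, h1,
      map_mul, map_mul, map_inv, show φ r2 = g2 * φ pxx * g2 from hr2e]
  have hD9 : B.D9 = D := by
    ext x; rw [hDmem]; rfl
  refine ⟨B, ?_, ?_⟩
  · rcases hkb with e | e
    · exact Or.inl (hxx.trans (congrArg φ (Prod.ext (by simp [hr21, ps]) e)))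
    · exact Or.inr (hxx.trans (congrArg φ (Prod.ext (by simp [hr21, pf]) e)))
  · rw [hD9]
    refine ⟨eNC.toMonoidHom.comp (QuotientGroup.mk' _),
      eNC.surjective.comp (QuotientGroup.mk'_surjective _), fun x => ?_⟩
    rw [MonoidHom.comp_apply, MulEquiv.coe_toMonoidHom, eNC.map_eq_one_iff]
    exact (QuotientGroup.eq_one_iff x).trans mem_subgroupOf

end CfsgLib.Recog.EightThreeSym
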